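import Cfsg.Agent.Lib.U62Cent47.Main

/-!
The recognition of U6(2) in the form of the statement on involution centralisers.

Owner: helper47.
-/

set_option autoImplicit false

namespace Cfsg.Agent.Lib.U62Cent47

universe u

/-- U6(2) or `G = C(z) O(G)`, from the finite facts. -/
theorem row {G : Type u} [Group G] [Finite G] (facts : FactsProp) (z : G) (hz : orderOf z = 2)
    {F : Type*} [Field F] [Fintype F] (hF : Fintype.card F = 3) {K : Type*} [Field K] [Fintype K]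
    (hK : Fintype.card K = 4)
    (J₀ : Subgroup ↥(Cen z)) [J₀.Normal] (hJ : Cfsg.IsExtraspecial 2 ↥J₀) (hJc : Nat.card ↥J₀ = 2 ^ 9)
    (hCJ : Subgroup.centralizer (J₀ : Set ↥(Cen z)) ≤ J₀) (e : (↥(Cen z) ⧸ J₀) ≃* Cfsg.PSp 2 F) :
    Nonempty (G ≃* Cfsg.PSU 6 K 2) ∨ Cen z ⊔ Cfsg.oddCore G = ⊤ := by
  obtain ⟨C, hH, -⟩ := exists_ctx z hz hF J₀ hJ hJc hCJ e
  exact u62_or_split C facts hH hK

end Cfsg.Agent.Lib.U62Cent47
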