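import Cfsg.Agent.Lib.U62Recog47.Defs

/-!
U6(2) from an involution centraliser: what the fusion analysis hands to the endgame, and what the
endgame delivers.

Owner: helper47.
-/

set_option autoImplicit false

namespace Cfsg.Agent.Lib.U62Cent47

open Cfsg.Agent.Lib.U62Recog47

/-- the conjugates of `z` -/
def cls {G : Type*} [Group G] (z : G) : Set G := {x | ∃ g : G, g * z * g⁻¹ = x}

/-- The fusion analysis: the conjugates commuting with `z` form the perp set of a transvection of
U6(2), and the centraliser of a commuting pair has no odd core. -/
structure EndData {G : Type*} [Group G] (z : G) where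
  host : Host (cls z) z
  /-- the centraliser of `z` and of its product with a member of its perp set -/
  odd_free : ∀ x ∈ perp (cls z) z, ∀ O : Subgroup G, O ≤ Subgroup.centralizer ({z, x} : Set G) →
    Odd (Nat.card O) → Subgroup.centralizer ({z, x} : Set G) ≤ Subgroup.normalizer (O : Set G) → O = ⊥

/-- The endgame: the class is one component, generating PSU(6, 2). -/
def EndConclusion {G : Type*} [Group G] (z : G) : Prop :=
  cls z = comp (cls z) z ∧ Nonempty (↥(Subgroup.closure (cls z)) ≃* Cfsg.PSU 6 G24.K4 2)

end Cfsg.Agent.Lib.U62Cent47
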