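import Cfsg.Agent.Lib.U62Cent47.CoordSix
import Cfsg.Agent.Lib.U62Cent47.Iface
import Cfsg.Agent.Lib.U42.Main
import Cfsg.Agent.Lib.Extraspecial.Basic

/-!
An involution centraliser 2^{1+8}.SU(4, 2) in coordinates.

Owner: helper47.
-/

set_option autoImplicit false
set_option maxRecDepth 20000

open scoped commutatorElement

namespace Cfsg.Agent.Lib.U62Cent47

open Cfsg.Agent.Lib.Extraspecial

universe u

/-- the centraliser of `z` -/
abbrev Cen {G : Type u} [Group G] (z : G) : Subgroup G := Subgroup.centralizer ({z} : Set G)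

theorem mem_cen {G : Type u} [Group G] {z h : G} : h ∈ Cen z ↔ h * z = z * h :=
  Subgroup.mem_centralizer_singleton_iff

/-- the setting in coordinates -/
structure Ctx {G : Type u} [Group G] (z : G) where
  hz : orderOf z = 2
  /-- the part of the centraliser inducing SU(4, 2) on `J`; of index at most two -/
  H0 : Subgroup G
  H0_le : H0 ≤ Cen z
  H0_sq : ∀ h ∈ Cen z, h * h ∈ H0
  H0_conj : ∀ h ∈ Cen z, ∀ k ∈ H0, h * k * h⁻¹ ∈ H0
  H0_index : H0.relIndex (Cen z) ≤ 2
  J : Subgroup G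
  J_le : J ≤ H0
  z_mem : z ∈ J
  J_conj : ∀ h ∈ Cen z, ∀ j ∈ J, h * j * h⁻¹ ∈ J
  φ : ↥H0 →* SU4
  φ_surj : Function.Surjective φ
  φ_ker : ∀ h : ↥H0, φ h = 1 ↔ (h : G) ∈ J
  card_J : Nat.card J = 512
  self_cent : ∀ h ∈ Cen z, (∀ j ∈ J, Commute h j) → h ∈ J
  m : Nat
  hm : m < 3
  π : G → Nat
  π_lt : ∀ j ∈ J, π j < 256
  π_mul : ∀ a ∈ J, ∀ b ∈ J, π (a * b) = π a ^^^ π b
  π_eq_zero : ∀ a ∈ J, π a = 0 ↔ a = 1 ∨ a = z
  π_surj : ∀ n < 256, ∃ a ∈ J, π a = n
  sq : ∀ a ∈ J, a * a = if qB m (π a) then z else 1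
  comm : ∀ a ∈ J, ∀ b ∈ J, ⁅a, b⁆ = if bB m (π a) (π b) then z else 1
  act : ∀ (h : ↥H0) (w : List Nat), (∀ a ∈ w, a ∈ ptsL) → wS w = φ h →
    ∀ a ∈ J, π ((h : G) * a * (h : G)⁻¹) = wM m w (π a)

theorem center_SU4 : Subgroup.center SU4 = ⊥ :=
  Subgroup.card_eq_one.1 (by rw [Unitary.card_center_SU hF (by norm_num)]; norm_num)

/-- `SU(4, 2)` is its projective group -/
noncomputable def psuEquiv : SU4 ≃* Cfsg.PSU 4 G24.K4 2 :=
  MulEquiv.ofBijective (QuotientGroup.mk' (Subgroup.center SU4))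
    ⟨by rw [← MonoidHom.ker_eq_bot_iff, QuotientGroup.ker_mk', center_SU4],
      QuotientGroup.mk'_surjective _⟩

theorem simple_SU4 : IsSimpleGroup SU4 := by
  have := Unitary.isSimpleGroup_PSU (F := G24.K4) (q := 2) (n := 4) hF (by norm_num) (by norm_num)
  exact MulEquiv.isSimpleGroup psuEquiv

variable {E : Type u} [Group E] {zE : E}

/-- the exponent of a central element -/
def sgn [DecidableEq E] (x : E) : ZMod 2 := if x = 1 then 0 else 1

theorem cases_zpowers (h : ESData 2 zE) {x : E} (hx : x ∈ Subgroup.zpowers zE) : x = 1 ∨ x = zE := by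
  obtain ⟨k, rfl⟩ := hx
  rcases Int.even_or_odd k with ⟨t, rfl⟩ | ⟨t, rfl⟩
  · left
    show zE ^ (t + t) = 1
    rw [← two_mul, zpow_mul, show zE ^ (2 : ℤ) = 1 by exact_mod_cast h.z_pow, one_zpow]
  · right
    show zE ^ (2 * t + 1) = zE
    rw [zpow_add, zpow_mul, show zE ^ (2 : ℤ) = 1 by exact_mod_cast h.z_pow, one_zpow, one_mul, zpow_one]

theorem sgn_mul [DecidableEq E] (h : ESData 2 zE) {x y : E} (hx : x ∈ Subgroup.zpowers zE)
    (hy : y ∈ Subgroup.zpowers zE) : sgn (x * y) = sgn x + sgn y := by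
  have hz2 : zE * zE = 1 := by rw [← pow_two]; exact h.z_pow
  rcases cases_zpowers h hx with rfl | rfl <;> rcases cases_zpowers h hy with rfl | rfl <;>
    simp [sgn, hz2, h.z_ne] <;> decide

theorem comm_pow_two (h : ESData 2 zE) (a b : E) : ⁅a, b⁆ * ⁅a, b⁆ = 1 := by
  have hz2 : zE * zE = 1 := by rw [← pow_two]; exact h.z_pow
  rcases cases_zpowers h (h.comm_mem a b) with e | e <;> rw [e] <;> simp [hz2]

theorem sq_mul (h : ESData 2 zE) (a b : E) : (a * b) * (a * b) = a * a * ⁅a, b⁆ * (b * b) := by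
  have e : ⁅a⁻¹, b⁆ = ⁅a, b⁆ := by
    have := comm_mul_left h a⁻¹ a b
    rw [inv_mul_cancel, commutatorElement_one_left] at this
    rw [← mul_one ⁅a⁻¹, b⁆, ← comm_pow_two h a b, ← mul_assoc, ← this, one_mul]
  rw [← e, commutatorElement_def]
  group

theorem z2_polar : ∀ a b c x y w : ZMod 2,
    a + b + x + c + (y + w) + (a + b + x) + (a + c + y) + (b + c + w) + a + b + c = 0 := by decide

theorem z2_nondeg : ∀ x y c : ZMod 2, x + y + c + x + y = 0 → c = 0 := by decide

theorem z2_comm : ∀ (p r t : Bool) (s : ZMod 2),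
    (if p then 1 else 0 : ZMod 2) = (if r then 1 else 0) + (if t then 1 else 0) + s →
      s = if (p ^^ r ^^ t) then 1 else 0 := by decide

/-- A subgroup of squares of an involution centraliser with O₂ extraspecial of order 512,
self-centralising, and quotient PSp4(3) has coordinates. -/
theorem exists_ctx' {G : Type u} [Group G] [Finite G] (z : G) (hz : orderOf z = 2)
    {F : Type*} [Field F] [Fintype F] (hF3 : Fintype.card F = 3)
    (H0 : Subgroup G) (hle : H0 ≤ Cen z) (hH0sq : ∀ h ∈ Cen z, h * h ∈ H0)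
    (hH0conj : ∀ h ∈ Cen z, ∀ k ∈ H0, h * k * h⁻¹ ∈ H0) (hidx : H0.relIndex (Cen z) ≤ 2) (hzH : z ∈ H0)
    (J₀ : Subgroup ↥H0) [hJn : J₀.Normal]
    (hJ : Cfsg.IsExtraspecial 2 ↥J₀) (hJc : Nat.card ↥J₀ = 2 ^ 9)
    (hJconj : ∀ h ∈ Cen z, ∀ j ∈ J₀.map H0.subtype, h * j * h⁻¹ ∈ J₀.map H0.subtype)
    (hCJ : ∀ h ∈ Cen z, (∀ j ∈ J₀.map H0.subtype, Commute h j) → h ∈ J₀.map H0.subtype)
    (e : (↥H0 ⧸ J₀) ≃* Cfsg.PSp 2 F) :
    ∃ C : Ctx z, C.H0 = H0 ∧ C.J = J₀.map H0.subtype := by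
  classical
  have : Fact (Nat.Prime 2) := ⟨Nat.prime_two⟩
  obtain ⟨z₁, hes⟩ := exists_esData hJ
  set zc : ↥H0 := ⟨z, hzH⟩
  have hzc : ∀ h : ↥H0, h * zc = zc * h := fun h => Subtype.ext (mem_cen.1 (hle h.2))
  have hCJ0 : Subgroup.centralizer (J₀ : Set ↥H0) ≤ J₀ := fun h hh => by
    refine (Subgroup.mem_map_iff_mem H0.subtype_injective).1 (hCJ h (hle h.2) ?_)
    rintro _ ⟨j, hj, rfl⟩
    exact (congrArg Subtype.val (Subgroup.mem_centralizer_iff.1 hh j hj)).symm
  have hzJ : zc ∈ J₀ := hCJ0 (Subgroup.mem_centralizer_iff.2 fun j _ => (hzc j))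
  have hzne : zc ≠ 1 := fun e => by
    rw [show z = 1 from congrArg Subtype.val e, orderOf_one] at hz
    exact absurd hz (by norm_num)
  obtain rfl : z₁ = ⟨zc, hzJ⟩ := by
    have hc : (⟨zc, hzJ⟩ : J₀) ∈ Subgroup.zpowers z₁ :=
      (hes.mem_center _).1 (Subgroup.mem_center_iff.2 fun g => Subtype.ext (hzc g))
    rcases cases_zpowers hes hc with h | h
    · exact absurd (congrArg Subtype.val h) hzne
    · exact h.symm
  set zJ : J₀ := ⟨zc, hzJ⟩
  -- the quotient
  obtain ⟨i⟩ := U42.iso (F := G24.K4) (K := F) (by rw [G24.K4.card_eq]) hF3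
  let φ : ↥H0 →* SU4 :=
    (psuEquiv.symm.toMonoidHom.comp (i.symm.toMonoidHom.comp e.toMonoidHom)).comp (QuotientGroup.mk' J₀)
  have φ_surj : Function.Surjective φ := fun A => by
    obtain ⟨h, hh⟩ := QuotientGroup.mk'_surjective J₀ (e.symm (i (psuEquiv A)))
    refine ⟨h, ?_⟩
    show psuEquiv.symm (i.symm (e (QuotientGroup.mk' J₀ h))) = A
    rw [hh]; simp
  have φ_ker : ∀ h, φ h = 1 ↔ h ∈ J₀ := fun h => by
    show psuEquiv.symm (i.symm (e (QuotientGroup.mk' J₀ h))) = 1 ↔ _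
    rw [EmbeddingLike.map_eq_one_iff, EmbeddingLike.map_eq_one_iff, EmbeddingLike.map_eq_one_iff,
      QuotientGroup.mk'_apply, QuotientGroup.eq_one_iff]
  -- the module
  have hnorm : (Subgroup.zpowers zJ).Normal := ⟨fun x hx g => by
    have : x ∈ Subgroup.center J₀ := (hes.mem_center x).2 hx
    rw [Subgroup.mem_center_iff.1 this g, mul_inv_cancel_right]; exact hx⟩
  let Q := ↥J₀ ⧸ Subgroup.zpowers zJ
  let _instQ : CommGroup Q :=
    { (inferInstance : Group Q) with
      mul_comm := fun a b => by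
        induction a using QuotientGroup.induction_on with
        | _ a => induction b using QuotientGroup.induction_on with
          | _ b =>
            refine QuotientGroup.eq.2 ?_
            have hm := hes.comm_mem b⁻¹ a⁻¹
            rw [show (a * b)⁻¹ * (b * a) = ⁅b⁻¹, a⁻¹⁆ by rw [commutatorElement_def]; group]
            exact hm }
  have hq_eq : ∀ a b : J₀, (a : Q) = (b : Q) → sgn (a * a) = sgn (b * b) := by
    intro a b hab
    have hmem := QuotientGroup.eq.1 hab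
    have hb : b = a * (a⁻¹ * b) := by group
    rcases cases_zpowers hes hmem with h | h <;> rw [hb, h]
    · rw [mul_one]
    · congr 1
      rw [show a * zJ * (a * zJ) = a * (zJ * a) * zJ by group, ← commute_z hes a,
        show a * (a * zJ) * zJ = a * a * (zJ * zJ) by group, ← pow_two zJ, hes.z_pow, mul_one]
  have hsq : ∀ a : J₀, a * a ∈ Subgroup.zpowers zJ := fun a => pow_two a ▸ hes.pow_mem a
  let q : Additive Q → ZMod 2 := fun v => Quotient.liftOn' (Additive.toMul v) (fun a => sgn (a * a))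
    (fun a b h => hq_eq a b (Quotient.sound' h))
  have q_mk : ∀ a : J₀, q (Additive.ofMul (a : Q)) = sgn (a * a) := fun _ => rfl
  have q_add : ∀ a b : J₀, sgn ((a * b) * (a * b)) = sgn (a * a) + sgn (b * b) + sgn ⁅a, b⁆ := fun a b => by
    rw [sq_mul hes, sgn_mul hes (Subgroup.mul_mem _ (hsq a) (hes.comm_mem a b)) (hsq b),
      sgn_mul hes (hsq a) (hes.comm_mem a b)]
    ring
  have hcard : Nat.card Q = 256 := by
    have h1 := Subgroup.card_eq_card_quotient_mul_card_subgroup (Subgroup.zpowers zJ)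
    rw [hJc, Nat.card_zpowers, orderOf_eq_prime hes.z_pow hes.z_ne] at h1
    show Nat.card (↥J₀ ⧸ Subgroup.zpowers zJ) = 256
    omega
  have : Finite (Additive Q) := Nat.finite_of_card_ne_zero
    (by rw [show Nat.card (Additive Q) = 256 from hcard]; norm_num)
  let cj : ↥H0 → J₀ → J₀ := fun h a => ⟨h * a * h⁻¹, hJn.conj_mem a a.2 h⟩
  have cj_mul : ∀ h (a b : J₀), cj h (a * b) = cj h a * cj h b := fun h a b => Subtype.ext (by
    simp only [cj, Subgroup.coe_mul]; group)
  have cj_z : ∀ h, cj h zJ = zJ := fun h => Subtype.ext (by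
    show h * zc * h⁻¹ = zc
    rw [hzc, mul_inv_cancel_right])
  have cj_comm : ∀ h (a b : J₀), cj h ⁅a, b⁆ = ⁅cj h a, cj h b⁆ := fun h a b => Subtype.ext (by
    simp only [cj, commutatorElement_def, Subgroup.coe_mul, Subgroup.coe_inv]; group)
  have cj_zpow : ∀ h {x : J₀}, x ∈ Subgroup.zpowers zJ → cj h x = x := fun h {x} hx => by
    rcases cases_zpowers hes hx with rfl | rfl
    · exact Subtype.ext (by simp [cj])
    · exact cj_z h
  have cj_mem : ∀ {h : ↥H0}, h ∈ J₀ → ∀ a : J₀, (cj h a : Q) = (a : Q) := fun {h} hh a => by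
    refine QuotientGroup.eq.2 ?_
    have e : (cj h a)⁻¹ * a = ⁅(⟨h, hh⟩ : J₀), a⁻¹⁆ := Subtype.ext (by
      simp only [cj, commutatorElement_def, Subgroup.coe_mul, Subgroup.coe_inv]; group)
    rw [e]; exact hes.comm_mem _ _
  have cj_comp : ∀ h h' (a : J₀), cj (h * h') a = cj h (cj h' a) := fun h h' a => Subtype.ext (by
    simp only [cj]; group)
  let cQ : ↥H0 → Q → Q := fun h => Quotient.map' (cj h) (fun a b hab => by
    rw [QuotientGroup.leftRel_apply] at hab ⊢
    have : (cj h a)⁻¹ * cj h b = cj h (a⁻¹ * b) := Subtype.ext (by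
      simp only [cj, Subgroup.coe_mul, Subgroup.coe_inv]; group)
    rw [this, cj_zpow h hab]; exact hab)
  have cQ_mk : ∀ h (a : J₀), cQ h (a : Q) = (cj h a : Q) := fun _ _ => rfl
  have cQ_congr : ∀ h h', φ h = φ h' → cQ h = cQ h' := fun h h' he => funext fun v => by
    induction v using QuotientGroup.induction_on with
    | _ a =>
      rw [cQ_mk, cQ_mk]
      have hm : h'⁻¹ * h ∈ J₀ := (φ_ker _).1 (by rw [map_mul, map_inv, he, inv_mul_cancel])
      conv_lhs => rw [show h = h' * (h'⁻¹ * h) by group, cj_comp]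
      rw [← cQ_mk, cj_mem hm, cQ_mk]
  let act : SU4 → Additive Q → Additive Q := fun A v =>
    Additive.ofMul (cQ (Function.surjInv φ_surj A) (Additive.toMul v))
  have act_eq : ∀ h v, act (φ h) v = Additive.ofMul (cQ h (Additive.toMul v)) := fun h v => by
    show Additive.ofMul (cQ _ _) = _
    rw [cQ_congr _ h (Function.surjInv_eq φ_surj _)]
  have exists_a : ∀ v : Additive Q, ∃ a : J₀, v = Additive.ofMul (a : Q) := fun v => by
    obtain ⟨a, ha⟩ := QuotientGroup.mk_surjective (Additive.toMul v)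
    exact ⟨a, by rw [ha]; rfl⟩
  have act_mk : ∀ h (a : J₀), act (φ h) (Additive.ofMul (a : Q)) = Additive.ofMul (cj h a : Q) :=
    fun h a => act_eq h _
  have act_mul : ∀ A B v, act (A * B) v = act A (act B v) := fun A B v => by
    obtain ⟨h, rfl⟩ := φ_surj A; obtain ⟨h', rfl⟩ := φ_surj B
    obtain ⟨a, rfl⟩ := exists_a v
    rw [← map_mul, act_mk, act_mk, act_mk, cj_comp]
  have act_one : ∀ v, act 1 v = v := fun v => by
    obtain ⟨a, rfl⟩ := exists_a v
    rw [← map_one φ, act_mk]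
    exact congrArg (fun x : J₀ => Additive.ofMul (x : Q)) (Subtype.ext (by simp [cj]))
  have faithful : ∀ A, (∀ v, act A v = v) → A = 1 := by
    let N : Subgroup SU4 :=
      { carrier := {A | ∀ v, act A v = v}
        one_mem' := act_one
        mul_mem' := fun {A B} hA hB v => by rw [act_mul, hB, hA]
        inv_mem' := fun {A} hA v => by
          conv_lhs => rw [← hA v, ← act_mul, inv_mul_cancel, act_one] }
    have hN : N.Normal := ⟨fun A hA g v => by
      rw [act_mul, act_mul, hA, ← act_mul, mul_inv_cancel, act_one]⟩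
    have hexp : ∀ A ∈ N, A * A = 1 := by
      intro A hA
      obtain ⟨h, rfl⟩ := φ_surj A
      rw [← map_mul, φ_ker]
      refine hCJ0 (Subgroup.mem_centralizer_iff.2 fun j hj => ?_)
      have h1 : ∀ a : J₀, ∃ x ∈ Subgroup.zpowers zJ, cj h a = a * x := fun a => by
        have h2 := hA (Additive.ofMul (a : Q))
        rw [act_mk] at h2
        exact ⟨a⁻¹ * cj h a, QuotientGroup.eq.1 (Additive.ofMul.injective h2).symm, by group⟩
      obtain ⟨x, hx, e⟩ := h1 ⟨j, hj⟩
      have h2 : cj (h * h) ⟨j, hj⟩ = ⟨j, hj⟩ := by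
        rw [cj_comp, e, cj_mul, e, cj_zpow h hx, mul_assoc]
        rcases cases_zpowers hes hx with rfl | rfl
        · simp
        · rw [← pow_two zJ, hes.z_pow, mul_one]
      have := congrArg Subtype.val h2
      exact (mul_inv_eq_iff_eq_mul.1 this).symm
    have := simple_SU4
    intro A hA
    rcases hN.eq_bot_or_eq_top with h | h
    · exact Subgroup.mem_bot.1 (h ▸ (show A ∈ N from hA))
    · exfalso
      have h5 := hexp (wS g5W) (h ▸ Subgroup.mem_top _)
      have hne : eqW (g5W ++ g5W) [] = false := by decide +kernel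
      have : eqW (g5W ++ g5W) [] = true := by
        simp only [eqW, Bool.and_eq_true, List.all_eq_true, List.contains_iff_mem, beq_iff_eq]
        refine ⟨⟨by decide, by simp⟩, fun j hj => ?_⟩
        have h2 := wS_vec (w := g5W ++ g5W) (by decide) (2 ^ j)
        rw [wS_append, h5] at h2
        exact (U62Recog47.vec_inj (pow_lt (List.mem_range.1 hj)) (wN_lt _ (pow_lt (List.mem_range.1 hj)))
          ((Matrix.one_mulVec _).symm.trans h2)).symm
      rw [hne] at this
      exact Bool.noConfusion this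
  have hmk_add : ∀ a b : J₀, Additive.ofMul (a : Q) + Additive.ofMul (b : Q) = Additive.ofMul ((a * b : J₀) : Q) :=
    fun a b => rfl
  let R : Rep (Additive Q) :=
    { two := fun v => by
        obtain ⟨a, rfl⟩ := exists_a v
        rw [hmk_add]
        exact congrArg Additive.ofMul ((QuotientGroup.eq_one_iff _).2 (hsq a))
      card := hcard
      act := act
      act_one := act_one
      act_mul := act_mul
      act_add := fun A u v => by
        obtain ⟨h, rfl⟩ := φ_surj A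
        obtain ⟨a, rfl⟩ := exists_a u; obtain ⟨b, rfl⟩ := exists_a v
        rw [hmk_add, act_mk, act_mk, act_mk, hmk_add, cj_mul]
      faithful := faithful
      q := q
      q_act := fun A v => by
        obtain ⟨h, rfl⟩ := φ_surj A
        obtain ⟨a, rfl⟩ := exists_a v
        rw [act_mk, q_mk, q_mk, ← cj_mul, cj_zpow h (hsq a)]
      polar := fun u v w => by
        obtain ⟨a, rfl⟩ := exists_a u; obtain ⟨b, rfl⟩ := exists_a v; obtain ⟨c, rfl⟩ := exists_a w
        simp only [hmk_add, q_mk, q_add]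
        rw [comm_mul_left hes, sgn_mul hes (hes.comm_mem a c) (hes.comm_mem b c)]
        exact z2_polar _ _ _ _ _ _
      nondeg := fun u hu => by
        obtain ⟨a, rfl⟩ := exists_a u
        refine congrArg Additive.ofMul ((QuotientGroup.eq_one_iff _).2 ((hes.mem_center a).1
          (Subgroup.mem_center_iff.2 fun b => ?_)))
        have hb := hu (Additive.ofMul (b : Q))
        rw [hmk_add, q_mk, q_mk, q_mk, q_add] at hb
        have hc := z2_nondeg _ _ _ hb
        have h1 : ⁅a, b⁆ = 1 := by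
          by_contra h1
          simp [sgn, h1] at hc
        exact (commutatorElement_eq_one_iff_mul_comm.1 h1).symm }
  obtain ⟨C⟩ := exists_coord R
  choose pre pre_lt pre_eq using C.surj
  let πJ : J₀ → Nat := fun a => pre (Additive.ofMul (a : Q))
  let π : G → Nat := fun g =>
    if hg : g ∈ H0 then (if hg' : (⟨g, hg⟩ : ↥H0) ∈ J₀ then πJ ⟨⟨g, hg⟩, hg'⟩ else 0) else 0
  have π_val : ∀ a : J₀, π ((a : ↥H0) : G) = πJ a := fun a => by
    show dite _ _ _ = _
    rw [dif_pos a.1.2, dif_pos (by exact a.2)]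
  have πJ_spec : ∀ a : J₀, C.ψ (πJ a) = Additive.ofMul (a : Q) := fun a => pre_eq _
  have ψ0 : C.ψ 0 = 0 := by
    have h := C.ψ_xor 0 0
    rw [Nat.xor_self] at h
    exact left_eq_add.1 h
  have memJ : ∀ {a : G}, a ∈ J₀.map H0.subtype → ∃ a' : J₀, ((a' : ↥H0) : G) = a := by
    rintro a ⟨h, hh, rfl⟩; exact ⟨⟨h, hh⟩, rfl⟩
  have valG : ∀ {a b : J₀}, a = b → ((a : ↥H0) : G) = ((b : ↥H0) : G) := fun e => by rw [e]
  have hqB : ∀ a : J₀, sgn (a * a) = if qB C.m (πJ a) then 1 else 0 := fun a => by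
    rw [← q_mk, ← πJ_spec]; exact C.q_eq _ (pre_lt _)
  have hval : ∀ (x : J₀) (b : Bool), x ∈ Subgroup.zpowers zJ → sgn x = (if b then 1 else 0) →
      ((x : ↥H0) : G) = if b then z else 1 := fun x b hx hs => by
    rcases cases_zpowers hes hx with rfl | rfl <;> cases b <;> simp [sgn, hes.z_ne] at hs ⊢
    rfl
  refine ⟨{ hz := hz, H0 := H0, H0_le := hle, H0_sq := hH0sq, H0_conj := hH0conj, H0_index := hidx,
            J := J₀.map H0.subtype, J_le := ?_, z_mem := ⟨zc, hzJ, rfl⟩, J_conj := hJconj,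
            φ := φ, φ_surj := φ_surj, φ_ker := ?_, card_J := ?_, self_cent := hCJ, m := C.m, hm := C.hm,
            π := π, π_lt := ?_, π_mul := ?_, π_eq_zero := ?_, π_surj := ?_, sq := ?_, comm := ?_, act := ?_ },
          rfl, rfl⟩
  · rintro _ ⟨h, -, rfl⟩; exact h.2
  · intro h
    rw [φ_ker]
    exact (Subgroup.mem_map_iff_mem H0.subtype_injective).symm
  · rw [Subgroup.card_map_of_injective H0.subtype_injective, hJc]; norm_num
  · intro a ha
    obtain ⟨a, rfl⟩ := memJ ha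
    rw [π_val]; exact pre_lt _
  · intro a ha b hb
    obtain ⟨a, rfl⟩ := memJ ha; obtain ⟨b, rfl⟩ := memJ hb
    rw [← Subgroup.coe_mul, ← Subgroup.coe_mul, π_val, π_val, π_val]
    refine C.inj _ _ (pre_lt _) (xor_lt8 (pre_lt _) (pre_lt _)) ?_
    rw [πJ_spec, C.ψ_xor, πJ_spec, πJ_spec, hmk_add]
  · intro a ha
    obtain ⟨a, rfl⟩ := memJ ha
    rw [π_val]
    constructor
    · intro h
      have h1 := πJ_spec a
      rw [h, ψ0] at h1
      rcases cases_zpowers hes ((QuotientGroup.eq_one_iff a).1 (congrArg Additive.toMul h1).symm) with e | e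
      · exact Or.inl (valG e)
      · exact Or.inr (valG e)
    · intro h
      refine C.inj _ _ (pre_lt _) (by norm_num) ?_
      rw [πJ_spec, ψ0]
      refine congrArg Additive.ofMul ((QuotientGroup.eq_one_iff a).2 ?_)
      rcases h with h | h
      · rw [show a = 1 from Subtype.ext (Subtype.ext h)]; exact one_mem _
      · rw [show a = zJ from Subtype.ext (Subtype.ext h)]; exact Subgroup.mem_zpowers _
  · intro n hn
    obtain ⟨a, ha⟩ := exists_a (C.ψ n)
    refine ⟨_, ⟨a.1, a.2, rfl⟩, ?_⟩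
    show π ((a : ↥H0) : G) = n
    rw [π_val]
    exact C.inj _ _ (pre_lt _) hn (by rw [πJ_spec, ← ha])
  · intro a ha
    obtain ⟨a, rfl⟩ := memJ ha
    rw [π_val, ← Subgroup.coe_mul, ← Subgroup.coe_mul]
    exact hval _ _ (hsq a) (hqB a)
  · intro a ha b hb
    obtain ⟨a, rfl⟩ := memJ ha; obtain ⟨b, rfl⟩ := memJ hb
    rw [π_val, π_val, show ⁅((a : ↥H0) : G), ((b : ↥H0) : G)⁆ = ((⁅a, b⁆ : J₀) : ↥H0).1 by
      simp only [commutatorElement_def, Subgroup.coe_mul, Subgroup.coe_inv]]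
    refine hval _ _ (hes.comm_mem a b) ?_
    have hab : πJ (a * b) = πJ a ^^^ πJ b := C.inj _ _ (pre_lt _) (xor_lt8 (pre_lt _) (pre_lt _))
      (by rw [πJ_spec, C.ψ_xor, πJ_spec, πJ_spec, hmk_add])
    have h := q_add a b
    rw [hqB, hqB, hqB, hab] at h
    exact z2_comm _ _ _ _ h
  · intro h w hw hwS a ha
    obtain ⟨a, rfl⟩ := memJ ha
    rw [π_val, show (h : G) * ((a : ↥H0) : G) * (h : G)⁻¹ = ((cj h a : J₀) : ↥H0).1 from rfl, π_val]
    refine C.inj _ _ (pre_lt _) (wM_lt _ _ (pre_lt _)) ?_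
    rw [πJ_spec, ← C.act_word w hw _ (pre_lt _), πJ_spec]
    show _ = act (wS w) _
    rw [hwS, act_mk]

/-- An involution centraliser with O₂ extraspecial of order 512, self-centralising, and quotient PSp4(3)
has coordinates. -/
theorem exists_ctx {G : Type u} [Group G] [Finite G] (z : G) (hz : orderOf z = 2)
    {F : Type*} [Field F] [Fintype F] (hF3 : Fintype.card F = 3)
    (J₀ : Subgroup ↥(Cen z)) [hJn : J₀.Normal]
    (hJ : Cfsg.IsExtraspecial 2 ↥J₀) (hJc : Nat.card ↥J₀ = 2 ^ 9)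
    (hCJ : Subgroup.centralizer (J₀ : Set ↥(Cen z)) ≤ J₀)
    (e : (↥(Cen z) ⧸ J₀) ≃* Cfsg.PSp 2 F) :
    ∃ C : Ctx z, C.H0 = Cen z ∧ C.J = J₀.map (Cen z).subtype := by
  refine exists_ctx' z hz hF3 (Cen z) le_rfl (fun h hh => mul_mem hh hh)
    (fun h hh k hk => mul_mem (mul_mem hh hk) (inv_mem hh)) (by rw [Subgroup.relIndex_self]; norm_num) (mem_cen.2 rfl) J₀ hJ hJc ?_ ?_ e
  · rintro g hg _ ⟨h, hh, rfl⟩
    exact ⟨⟨g, hg⟩ * h * ⟨g, hg⟩⁻¹, hJn.conj_mem h hh _, rfl⟩
  · intro g hg hcomm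
    exact ⟨⟨g, hg⟩, hCJ (Subgroup.mem_centralizer_iff.2 fun j hj =>
      Subtype.ext (hcomm _ ⟨j, hj, rfl⟩).eq.symm), rfl⟩

end Cfsg.Agent.Lib.U62Cent47
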