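import Cfsg.Agent.Lib.U62Cent47.Ctx
import Cfsg.Agent.Lib.U62Cent47.Iface

/-!
The outcome of the fusion analysis of an involution centraliser 2^{1+8}.SU(4, 2).

Owner: helper47.
-/

set_option autoImplicit false

namespace Cfsg.Agent.Lib.U62Cent47

open Cfsg.Agent.Lib.U62Recog47

universe u

/-- `z` commutes with no other conjugate of itself -/
def Isolated {G : Type u} [Group G] (z : G) : Prop := ∀ x ∈ cls z, Commute x z → x = z

/-- The commuting conjugates: four over each transvection, outside `J`. -/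
structure Fused {G : Type u} [Group G] {z : G} (C : Ctx z) where
  endData : EndData z
  nonempty : (perp (cls z) z).Nonempty
  inner : ∀ x ∈ perp (cls z) z, x ∈ C.H0 ∧ x ∉ C.J
  transv : ∀ x ∈ perp (cls z) z, ∀ hx : x ∈ C.H0, ∃ a ∈ ptsL, C.φ ⟨x, hx⟩ = tC a
  orbit : ∀ x ∈ perp (cls z) z, {a : G | ∃ j ∈ C.J, j * x * j⁻¹ = a}.ncard = 4

end Cfsg.Agent.Lib.U62Cent47
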