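import Cfsg.Agent.Lib.U62Cent47.Linear

/-!
The finite facts on SU(4, 2) and its coded modules used by the fusion analysis, as propositions.

Owner: helper47.
-/

set_option autoImplicit false
set_option maxRecDepth 20000

namespace Cfsg.Agent.Lib.U62Cent47

open Cfsg.Agent.Lib.U62Recog47

/-- a word all of whose letters are among the forty-five points -/
def OkW (w : List Nat) : Prop := ∀ a ∈ w, a ∈ ptsL

/-- a set of codes closed under sums -/
structure Sub256 (N : Finset Nat) : Prop where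
  lt : ∀ x ∈ N, x < 256
  zero : 0 ∈ N
  add : ∀ x ∈ N, ∀ y ∈ N, x ^^^ y ∈ N

/-- orbits: one class of isotropic vectors, two classes in the six-dimensional module -/
def OrbitProp : Prop :=
  (∀ n < 256, n ≠ 0 → qB 2 n = false → ∃ w, OkW w ∧ wN w 5 = n) ∧
    ∀ y < 64, y ≠ 0 → ∃ w, OkW w ∧ w6 w (bif qB 0 y then 1 else 5) = y

/-- an involution is a transvection or has a totally isotropic plane of fixed points equal to its image -/
def InvProp : Prop :=
  ∀ w, OkW w → wS w * wS w = 1 → wS w ≠ 1 →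
    (∃ a ∈ ptsL, wS w = tC a) ∨
      (((List.range 256).filter fun n => wN w n == n).length = 16 ∧
        (∀ n < 256, wN w n = n → ∃ k < 256, wN w k ^^^ k = n) ∧
        (∀ k < 256, wN w (wN w k ^^^ k) = wN w k ^^^ k) ∧
        ∀ x < 256, ∀ y < 256, wN w x = x → wN w y = y → bB 2 x y = false ∧ qB 2 x = false)

/-- the fixed points of involutions and of elements of order four in the coded modules -/
def FixProp : Prop :=
  (∀ w, OkW w → wS w * wS w = 1 → wS w ≠ 1 → ∀ m < 3,
      ((List.range 256).filter fun n => wM m w n == n).length ≤ 64 ∧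
        (m < 2 → ((List.range 256).filter fun n => wM m w n == n).length = 64)) ∧
    ∀ w, OkW w → orderOf (wS w) = 4 → ∀ m < 2,
      ((List.range 256).filter fun n => wM m w n == n).length = 16

/-- the 2-rank is four -/
def RankProp : Prop :=
  ∀ E : Subgroup SU4, (∀ x ∈ E, x * x = 1) → Nat.card E ≤ 16

/-- the product of two different commuting transvections is not a transvection -/
def TvProdProp : Prop :=
  ∀ a ∈ ptsL, ∀ b ∈ ptsL, ∀ c ∈ ptsL, Commute (tC a) (tC b) → tC a * tC b = tC c → False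

/-- no involution commutes with an element of order five -/
def FiveProp : Prop :=
  ∀ A B : SU4, orderOf A = 2 → orderOf B = 5 → ¬ Commute A B

/-- normal elementary 2-subgroups of the stabiliser of the vector 5 -/
def StabProp : Prop :=
  ∀ E : Subgroup SU4, (∀ x ∈ E, x * x = 1) → (∀ x ∈ E, Matrix.mulVec (matOf x) (vec 5) = vec 5) →
    (∀ a ∈ stabN, ∀ x ∈ E, tC a * x * tC a ∈ E) → Nat.card E ≤ 8 ∧ (E ≠ ⊥ → tC 5 ∈ E)

/-- invariant totally isotropic subgroups through a vector -/
def IsotropicProp : Prop :=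
  (∀ N, Sub256 N → 5 ∈ N → (∀ a ∈ stabN, ∀ x ∈ N, tN a x ∈ N) →
      (∀ x ∈ N, ∀ y ∈ N, bB 2 x y = false) →
      N.card ≤ 16 ∧ (8 ≤ N.card → ∀ u < 256, bB 2 5 u = false →
        (∀ a ∈ stabN, tN a u ^^^ u ∈ N) → u ∈ N)) ∧
    ∀ m < 2, ∀ v < 256, v ≠ 0 → qB m v = false → ∀ N, Sub256 N → v ∈ N →
      (∀ w, OkW w → wM m w v = v → ∀ x ∈ N, wM m w x ∈ N) →
      (∀ x ∈ N, ∀ y ∈ N, bB m x y = false) → N.card ≤ 4

/-- An invariant subgroup of the fixed plane of a rank two involution is trivial or contains an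
orthogonal pair: two members and a preimage of the second orthogonal to the first.  (The plane itself
has invariant subgroups of order four.) -/
def IrredProp : Prop :=
  ∀ w, OkW w → wS w * wS w = 1 → ((List.range 256).filter fun n => wN w n == n).length = 16 →
    ∀ K, Sub256 K → (∀ x ∈ K, wN w x = x) →
      (∀ v, OkW v → wS v * wS w = wS w * wS v → ∀ x ∈ K, wN v x ∈ K) → K.card = 1 ∨
        ∃ k₁ ∈ K, ∃ k₂ ∈ K, ∃ j < 256,
          k₁ ≠ 0 ∧ k₂ ≠ 0 ∧ k₁ ≠ k₂ ∧ wN w j ^^^ j = k₂ ∧ bB 2 k₁ j = false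

/-- all of them -/
def FactsProp : Prop :=
  OrbitProp ∧ InvProp ∧ FixProp ∧ RankProp ∧ TvProdProp ∧ FiveProp ∧ StabProp ∧ IsotropicProp ∧ IrredProp

end Cfsg.Agent.Lib.U62Cent47
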