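import Cfsg.Agent.Lib.U62Cent47.Ctx
import Cfsg.Agent.Lib.U62Cent47.FactsSpec

/-!
Counting with the coordinates: subsets of `J` by their codes, orbits and centralisers.

Owner: helper47.
-/

set_option autoImplicit false
set_option maxRecDepth 20000

open scoped commutatorElement

namespace Cfsg.Agent.Lib.U62Cent47

universe u

variable {G : Type u} [Group G] {z : G} (C : Ctx z)

include C in
theorem Ctx.z_mul_self : z * z = 1 := by
  have := pow_orderOf_eq_one z
  rwa [C.hz, pow_two] at this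

include C in
theorem Ctx.z_inv : z⁻¹ = z := inv_eq_of_mul_eq_one_right C.z_mul_self

include C in
theorem Ctx.z_ne_one : z ≠ 1 := fun e => by
  have := C.hz; rw [e, orderOf_one] at this; exact absurd this (by norm_num)

theorem Ctx.J_cen {a : G} (ha : a ∈ C.J) : a ∈ Cen z := C.H0_le (C.J_le ha)

theorem Ctx.comm_z {a : G} (ha : a ∈ C.J) : a * z = z * a := mem_cen.1 (C.J_cen ha)

theorem Ctx.z_mem_H0 : z ∈ C.H0 := C.J_le C.z_mem

theorem Ctx.π_one : C.π 1 = 0 := (C.π_eq_zero 1 (one_mem _)).2 (Or.inl rfl)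

theorem Ctx.π_z : C.π z = 0 := (C.π_eq_zero z C.z_mem).2 (Or.inr rfl)

theorem Ctx.π_inv {a : G} (ha : a ∈ C.J) : C.π a⁻¹ = C.π a := by
  have h := C.π_mul a ha a⁻¹ (inv_mem ha)
  rw [mul_inv_cancel, C.π_one] at h
  exact (Nat.xor_eq_zero_iff.1 h.symm).symm

theorem Ctx.π_eq_iff {a b : G} (ha : a ∈ C.J) (hb : b ∈ C.J) : C.π a = C.π b ↔ b = a ∨ b = a * z := by
  constructor
  · intro h
    have h2 := (C.π_eq_zero (a⁻¹ * b) (mul_mem (inv_mem ha) hb)).1 (by
      rw [C.π_mul _ (inv_mem ha) _ hb, C.π_inv ha, h, Nat.xor_self])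
    rcases h2 with e | e
    · exact Or.inl (inv_mul_eq_one.1 e).symm
    · exact Or.inr (by rw [← e]; group)
  · rintro (rfl | rfl)
    · rfl
    · rw [C.π_mul a ha z C.z_mem, C.π_z, Nat.xor_zero]

/-- every element of the centraliser has a word -/
theorem Ctx.exists_word (h : ↥C.H0) : ∃ w, OkW w ∧ wS w = C.φ h := by
  obtain ⟨w, hw, e⟩ := U62Cent47.exists_word (C.φ h)
  exact ⟨w, fun a ha => gen_pts a (hw a ha), e⟩

/-- every word lifts -/
theorem Ctx.exists_lift (A : SU4) : ∃ h, ∃ hh : h ∈ C.H0, C.φ ⟨h, hh⟩ = A := by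
  obtain ⟨⟨h, hh⟩, e⟩ := C.φ_surj A
  exact ⟨h, hh, e⟩

/-- the conjugate of a member of `J` in coordinates -/
theorem Ctx.π_conj {h : G} (hh : h ∈ C.H0) {w : List Nat} (hw : OkW w) (e : wS w = C.φ ⟨h, hh⟩)
    {a : G} (ha : a ∈ C.J) : C.π (h * a * h⁻¹) = wM C.m w (C.π a) := C.act ⟨h, hh⟩ w hw e a ha

theorem Ctx.π_conj_J {j a : G} (hj : j ∈ C.J) (ha : a ∈ C.J) : C.π (j * a * j⁻¹) = C.π a := by
  have := C.π_conj (C.J_le hj) (w := []) (fun _ h => absurd h List.not_mem_nil)
    (by rw [(C.φ_ker ⟨j, C.J_le hj⟩).2 hj]; rfl) ha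
  simpa [wM] using this

theorem Ctx.commute_iff {a b : G} (ha : a ∈ C.J) (hb : b ∈ C.J) :
    Commute a b ↔ bB C.m (C.π a) (C.π b) = false := by
  have h := C.comm a ha b hb
  rw [commute_iff_eq, ← commutatorElement_eq_one_iff_mul_comm, h]
  cases bB C.m (C.π a) (C.π b)
  · simp
  · simp [C.z_ne_one]

theorem Ctx.conj_eq {a b : G} (ha : a ∈ C.J) (hb : b ∈ C.J) :
    a * b * a⁻¹ = if bB C.m (C.π a) (C.π b) then z * b else b := by
  have h := C.comm a ha b hb
  rw [commutatorElement_def] at h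
  have e : a * b * a⁻¹ = (a * b * a⁻¹ * b⁻¹) * b := by group
  rw [e, h]
  cases bB C.m (C.π a) (C.π b) <;> simp

theorem Ctx.inv_eq_self {a : G} (ha : a ∈ C.J) (hq : qB C.m (C.π a) = false) : a⁻¹ = a :=
  inv_eq_of_mul_eq_one_right (by rw [C.sq a ha, hq]; rfl)

variable [Finite G]

/-- a subset of `J` cut out by codes -/
theorem Ctx.card_code (p : Nat → Bool) :
    {a : G | a ∈ C.J ∧ p (C.π a) = true}.ncard = 2 * ((List.range 256).filter p).length := by
  classical
  have := Fintype.ofFinite G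
  set L := ((List.range 256).filter p).toFinset with hL
  have hlen : L.card = ((List.range 256).filter p).length :=
    List.toFinset_card_of_nodup (List.Nodup.filter _ List.nodup_range)
  have hmem : ∀ {n}, n ∈ L ↔ n < 256 ∧ p n = true := fun {n} => by
    rw [hL, List.mem_toFinset, List.mem_filter, List.mem_range]
  set S := Finset.univ.filter fun a : G => a ∈ C.J ∧ p (C.π a) = true with hS
  have e : {a : G | a ∈ C.J ∧ p (C.π a) = true} = ↑S := by
    rw [hS, Finset.coe_filter]; simp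
  have hf : ∀ n ∈ L, (S.filter fun a => C.π a = n).card = 2 := fun n hn => by
    obtain ⟨a, ha, hπ⟩ := C.π_surj n (hmem.1 hn).1
    have : (S.filter fun a => C.π a = n) = {a, a * z} := by
      ext b
      simp only [hS, Finset.mem_filter, Finset.mem_univ, true_and, Finset.mem_insert, Finset.mem_singleton]
      exact ⟨fun h => (C.π_eq_iff ha h.1.1).1 (hπ.trans h.2.symm), fun h => by
        have hb : b ∈ C.J ∧ C.π b = n := by
          rcases h with rfl | rfl
          · exact ⟨ha, hπ⟩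
          · exact ⟨mul_mem ha C.z_mem, by rw [C.π_mul a ha z C.z_mem, C.π_z, Nat.xor_zero, hπ]⟩
        exact ⟨⟨hb.1, by rw [hb.2]; exact (hmem.1 hn).2⟩, hb.2⟩⟩
    rw [this, Finset.card_pair fun e => C.z_ne_one (left_eq_mul.1 e)]
  rw [e, Set.ncard_coe_finset, Finset.card_eq_sum_card_fiberwise (f := C.π) (t := L)
    (fun a ha => hmem.2 ⟨C.π_lt a (Finset.mem_filter.1 ha).2.1, (Finset.mem_filter.1 ha).2.2⟩),
    Finset.sum_congr rfl hf, Finset.sum_const, smul_eq_mul, hlen, mul_comm]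

/-- the centraliser of `z` and `x` -/
def cenPair (z x : G) : Subgroup G := Cen z ⊓ Cen x

omit [Finite G] in
theorem mem_cenPair {x h : G} : h ∈ cenPair z x ↔ h * z = z * h ∧ h * x = x * h := by
  rw [cenPair, Subgroup.mem_inf, mem_cen, mem_cen]

omit [Finite G] in
/-- orbit and stabiliser in a subgroup acting by conjugation -/
theorem card_orbit_mul (K : Subgroup G) (x : G) :
    {a : G | ∃ h ∈ K, h * x * h⁻¹ = a}.ncard * Nat.card ↥(K ⊓ Cen x) = Nat.card ↥K := by
  classical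
  let f : ↥K → G := fun h => (h : G) * x * (h : G)⁻¹
  have e1 : {a : G | ∃ h ∈ K, h * x * h⁻¹ = a} = Set.range f := by
    ext a; exact ⟨fun ⟨h, hh, e⟩ => ⟨⟨h, hh⟩, e⟩, fun ⟨h, e⟩ => ⟨h.1, h.2, e⟩⟩
  let S : Subgroup ↥K := (K ⊓ Cen x).subgroupOf K
  have hS : ∀ a b : ↥K, f a = f b ↔ a⁻¹ * b ∈ S := by
    intro a b
    rw [Subgroup.mem_subgroupOf, Subgroup.mem_inf, mem_cen]
    constructor
    · intro e
      refine ⟨(a⁻¹ * b).2, ?_⟩
      simp only [f] at e
      calc ((a⁻¹ * b : ↥K) : G) * x = (a : G)⁻¹ * ((b : G) * x * (b : G)⁻¹) * b := by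
            simp only [Subgroup.coe_mul, Subgroup.coe_inv]; group
        _ = _ := by rw [← e]; simp only [Subgroup.coe_mul, Subgroup.coe_inv]; group
    · rintro ⟨-, e⟩
      simp only [Subgroup.coe_mul, Subgroup.coe_inv] at e
      simp only [f]
      calc (a : G) * x * (a : G)⁻¹ = a * (x * ((a : G)⁻¹ * b)) * (b : G)⁻¹ := by group
        _ = _ := by rw [← e]; group
  let g : ↥K ⧸ S → Set.range f := Quotient.lift (fun a => ⟨f a, a, rfl⟩) fun a b hab =>
    Subtype.ext ((hS a b).2 (QuotientGroup.leftRel_apply.1 hab))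
  have hg : Function.Bijective g := by
    constructor
    · intro p q e
      induction p using QuotientGroup.induction_on with
      | _ a => induction q using QuotientGroup.induction_on with
        | _ b => exact QuotientGroup.eq.2 ((hS a b).1 (congrArg Subtype.val e))
    · rintro ⟨_, a, rfl⟩; exact ⟨(a : ↥K ⧸ S), rfl⟩
  have h1 := Subgroup.card_eq_card_quotient_mul_card_subgroup S
  rw [Nat.card_congr (Equiv.ofBijective g hg),
    Nat.card_congr (Subgroup.subgroupOfEquivOfLe (show K ⊓ Cen x ≤ K from inf_le_left)).toEquiv,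
    Nat.card_coe_set_eq, ← e1] at h1
  exact h1.symm

omit [Finite G] in
/-- the centraliser of a commuting pair from the other side -/
theorem card_cenPair_star {g : G} :
    Nat.card ↥(cenPair z (g * z * g⁻¹)) = Nat.card ↥(cenPair z (g⁻¹ * z * g)) := by
  refine Nat.card_congr
    { toFun := fun h => ⟨g⁻¹ * h.1 * g, ?_⟩
      invFun := fun h => ⟨g * h.1 * g⁻¹, ?_⟩
      left_inv := fun h => Subtype.ext (by group)
      right_inv := fun h => Subtype.ext (by group) }
  · obtain ⟨h1, h2⟩ := mem_cenPair.1 h.2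
    refine mem_cenPair.2 ⟨?_, ?_⟩
    · calc g⁻¹ * h.1 * g * z = g⁻¹ * (h.1 * (g * z * g⁻¹)) * g := by group
        _ = _ := by rw [h2]; group
    · calc g⁻¹ * h.1 * g * (g⁻¹ * z * g) = g⁻¹ * (h.1 * z) * g := by group
        _ = _ := by rw [h1]; group
  · obtain ⟨h1, h2⟩ := mem_cenPair.1 h.2
    refine mem_cenPair.2 ⟨?_, ?_⟩
    · calc g * h.1 * g⁻¹ * z = g * (h.1 * (g⁻¹ * z * g)) * g⁻¹ := by group
        _ = _ := by rw [h2]; group
    · calc g * h.1 * g⁻¹ * (g * z * g⁻¹) = g * (h.1 * z) * g⁻¹ := by group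
        _ = _ := by rw [h1]; group

omit [Finite G] in
theorem star_mem {g : G} (h : g * z * g⁻¹ ∈ Cen z) : g⁻¹ * z * g ∈ Cen z := by
  rw [mem_cen] at h ⊢
  calc g⁻¹ * z * g * z = g⁻¹ * (z * (g * z * g⁻¹)) * g := by group
    _ = g⁻¹ * (g * z * g⁻¹ * z) * g := by rw [h]
    _ = _ := by group

end Cfsg.Agent.Lib.U62Cent47
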