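/-!
Certificates identifying the faithful eight-dimensional modules of SU(4, 2) that carry an invariant form.

Owner: helper47.
-/

set_option autoImplicit false
set_option maxRecDepth 20000

namespace Cfsg.Agent.Lib.U62Cent47

/-- generators of the monomial group -/
def monL : List Nat :=
  [5, 20, 80, 7]

/-- the diagonal group of order 27, by exponents (ternary, first is most significant) -/
def aL : List (List Nat) :=
  [[], [20, 80, 5, 20, 5, 7, 20, 80, 5, 20], [20, 80, 5, 20, 7, 5, 20, 80, 5, 20], [5, 20, 5, 7, 20,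
  5], [80, 5, 20, 5, 7, 20, 80, 5], [80, 5, 20, 7, 80, 5, 20, 7, 80, 5, 20, 5], [5, 20, 7, 5, 20,
  5], [5, 20, 7, 80, 20, 5, 7, 20, 80, 5, 20, 5], [80, 5, 20, 7, 5, 20, 80, 5], [5, 7], [80, 20, 5,
  7, 20, 80, 5, 20, 7, 5, 20, 5], [80, 20, 7, 5, 20, 7, 80, 20, 5, 7, 20, 5], [20, 5, 7, 20], [80,
  20, 5, 7, 20, 80], [80, 20, 7, 80, 5, 20, 7, 80, 5, 20], [20, 7, 5, 20, 7, 5], [80, 20, 5, 7, 20,
  80, 5, 20, 5, 7, 20, 5], [80, 20, 7, 5, 20, 7, 80, 5], [7, 5], [7, 20, 80, 5, 20, 5, 7, 20, 80,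
  5, 20, 5], [7, 20, 80, 5, 20, 7, 5, 20, 80, 5, 20, 5], [7, 20, 5, 7, 20, 5], [7, 80, 20, 5, 7,
  20, 80, 5], [80, 20, 7, 20, 80, 5, 20, 7, 80, 5, 20, 5], [20, 7, 5, 20], [20, 7, 80, 20, 5, 7,
  20, 80, 5, 20], [80, 20, 7, 5, 20, 80]]

/-- its thirteen maximal subgroups -/
def kerL : List (List Nat) :=
  [[0, 3, 6, 9, 12, 15, 18, 21, 24], [0, 1, 2, 9, 10, 11, 18, 19, 20], [0, 5, 7, 9, 14, 16, 18, 23,
  25], [0, 4, 8, 9, 13, 17, 18, 22, 26], [0, 1, 2, 3, 4, 5, 6, 7, 8], [0, 3, 6, 11, 14, 17, 19, 22,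
  25], [0, 3, 6, 10, 13, 16, 20, 23, 26], [0, 1, 2, 15, 16, 17, 21, 22, 23], [0, 5, 7, 11, 13, 15,
  19, 21, 26], [0, 4, 8, 10, 14, 15, 20, 21, 25], [0, 1, 2, 12, 13, 14, 24, 25, 26], [0, 4, 8, 11,
  12, 16, 19, 23, 24], [0, 5, 7, 10, 12, 17, 20, 22, 24]]

/-- a maximal subgroup of the first kind -/
def kNat : Nat :=
  4

/-- a maximal subgroup of the second kind -/
def kSix : Nat :=
  1

/-- a maximal subgroup of the third kind -/
def kDiff : Nat :=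
  2

/-- conjugacy of the maximal subgroups: subgroup, model, word, inverse, image of the exponents -/
def kOrb : List (Nat × Nat × List Nat × List Nat × List Nat) :=
  [(0, 4, [80, 20, 5], [5, 20, 80], [0, 3, 6, 9, 12, 15, 18, 21, 24, 26, 20, 23, 8, 2, 5, 17, 11, 14,
  13, 16, 10, 22, 25, 19, 4, 7, 1]), (3, 4, [20, 5], [5, 20], [0, 4, 8, 9, 13, 17, 18, 22, 26, 24,
  19, 23, 6, 1, 5, 15, 10, 14, 12, 16, 11, 21, 25, 20, 3, 7, 2]), (10, 4, [5], [5], [0, 1, 2, 12,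
  13, 14, 24, 25, 26, 18, 19, 20, 3, 4, 5, 15, 16, 17, 9, 10, 11, 21, 22, 23, 6, 7, 8]), (6, 1, [5,
  20], [20, 5], [0, 13, 26, 24, 1, 14, 12, 25, 2, 3, 16, 20, 18, 4, 17, 15, 19, 5, 6, 10, 23, 21,
  7, 11, 9, 22, 8]), (11, 1, [20], [20], [0, 4, 8, 6, 1, 5, 3, 7, 2, 12, 16, 11, 9, 13, 17, 15, 10,
  14, 24, 19, 23, 21, 25, 20, 18, 22, 26]), (5, 2, [5, 20], [20, 5], [0, 13, 26, 24, 1, 14, 12, 25,
  2, 3, 16, 20, 18, 4, 17, 15, 19, 5, 6, 10, 23, 21, 7, 11, 9, 22, 8]), (7, 2, [20, 7, 80, 20],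
  [20, 7, 80, 20], [0, 9, 18, 26, 8, 17, 13, 22, 4, 1, 10, 19, 24, 6, 15, 14, 23, 5, 2, 11, 20, 25,
  7, 16, 12, 21, 3]), (8, 2, [80, 20], [20, 80], [0, 3, 6, 8, 2, 5, 4, 7, 1, 13, 16, 10, 9, 12, 15,
  17, 11, 14, 26, 20, 23, 22, 25, 19, 18, 21, 24]), (9, 2, [7, 80, 20], [20, 7, 80], [0, 12, 24,
  26, 2, 14, 13, 25, 1, 4, 16, 19, 18, 3, 15, 17, 20, 5, 8, 11, 23, 22, 7, 10, 9, 21, 6]), (12, 2,
  [20], [20], [0, 4, 8, 6, 1, 5, 3, 7, 2, 12, 16, 11, 9, 13, 17, 15, 10, 14, 24, 19, 23, 21, 25,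
  20, 18, 22, 26])]

/-- an element scaling the first line -/
def bNat : Nat :=
  9

/-- an element scaling the first pairing line -/
def bSix : Nat :=
  3

/-- permutations carrying the first line to the others -/
def pivN : List (List Nat) :=
  [[], [5], [20, 5], [80, 20, 5]]

/-- elements fixing the base vector -/
def fixN : List (List Nat) :=
  [[20], [80], [20, 80, 5, 20, 5, 7, 20, 80, 5, 20], [20, 80, 5, 20, 7, 5, 20, 80, 5, 20], [5, 20, 5,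
  7, 20, 5], [80, 5, 20, 5, 7, 20, 80, 5], [80, 5, 20, 7, 80, 5, 20, 7, 80, 5, 20, 5], [5, 20, 7,
  5, 20, 5], [5, 20, 7, 80, 20, 5, 7, 20, 80, 5, 20, 5], [80, 5, 20, 7, 5, 20, 80, 5]]

/-- generator, basis vector, line, power, element fixing the base vector -/
def certN : List (Nat × Nat × Nat × Nat × List Nat) :=
  [(5, 0, 1, 0, []), (5, 1, 1, 1, []), (5, 2, 0, 0, []), (5, 3, 0, 1, []), (5, 4, 2, 0, [0]), (5, 5,
  2, 1, [4, 0]), (5, 6, 3, 0, [0]), (5, 7, 3, 1, [4, 0]), (20, 0, 0, 0, [0]), (20, 1, 0, 1, [4,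
  0]), (20, 2, 2, 0, []), (20, 3, 2, 1, []), (20, 4, 1, 0, []), (20, 5, 1, 1, []), (20, 6, 3, 0,
  [1]), (20, 7, 3, 1, [1]), (80, 0, 0, 0, [1]), (80, 1, 0, 1, [1]), (80, 2, 1, 0, [1]), (80, 3, 1,
  1, [1]), (80, 4, 3, 0, []), (80, 5, 3, 1, []), (80, 6, 2, 0, []), (80, 7, 2, 1, []), (7, 0, 1, 1,
  []), (7, 1, 1, 2, []), (7, 2, 0, 2, []), (7, 3, 0, 0, []), (7, 4, 2, 0, [7, 0]), (7, 5, 2, 1,
  [0]), (7, 6, 3, 0, [7, 0]), (7, 7, 3, 1, [0])]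

/-- permutations carrying the first line to the others -/
def pivS : List (List Nat) :=
  [[], [20], [80, 20]]

/-- elements fixing the base vector -/
def fixS : List (List Nat) :=
  [[5], [80], [20, 80, 5, 20], [20, 80, 5, 20, 5, 7, 20, 80, 5, 20], [20, 80, 5, 20, 7, 5, 20, 80, 5,
  20], [5, 7], [80, 20, 5, 7, 20, 80, 5, 20, 7, 5, 20, 5], [80, 20, 7, 5, 20, 7, 80, 20, 5, 7, 20,
  5], [7, 5], [7, 20, 80, 5, 20, 5, 7, 20, 80, 5, 20, 5], [7, 20, 80, 5, 20, 7, 5, 20, 80, 5, 20,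
  5]]

/-- generator, basis vector, line, power, element fixing the base vector -/
def certS : List (Nat × Nat × Nat × Nat × List Nat) :=
  [(5, 0, 0, 0, [0]), (5, 1, 0, 1, [5, 0]), (5, 2, 2, 0, [2]), (5, 3, 2, 2, [10, 2]), (5, 4, 1, 0,
  [2]), (5, 5, 1, 2, [10, 2]), (20, 0, 1, 0, []), (20, 1, 1, 1, []), (20, 2, 0, 0, []), (20, 3, 0,
  1, []), (20, 4, 2, 0, [1]), (20, 5, 2, 1, [3, 1]), (80, 0, 0, 0, [1]), (80, 1, 0, 1, [3, 1]),
  (80, 2, 2, 0, []), (80, 3, 2, 1, []), (80, 4, 1, 0, []), (80, 5, 1, 1, []), (7, 0, 0, 0, [8, 0]),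
  (7, 1, 0, 1, [0]), (7, 2, 2, 2, [8, 2]), (7, 3, 2, 1, [7, 2]), (7, 4, 1, 2, [8, 2]), (7, 5, 1, 1,
  [7, 2])]

/-- an element of order five -/
def g5W : List Nat :=
  [85, 65, 17, 6]

/-- two conjugations whose images of g5W multiply to the transvection 5 -/
def perfW : List (List Nat × List Nat) :=
  [([18], [18]), ([125, 91], [96, 91])]

/-- the element scaling three coordinates -/
def cIdx : Nat :=
  15

/-- an element commuting with it -/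
def m3W : List Nat :=
  [101, 95]

/-- the last generator in terms of the monomial group and m3W -/
def w85 : List Nat :=
  [101, 95, 20, 7, 5, 20, 80, 101, 95, 20, 7, 101, 95]

end Cfsg.Agent.Lib.U62Cent47
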