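import Cfsg.Agent.Lib.U62Cent47.Ident

/-!
The last generator is forced, and so is the form: the module is one of the three coded models.

Owner: helper47.
-/

set_option autoImplicit false
set_option maxRecDepth 20000

namespace Cfsg.Agent.Lib.U62Cent47

variable {V : Type*} [AddCommGroup V] (R : Rep V)

/-- the linear map with given images -/
def linX (im : List Nat) (n : Nat) : Nat :=
  (List.range 8).foldr (fun j r => (bif n.testBit j then im.getD j 0 else 0) ^^^ r) 0

/-- the images of the basis determined by those of the base vector and its multiple -/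
def imgs (m : Nat) (piv : List (List Nat)) (extra : List Nat) (n₁ n₂ : Nat) : List Nat :=
  piv.flatMap (fun p => [wM m p n₁, wM m p n₂]) ++ extra

/-- the test on a candidate -/
def candOk (m : Nat) (im : List Nat) : Bool :=
  (List.range 8).all (fun j =>
    linX im (linX im (2 ^ j)) == 2 ^ j &&
      linX im (wM m [7] (linX im (wM m [7] (linX im (wM m [7] (2 ^ j)))))) == 2 ^ j) &&
    (List.range 8).any fun j => !(im.getD j 0 == 2 ^ j)

/-- all candidates that pass are the last generator -/
def search (m : Nat) (piv : List (List Nat)) (st₁ st₂ : List (List Nat)) (extra : List Nat) : Bool :=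
  (List.range 256).all fun n₁ => !(st₁.all fun s => wM m s n₁ == n₁) ||
    (List.range 256).all fun n₂ => !(st₂.all fun s => wM m s n₂ == n₂) ||
      !(candOk m (imgs m piv extra n₁ n₂)) ||
      imgs m piv extra n₁ n₂ == (List.range 8).map fun j => wM m [85] (2 ^ j)

/-- stabilisers of the base vector and of its multiple -/
def stN : List (List Nat) := [[20], [80]]

/-- stabilisers of the multiple of the base vector -/
def stS : List (List Nat) := [[5], [80]]

theorem searchN_ok : search 2 pivN stN stN [] = true := by decide +kernel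

theorem searchS0_ok : search 0 pivS (wFlip :: stS) stS [64, 128] = true := by decide +kernel

theorem searchS1_ok : search 1 pivS (wFlip :: stS) stS [64, 128] = true := by decide +kernel

/-- the generator 85 commutes with the permutations -/
def commChk (piv : List (List Nat)) (st : List (List Nat)) : Bool :=
  (piv ++ st).all (fun w => w.all (fun a => a == 5 || a == 20 || a == 80) && eqW ([85] ++ w) (w ++ [85])) &&
    piv.all (fun w => w.all fun a => monL.contains a)

theorem commN_ok : commChk pivN stN = true := by decide +kernel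

theorem commS_ok : commChk pivS (wFlip :: stS) = true := by decide +kernel

theorem rel85_ok : eqW [85, 85] [] = true ∧ eqW [85, 7, 85, 7, 85, 7] [] = true ∧
    eqW [85] [] = false := by decide +kernel

theorem linX_psi (B : Nat → V) {im : List Nat} {X : V → V} (hX0 : X 0 = 0)
    (hXadd : ∀ u v, X (u + v) = X u + X v) (hB : ∀ j < 8, X (B j) = psi B (im.getD j 0)) (n : Nat)
    (hadd : ∀ x y, psi B (x ^^^ y) = psi B x + psi B y) : X (psi B n) = psi B (linX im n) := by
  show X ((List.map _ _).sum) = psi B (List.foldr _ _ _)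
  have key : ∀ l : List Nat, (∀ j ∈ l, j < 8) →
      X (l.map fun j => bif n.testBit j then B j else 0).sum =
        psi B (l.foldr (fun j r => (bif n.testBit j then im.getD j 0 else 0) ^^^ r) 0) := by
    intro l
    induction l with
    | nil => exact fun _ => by simp [hX0, psi_zero]
    | cons j l ih =>
      intro hl
      rw [List.map_cons, List.sum_cons, hXadd, ih fun k hk => hl k (List.mem_cons_of_mem _ hk),
        List.foldr_cons, hadd]
      congr 1
      cases n.testBit j
      · simp [hX0, psi_zero]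
      · exact hB j (hl j List.mem_cons_self)
  exact key _ fun j hj => List.mem_range.1 hj

include R in
theorem psi_inj [Finite V] (B : Nat → V) (hsurj : ∀ v, ∃ n < 256, psi B n = v) :
    ∀ x y, x < 256 → y < 256 → psi B x = psi B y → x = y := by
  intro x y hx hy e
  have hs : Function.Surjective fun i : Fin 256 => psi B i.1 := fun v => by
    obtain ⟨n, hn, h⟩ := hsurj v; exact ⟨⟨n, hn⟩, h⟩
  have hb := (Nat.bijective_iff_surjective_and_card (fun i : Fin 256 => psi B i.1)).2
    ⟨hs, by rw [Nat.card_eq_fintype_card, Fintype.card_fin, R.card]⟩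
  exact congrArg Fin.val (hb.1 (a₁ := ⟨x, hx⟩) (a₂ := ⟨y, hy⟩) e)

/-- all generators act as in the model -/
theorem gens_eqv [Finite V] {m : Nat} {B : Nat → V} {piv : List (List Nat)} {st₁ st₂ : List (List Nat)}
    {extra : List Nat} (hx : ∀ i, extra.getD i 0 < 256) (hs : search m piv st₁ st₂ extra = true) (hc : commChk piv st₁ = true)
    (hsurj : ∀ v, ∃ n < 256, psi B n = v) (hmon : ∀ g ∈ monL, Eqv R m B [g])
    (hsub : ∀ s ∈ st₂, s ∈ st₁)
    (hlen : piv.length * 2 + extra.length = 8)
    (hpiv : ∀ j < piv.length * 2, B j = R.wa (piv.getD (j / 2) []) (B (j % 2)))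
    (hextra : ∀ i < extra.length, R.wa [85] (B (piv.length * 2 + i)) = psi B (extra.getD i 0))
    (hst₁ : ∀ s ∈ st₁, R.wa s (B 0) = B 0) (hst₂ : ∀ s ∈ st₂, R.wa s (B 1) = B 1) :
    ∀ a ∈ genL, Eqv R m B [a] := by
  intro a ha
  by_cases hm : a ∈ monL
  · exact hmon a hm
  have h85 : a = 85 := by revert hm; revert a; decide
  subst h85
  simp only [commChk, Bool.and_eq_true, List.all_eq_true, Bool.or_eq_true, beq_iff_eq,
    List.contains_iff_mem] at hc
  have hw : ∀ w ∈ piv ++ st₁, Eqv R m B w ∧ ∀ v, R.wa [85] (R.wa w v) = R.wa w (R.wa [85] v) :=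
    fun w hw => ⟨eqv_word R m B fun g hg => hmon g (by
      rcases (hc.1 w hw).1 g hg with (rfl | rfl) | rfl <;> decide),
      fun v => by rw [← R.wa_append, R.wa_eqW (hc.1 w hw).2, R.wa_append]⟩
  obtain ⟨n₁, hn₁, e₁⟩ := hsurj (R.wa [85] (B 0))
  obtain ⟨n₂, hn₂, e₂⟩ := hsurj (R.wa [85] (B 1))
  have hinj := psi_inj R B hsurj
  have hfix : ∀ (st : List (List Nat)) (n i : Nat), (∀ s ∈ st, s ∈ st₁) → n < 256 →
      psi B n = R.wa [85] (B i) → (∀ s ∈ st, R.wa s (B i) = B i) →
      (st.all fun s => wM m s n == n) = true := by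
    intro st n i hst hn e hfx
    rw [List.all_eq_true]
    intro s hs'
    have h := hw s (List.mem_append_right _ (hst s hs'))
    refine beq_iff_eq.2 (hinj _ _ (wM_lt m s hn) hn ?_)
    rw [← h.1 n hn, e, ← h.2, hfx s hs']
  set im := imgs m piv extra n₁ n₂ with him
  have hget : ∀ j < piv.length * 2, im.getD j 0 = wM m (piv.getD (j / 2) []) (if j % 2 = 0 then n₁ else n₂) := by
    intro j hj
    rw [him, imgs]
    clear hpiv hw hc hs hsurj hinj hfix him im hextra hlen hst₁ hst₂
    induction piv generalizing j with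
    | nil => simp at hj
    | cons p l ih =>
      rw [List.flatMap_cons]
      match j with
      | 0 => simp
      | 1 => simp
      | j + 2 =>
        rw [List.length_cons] at hj
        have := ih j (by omega)
        simp only [List.cons_append, List.nil_append, List.getD_cons_succ, Nat.add_mod_right,
          show (j + 2) / 2 = j / 2 + 1 by omega] at this ⊢
        exact this
  have hB : ∀ j < 8, R.wa [85] (B j) = psi B (im.getD j 0) := by
    intro j hj
    by_cases hj' : j < piv.length * 2
    · have hp : piv.getD (j / 2) [] ∈ piv ++ st₁ := by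
        rw [List.getD_eq_getElem _ _ (by omega)]
        exact List.mem_append_left _ (List.getElem_mem _)
      obtain ⟨h1, h2⟩ := hw _ hp
      rw [hpiv j hj', h2, hget j hj']
      rcases Nat.mod_two_eq_zero_or_one j with e | e
      · rw [e, if_pos rfl, ← e₁, h1 n₁ hn₁]
      · rw [e, if_neg (by norm_num), ← e₂, h1 n₂ hn₂]
    · obtain ⟨i, rfl⟩ := Nat.exists_eq_add_of_le (Nat.not_lt.1 hj')
      rw [hextra i (by omega)]
      congr 1
      rw [him, imgs, List.getD_append_right _ _ _ _ (by
        simp [List.length_flatMap]), ]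
      congr 1
      simp [List.length_flatMap]
  have hX : ∀ n, R.wa [85] (psi B n) = psi B (linX im n) := fun n =>
    linX_psi B (R.wa_zero _) (R.wa_add _) hB n (psi_xor R B)
  have h7 := hmon 7 (by decide)
  have hlt : ∀ n, linX im n < 256 := by
    intro n
    have him8 : ∀ j, im.getD j 0 < 256 := by
      intro j
      by_cases hj : j < piv.length * 2
      · rw [hget j hj]; exact wM_lt m _ (by split_ifs <;> assumption)
      · by_cases hj8 : j < 8
        · obtain ⟨i, rfl⟩ := Nat.exists_eq_add_of_le (Nat.not_lt.1 hj)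
          rw [him, imgs, List.getD_append_right _ _ _ _ (by simp [List.length_flatMap])]
          simp only [List.length_flatMap, List.length_cons, List.length_nil,
            List.map_const', List.sum_replicate, smul_eq_mul, Nat.add_sub_cancel_left]
          exact hx i
        · rw [List.getD_eq_default _ _ (by
            simp [him, imgs, List.length_flatMap]; omega)]
          norm_num
    unfold linX
    induction List.range 8 with
    | nil => norm_num
    | cons j l ih =>
      rw [List.foldr_cons]
      refine xor_lt8 ?_ ih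
      cases n.testBit j
      · exact Nat.zero_lt_succ _
      · exact him8 j
  have hcand : candOk m im = true := by
    simp only [candOk, Bool.and_eq_true, List.all_eq_true, List.any_eq_true, beq_iff_eq,
      Bool.not_eq_true', beq_eq_false_iff_ne, List.mem_range]
    refine ⟨fun j hj => ⟨hinj _ _ (hlt _) (pow_lt hj) ?_, hinj _ _ (hlt _) (pow_lt hj) ?_⟩, ?_⟩
    · rw [← hX, ← hX, ← R.wa_append, show ([85] : List Nat) ++ [85] = [85, 85] from rfl,
        R.wa_eqW rel85_ok.1, R.wa_nil]
    · have e7 : ∀ k, k < 256 → psi B (wM m [7] k) = R.wa [7] (psi B k) := fun k hk => (h7 k hk).symm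
      rw [← hX, e7 _ (hlt _), ← hX, e7 _ (hlt _), ← hX, e7 _ (pow_lt hj)]
      simp only [← R.wa_append]
      rw [show ([85] : List Nat) ++ ([7] ++ ([85] ++ ([7] ++ ([85] ++ [7])))) = [85, 7, 85, 7, 85, 7] from rfl,
        R.wa_eqW rel85_ok.2.1, R.wa_nil]
    · by_contra hcon
      push Not at hcon
      have hid : ∀ v, R.wa [85] v = v := by
        intro v
        obtain ⟨n, -, rfl⟩ := hsurj v
        exact linX_psi B rfl (fun _ _ => rfl) (X := fun v => v)
          (fun j hj => by rw [hcon j hj, psi_pow B hj]) n (psi_xor R B) ▸ hX n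
      have h1 := R.faithful _ hid
      have : eqW [85] [] = true := by
        simp only [eqW, Bool.and_eq_true, List.all_eq_true, List.contains_iff_mem, beq_iff_eq]
        refine ⟨⟨by decide, by simp⟩, fun j hj => ?_⟩
        have h2 := wS_vec (w := [85]) (by decide) (2 ^ j)
        rw [h1] at h2
        exact (U62Recog47.vec_inj (pow_lt (List.mem_range.1 hj)) (wN_lt _ (pow_lt (List.mem_range.1 hj)))
          ((Matrix.one_mulVec _).symm.trans h2)).symm
      rw [rel85_ok.2.2] at this
      exact Bool.noConfusion this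
  have hs' := List.all_eq_true.1 hs n₁ (List.mem_range.2 hn₁)
  rw [hfix st₁ n₁ 0 (fun _ h => h) hn₁ e₁ hst₁, Bool.not_true, Bool.false_or] at hs'
  have hs'' := List.all_eq_true.1 hs' n₂ (List.mem_range.2 hn₂)
  rw [hfix st₂ n₂ 1 hsub hn₂ e₂ hst₂, Bool.not_true, Bool.false_or, ← him, hcand, Bool.not_true,
    Bool.false_or, beq_iff_eq] at hs''
  refine eqv_of_basis R m B fun j hj => ?_
  rw [hB j hj, hs'']
  congr 1
  rw [List.getD_eq_getElem _ _ (by simpa using hj), List.getElem_map, List.getElem_range]

/-- a bit as a number mod 2 -/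
def bit2 (b : Bool) : ZMod 2 := if b then 1 else 0

theorem bit2_xor (a b : Bool) : bit2 (a ^^ b) = bit2 a + bit2 b := by
  cases a <;> cases b <;> decide

/-- the polar form -/
def Rep.bil (u v : V) : ZMod 2 := R.q (u + v) + R.q u + R.q v

theorem Rep.bil_comm (u v : V) : R.bil u v = R.bil v u := by
  unfold Rep.bil; rw [add_comm u v]; ring

theorem Rep.bil_add (u v w : V) : R.bil (u + v) w = R.bil u w + R.bil v w := by
  have h := R.polar u v w
  have h2 : ∀ x : ZMod 2, x + x = 0 := by decide
  unfold Rep.bil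
  linear_combination h - h2 (R.q (u + w)) - h2 (R.q (v + w)) - h2 (R.q u) - h2 (R.q v) - h2 (R.q w)

theorem Rep.q_zero : R.q 0 = 0 := by
  have h := R.polar 0 0 0
  simp only [add_zero] at h
  have key : ∀ x : ZMod 2, x + x + x + x + x + x + x = 0 → x = 0 := by decide
  exact key _ h

theorem Rep.bil_zero (v : V) : R.bil 0 v = 0 := by
  unfold Rep.bil; rw [zero_add, R.q_zero]
  have key : ∀ x : ZMod 2, x + 0 + x = 0 := by decide
  exact key _

theorem Rep.bil_act (A : SU4) (u v : V) : R.bil (R.act A u) (R.act A v) = R.bil u v := by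
  unfold Rep.bil; rw [← R.act_add, R.q_act, R.q_act, R.q_act]

/-- a fixed vector is orthogonal to a moved one -/
theorem Rep.bil_orth {t : Nat} (ht : t < 27) {x y : V} (hy : R.wa (aW t) y = y)
    (hx : x + R.wa (aW t) x + R.wa (aW (addT t t)) x = 0) : R.bil x y = 0 := by
  have h := R.add_cancel _ _ hx
  rw [← R.wa_aW ht ht] at h
  set z := R.wa (aW t) x
  have hxe : x = R.wa (aW t) z + z := by rw [← h, add_assoc, R.two, add_zero]
  have hinv : R.bil (R.wa (aW t) z) y = R.bil z y := by
    conv_lhs => rw [← hy]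
    exact R.bil_act _ _ _
  rw [hxe, R.bil_add, hinv]
  exact CharTwo.add_self_eq_zero _

/-- the data on the basis from which the form follows -/
theorem q_formula {m : Nat} (hm : m < 3) {B : Nat → V}
    (hq : ∀ j < 8, R.q (B j) = bit2 (qB m (2 ^ j)))
    (hb : ∀ i < 8, ∀ j < 8, i ≠ j → R.bil (B i) (B j) = bit2 (bB m (2 ^ i) (2 ^ j))) :
    ∀ n < 256, R.q (psi B n) = bit2 (qB m n) := by
  have hlin : ∀ m < 3, ∀ j < 8, ∀ k < 8, ∀ r < 2 ^ k,
      bB m (2 ^ j) (2 ^ k ^^^ r) = (bB m (2 ^ j) (2 ^ k) ^^ bB m (2 ^ j) r) := by decide +kernel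
  have hdef : ∀ m < 3, qB m 0 = false ∧ ∀ j < 8, bB m (2 ^ j) 0 = false := by decide +kernel
  have hbil : ∀ j < 8, ∀ k ≤ j, ∀ n < 2 ^ k, R.bil (B j) (psi B n) = bit2 (bB m (2 ^ j) n) := by
    intro j hj k
    induction k with
    | zero =>
      intro _ n hn
      obtain rfl : n = 0 := by omega
      rw [psi_zero, R.bil_comm, R.bil_zero, (hdef m hm).2 j hj]; rfl
    | succ k ih =>
      intro hk n hn
      by_cases hn' : n < 2 ^ k
      · exact ih (by omega) n hn'
      have hr : (2 ^ k ^^^ n) < 2 ^ k := by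
        have hbit : n.testBit k = true := by
          rw [Nat.testBit_eq_decide_div_mod_eq]
          have h1 : n / 2 ^ k = 1 := Nat.div_eq_of_lt_le (by omega) (by rw [pow_succ] at hn; omega)
          simp [h1]
        apply Nat.lt_pow_two_of_testBit
        intro i hi
        rw [Nat.testBit_xor, Nat.testBit_two_pow]
        rcases Nat.lt_or_eq_of_le hi with h | h
        · rw [Nat.testBit_lt_two_pow (lt_of_lt_of_le hn (Nat.pow_le_pow_right (by norm_num) h))]
          simp [Nat.ne_of_lt h]
        · subst h; simp [hbit]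
      have e : n = 2 ^ k ^^^ (2 ^ k ^^^ n) := by rw [← Nat.xor_assoc, Nat.xor_self, Nat.zero_xor]
      rw [e, psi_xor R, R.bil_comm, R.bil_add, R.bil_comm, R.bil_comm _ (B j), psi_pow B (by omega),
        hb j hj k (by omega) (by omega), ih (by omega) _ hr,
        hlin m hm j hj k (by omega) _ hr, bit2_xor]
  have key : ∀ k ≤ 8, ∀ n < 2 ^ k, R.q (psi B n) = bit2 (qB m n) := by
    intro k
    induction k with
    | zero =>
      intro _ n hn
      obtain rfl : n = 0 := by omega
      rw [psi_zero, R.q_zero, (hdef m hm).1]; rfl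
    | succ k ih =>
      intro hk n hn
      by_cases hn' : n < 2 ^ k
      · exact ih (by omega) n hn'
      have hr : (2 ^ k ^^^ n) < 2 ^ k := by
        have hbit : n.testBit k = true := by
          rw [Nat.testBit_eq_decide_div_mod_eq]
          have h1 : n / 2 ^ k = 1 := Nat.div_eq_of_lt_le (by omega) (by rw [pow_succ] at hn; omega)
          simp [h1]
        apply Nat.lt_pow_two_of_testBit
        intro i hi
        rw [Nat.testBit_xor, Nat.testBit_two_pow]
        rcases Nat.lt_or_eq_of_le hi with h | h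
        · rw [Nat.testBit_lt_two_pow (lt_of_lt_of_le hn (Nat.pow_le_pow_right (by norm_num) h))]
          simp [Nat.ne_of_lt h]
        · subst h; simp [hbit]
      have e : n = 2 ^ k ^^^ (2 ^ k ^^^ n) := by rw [← Nat.xor_assoc, Nat.xor_self, Nat.zero_xor]
      have hb' := hbil k (by omega) k le_rfl _ hr
      have hqx : qB m (2 ^ k ^^^ (2 ^ k ^^^ n)) =
          (bB m (2 ^ k) (2 ^ k ^^^ n) ^^ qB m (2 ^ k) ^^ qB m (2 ^ k ^^^ n)) := by
        unfold bB
        generalize qB m (2 ^ k ^^^ (2 ^ k ^^^ n)) = a, qB m (2 ^ k) = b, qB m (2 ^ k ^^^ n) = c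
        revert a b c; decide
      rw [e, psi_xor R, psi_pow B (by omega), hqx, bit2_xor, bit2_xor, ← hb', ← hq k (by omega),
        ← ih (by omega) _ hr]
      unfold Rep.bil
      have h2 : ∀ a b c : ZMod 2, a = a + b + c + b + c := by decide
      exact h2 _ _ _
  exact key 8 le_rfl

/-- the separation of two lines, or of a line from the fixed plane -/
def sepChk (k : Nat) (piv : List (List Nat)) (a a' : Nat) : Bool :=
  (List.range 27).any fun t =>
    ((List.range 27).any fun s => !((kl k).contains s) && eqW (aW t ++ piv.getD a []) (piv.getD a [] ++ aW s) &&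
      eqW (aW (addT t t) ++ piv.getD a []) (piv.getD a [] ++ aW (addT s s))) &&
    (a' == piv.length || (kl k).any fun t' => eqW (aW t ++ piv.getD a' []) (piv.getD a' [] ++ aW t'))

theorem sep_ok : (List.range 4).all (fun a => (List.range 4).all fun a' => a == a' || sepChk kNat pivN a a') = true ∧
    (List.range 3).all (fun a => (List.range 4).all fun a' => a == a' || sepChk kSix pivS a a') = true := by
  decide +kernel

theorem sep_bil [Finite V] {k : Fin 13} {piv : List (List Nat)} {a a' : Nat} (h : sepChk k piv a a' = true)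
    {x y : V} (hx : x ∈ R.E k)
    (hy : (a' = piv.length ∧ ∀ t < 27, R.wa (aW t) y = y) ∨ ∃ y₀ ∈ R.E k, y = R.wa (piv.getD a' []) y₀)
    (hlt : a' ≠ piv.length ∨ ∀ t < 27, R.wa (aW t) y = y) :
    R.bil (R.wa (piv.getD a []) x) y = 0 := by
  simp only [sepChk, List.any_eq_true, Bool.and_eq_true, Bool.or_eq_true, beq_iff_eq, List.mem_range,
    Bool.not_eq_true', List.contains_eq_mem, decide_eq_false_iff_not] at h
  obtain ⟨t, ht, ⟨s, hs, ⟨hsk, e1⟩, e2⟩, h2⟩ := h
  refine R.bil_orth ht ?_ ?_
  · rcases h2 with h2 | ⟨t', ht', e⟩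
    · exact (hlt.resolve_left (fun hne => hne h2)) t ht
    · rcases hy with ⟨-, hy⟩ | ⟨y₀, hy₀, rfl⟩
      · exact hy t ht
      · rw [← R.wa_append, R.wa_eqW e, R.wa_append, wa_kl R ht' hy₀]
  · rw [← R.wa_append, R.wa_eqW e1, R.wa_append, ← R.wa_append (aW (addT t t)), R.wa_eqW e2, R.wa_append,
      ← R.wa_add, ← R.wa_add]
    have hsum := R.orbit_sum hs hsk x
    rw [show R.P k x = x from hx] at hsum
    rw [hsum, R.wa_zero]

/-- the form on a line -/
theorem line_q [Finite V] {k : Fin 13} {b : Nat} (hb : b < 27) (hk : b ∉ kl k) {e : V} (he : e ∈ R.E k) :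
    R.q (R.wa (aW b) e) = R.q e ∧ R.bil e (R.wa (aW b) e) = R.q e := by
  refine ⟨R.q_act _ _, ?_⟩
  have hsum := R.orbit_sum hb hk e
  rw [show R.P k e = e from he] at hsum
  unfold Rep.bil
  rw [R.add_cancel _ _ hsum, show R.q (R.wa (aW (addT b b)) e) = R.q e from R.q_act _ _,
    show R.q (R.wa (aW b) e) = R.q e from R.q_act _ _]
  have key : ∀ c : ZMod 2, c + c + c = c := by decide
  exact key _

theorem conv_ok : (∀ k : Fin 13, k.1 ∈ [0, 3, 4, 10] → k.1 ≠ kNat → ∃ o ∈ kOrb, o.1 = k.1 ∧ o.2.1 = kNat) ∧
    (∀ k : Fin 13, k.1 ∈ [1, 6, 11] → k.1 ≠ kSix → ∃ o ∈ kOrb, o.1 = k.1 ∧ o.2.1 = kSix) ∧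
    (∀ o ∈ kOrb, ∀ g ∈ o.2.2.1, g ∈ monL) := by decide +kernel

include R in
theorem psi_range_add {B : Nat → V} {u v : V} (hu : ∃ n < 256, psi B n = u) (hv : ∃ n < 256, psi B n = v) :
    ∃ n < 256, psi B n = u + v := by
  obtain ⟨x, hx, rfl⟩ := hu
  obtain ⟨y, hy, rfl⟩ := hv
  exact ⟨x ^^^ y, xor_lt8 hx hy, psi_xor R B x y⟩

include R in
theorem psi_range_sum {B : Nat → V} (f : Fin 13 → V) (h : ∀ k, ∃ n < 256, psi B n = f k) :
    ∃ n < 256, psi B n = ∑ k, f k := by
  have key : ∀ s : Finset (Fin 13), ∃ n < 256, psi B n = ∑ k ∈ s, f k := by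
    intro s
    induction s using Finset.induction with
    | empty => exact ⟨0, by norm_num, by simp [psi_zero]⟩
    | insert a s ha ih => rw [Finset.sum_insert ha]; exact psi_range_add R (h a) ih
  exact key _

/-- the word action from the generators -/
theorem eqv_pts {m : Nat} (hm : m < 3) {B : Nat → V} (hg : ∀ a ∈ genL, Eqv R m B [a]) :
    ∀ w : List Nat, (∀ a ∈ w, a ∈ ptsL) → ∀ n < 256, R.wa w (psi B n) = psi B (wM m w n) := by
  have htree : ∀ m < 3, ∀ e ∈ ptTree, ∀ j < 8, wM m [e.2.2, e.2.1, e.2.2] (2 ^ j) = wM m [e.1] (2 ^ j) := by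
    decide +kernel
  have key : ∀ l : List (Nat × Nat × Nat), (∀ e ∈ l, e ∈ ptTree) → ∀ K : List Nat,
      (∀ a ∈ K, Eqv R m B [a]) → (∀ k < l.length, ∀ e : Nat × Nat × Nat, l[k]? = some e →
        e.2.1 ∈ K ++ (l.take k).map (fun t : Nat × Nat × Nat => t.1)) → ∀ e ∈ l, Eqv R m B [e.1] := by
    intro l
    induction l with
    | nil => intro _ _ _ _ e he; exact absurd he List.not_mem_nil
    | cons e0 l ih =>
      intro hl K hK hp e he
      have h0 : Eqv R m B [e0.1] := by
        have := hp 0 (Nat.succ_pos _) e0 rfl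
        simp only [List.take_zero, List.map_nil, List.append_nil] at this
        have ht := tree_pts e0 (hl e0 List.mem_cons_self)
        have hg' := hg _ ht.2.2
        have h := eqv_append R m B (eqv_append R m B hg' (hK _ this)) hg'
        intro n hn
        have hc := tree_conj (hl e0 List.mem_cons_self)
        show R.act (wS [e0.1]) _ = _
        rw [wS_single, hc]
        have h' := h n hn
        simp only [Rep.wa, wS_append, wS_single] at h'
        rw [h', ← wM_ext m _ _ (htree m hm e0 (hl e0 List.mem_cons_self)) n hn]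
        rfl
      rcases List.mem_cons.1 he with rfl | he
      · exact h0
      refine ih (fun x hx => hl x (List.mem_cons_of_mem _ hx)) (K ++ [e0.1]) ?_ ?_ e he
      · intro b hb
        rcases List.mem_append.1 hb with hb | hb
        · exact hK b hb
        · rw [List.mem_singleton.1 hb]; exact h0
      · intro k hk e' he'
        have := hp (k + 1) (Nat.succ_lt_succ hk) e' (by simpa using he')
        simpa [List.take_succ_cons] using this
  intro w hw
  refine eqv_word R m B fun a ha => ?_
  have hc := List.all_eq_true.1 tree_covers a (hw a ha)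
  rw [Bool.or_eq_true, beq_iff_eq, List.any_eq_true] at hc
  rcases hc with rfl | ⟨e, he, e1⟩
  · exact hg 5 (by decide)
  · rw [← beq_iff_eq.1 e1]
    refine key ptTree (fun _ he => he) [5] (by simpa using hg 5 (by decide)) ?_ e he
    have hok : (List.range ptTree.length).all (fun k =>
        ([5] ++ (ptTree.take k).map (fun t : Nat × Nat × Nat => t.1)).contains
          (ptTree.getD k (0, 0, 0)).2.1) = true := by
      decide +kernel
    intro k hk e' he'
    have := List.all_eq_true.1 hok k (List.mem_range.2 hk)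
    rw [List.getD_eq_getElem?_getD, he', Option.getD_some, List.contains_iff_mem] at this
    exact this

/-- the natural case -/
theorem coord_natural [Finite V] (h0 : Nat.card R.E0 = 1) (h4 : Nat.card (R.E ⟨kNat, by decide⟩) = 4)
    (hsmall : ∀ k : Fin 13, k.1 ∉ [0, 3, 4, 10] → ∀ x ∈ R.E k, x = 0) : Nonempty (Coord R) := by
  obtain ⟨e, hne, L⟩ := natural_line R h4
  set B := fun j => R.wa (basW pivN bNat j) e with hB
  have hmon : ∀ g ∈ monL, Eqv R 2 B [g] := fun g hg =>
    eqv_of_basis R 2 B fun j hj => L.mon R 2 B certN_ok hg hj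
  have hbj : ∀ j < 8, B j = R.wa (pivN.getD (j / 2) []) (R.wa (bkW bNat (j % 2)) e) := fun j _ => by
    show R.wa _ e = _; rw [← R.wa_append]; rfl
  have hb01 : B 0 = e ∧ B 1 = R.wa (aW bNat) e := by
    constructor <;> simp [hB, basW, bkW, pivN, R.wa_nil]
  obtain ⟨hy0, hyx, hcases⟩ := part_cases R L.hb L.hbk h4 L.he hne
  have hrange : ∀ x ∈ R.E ⟨kNat, by decide⟩, ∃ n < 256, psi B n = x := by
    intro x hx
    rcases hcases x hx with rfl | rfl | rfl | rfl
    · exact ⟨0, by norm_num, psi_zero B⟩
    · exact ⟨1, by norm_num, by rw [show (1 : Nat) = 2 ^ 0 from rfl, psi_pow B (by norm_num), hb01.1]⟩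
    · exact ⟨2, by norm_num, by rw [show (2 : Nat) = 2 ^ 1 from rfl, psi_pow B (by norm_num), hb01.2]⟩
    · exact psi_range_add R
        ⟨1, by norm_num, by rw [show (1 : Nat) = 2 ^ 0 from rfl, psi_pow B (by norm_num), hb01.1]⟩
        ⟨2, by norm_num, by rw [show (2 : Nat) = 2 ^ 1 from rfl, psi_pow B (by norm_num), hb01.2]⟩
  have hsurj : ∀ v, ∃ n < 256, psi B n = v := by
    intro v
    rw [← R.decomp v]
    refine psi_range_add R ⟨0, by norm_num, ?_⟩ (psi_range_sum R _ fun k => ?_)
    · have hsub : Subsingleton R.E0 := (Nat.card_eq_one_iff_unique.1 h0).1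
      rw [psi_zero]
      exact (congrArg Subtype.val (hsub.elim ⟨R.P0 v, R.P0_P0 v⟩ ⟨0, R.sumA_zero _⟩)).symm
    · by_cases hk : k.1 ∈ [0, 3, 4, 10]
      · by_cases hk' : k.1 = kNat
        · obtain rfl : k = ⟨kNat, by decide⟩ := Fin.ext hk'
          exact hrange _ (R.P_mem _ v)
        · obtain ⟨o, ho, h1, h2⟩ := conv_ok.1 k hk hk'
          obtain ⟨o1, o2, o3⟩ := o
          simp only at h1 h2
          subst h1 h2
          obtain ⟨x, hx, hxe⟩ := (R.orb ho k.2 (show kNat < 13 by decide)).surjOn (R.P_mem k v)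
          obtain ⟨n, hn, rfl⟩ := hrange x hx
          refine ⟨wM 2 o3.1 n, wM_lt 2 _ hn, ?_⟩
          rw [← hxe]
          exact (eqv_word R 2 B (fun g hg => hmon g (conv_ok.2.2 _ ho g hg)) n hn).symm
      · exact ⟨0, by norm_num, by rw [psi_zero, hsmall k hk _ (R.P_mem k v)]⟩
  have hfix0 : ∀ s ∈ stN, R.wa s e = e := fun s hs => by
    rcases List.mem_cons.1 hs with rfl | hs
    · exact L.fix 0 (by decide)
    · rcases List.mem_cons.1 hs with rfl | hs
      · exact L.fix 1 (by decide)
      · exact absurd hs List.not_mem_nil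
  have hn1 : stN.all (fun s => normChk kNat bNat s false) = true := by decide +kernel
  have hb1 : R.wa (aW bNat) e ∈ R.E ⟨kNat, by decide⟩ := by
    show R.P _ _ = _
    rw [← R.sumA_single, Rep.P, R.sumA_comp (prj_lt _ (by decide)) (by decide), R.sumA_congr
      (comm_ok _ bNat L.hb), ← R.sumA_comp (by decide) (prj_lt _ (by decide)),
      show R.sumA (prj kNat) e = e from L.he]
  have hgen := gens_eqv R (m := 2) (B := B) (extra := []) (fun i => by simp) searchN_ok commN_ok hsurj hmon
    (fun _ h => h) (by decide)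
    (fun j hj => by
      rw [hbj j (by simpa [pivN] using hj)]
      congr 1
      rcases Nat.mod_two_eq_zero_or_one j with h | h <;> rw [h]
      · rw [hb01.1]; simp [bkW, R.wa_nil]
      · rw [hb01.2]; simp [bkW])
    (fun i hi => absurd hi (by simp)) (fun s hs => by rw [hb01.1]; exact hfix0 s hs)
    (fun s hs => by rw [hb01.2]; exact norm_fix R (List.all_eq_true.1 hn1 s hs) h4 hb1)
  have hsep := sep_ok.1
  have hbil : ∀ i < 8, ∀ j < 8, i / 2 ≠ j / 2 → R.bil (B i) (B j) = 0 := by
    intro i hi j hj hne'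
    rw [hbj i hi, hbj j hj]
    have h := List.all_eq_true.1 (List.all_eq_true.1 hsep (i / 2) (List.mem_range.2 (by omega))) (j / 2)
      (List.mem_range.2 (by omega))
    rw [Bool.or_eq_true, beq_iff_eq] at h
    have hmem : ∀ r, r < 2 → R.wa (bkW bNat r) e ∈ R.E ⟨kNat, by decide⟩ := fun r hr => by
      interval_cases r
      · simpa [bkW, R.wa_nil] using L.he
      · exact hb1
    exact sep_bil R (k := ⟨kNat, by decide⟩) (h.resolve_left hne') (hmem _ (Nat.mod_lt _ (by norm_num)))
      (Or.inr ⟨_, hmem _ (Nat.mod_lt _ (by norm_num)), rfl⟩) (Or.inl (by simp [pivN]; omega))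
  have hqline := line_q R L.hb L.hbk L.he
  have hqB : ∀ j < 8, R.q (B j) = R.q e := fun j hj => by
    rw [hbj j hj, show R.q (R.wa _ (R.wa (bkW bNat (j % 2)) e)) = _ from R.q_act _ _]
    exact R.q_act _ _
  have hpair : ∀ a < 4, R.bil (B (2 * a)) (B (2 * a + 1)) = R.q e := fun a ha => by
    rw [hbj _ (by omega), hbj _ (by omega), show (2 * a) / 2 = a by omega, show (2 * a + 1) / 2 = a by omega,
      show 2 * a % 2 = 0 by omega, show (2 * a + 1) % 2 = 1 by omega]
    simp only [bkW, R.wa_nil]
    exact (R.bil_act _ _ _).trans hqline.2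
  have hc : R.q e = 1 := by
    rcases (show ∀ c : ZMod 2, c = 0 ∨ c = 1 by decide) (R.q e) with h | h
    · exfalso
      apply hne
      refine R.nondeg e fun v => ?_
      obtain ⟨n, hn, rfl⟩ := hsurj v
      show R.bil e _ = 0
      rw [R.bil_comm]
      unfold psi
      induction List.range 8 with
      | nil => simp [R.bil_zero]
      | cons j l ih =>
        rw [List.map_cons, List.sum_cons, R.bil_add, ih, add_zero]
        by_cases hj : j < 8
        · cases n.testBit j
          · simp [R.bil_zero]
          · show R.bil (B j) e = 0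
            rw [← hb01.1]
            by_cases h2 : j / 2 = 0
            · have : j = 0 ∨ j = 1 := by omega
              rcases this with rfl | rfl
              · show R.bil (B 0) (B 0) = 0
                unfold Rep.bil; rw [R.two, R.q_zero, zero_add]; exact CharTwo.add_self_eq_zero _
              · rw [R.bil_comm]; exact (hpair 0 (by norm_num)).trans h
            · exact hbil j hj 0 (by norm_num) (by simpa using h2)
        · have hb0 : n.testBit j = false :=
            Nat.testBit_lt_two_pow (lt_of_lt_of_le hn (Nat.pow_le_pow_right (n := 2) (i := 8) (by norm_num) (by omega)))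
          simp [hb0, R.bil_zero]
    · exact h
  have hqm : ∀ i < 8, qB 2 (2 ^ i) = true := by decide +kernel
  have hbm : ∀ i < 8, ∀ j < 8, i ≠ j → bB 2 (2 ^ i) (2 ^ j) = decide (i / 2 = j / 2) := by decide +kernel
  have hqf := q_formula R (m := 2) (B := B) (by norm_num)
    (fun j hj => by rw [hqB j hj, hc, hqm j hj]; rfl)
    (fun i hi j hj hij => by
      rw [hbm i hi j hj hij]
      by_cases h : i / 2 = j / 2
      · rw [decide_eq_true h]
        have : (i = 2 * (i / 2) ∧ j = 2 * (i / 2) + 1) ∨ (j = 2 * (i / 2) ∧ i = 2 * (i / 2) + 1) := by omega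
        rcases this with ⟨hi', hj'⟩ | ⟨hj', hi'⟩ <;> rw [hi', hj']
        · rw [hpair _ (by omega), hc]; rfl
        · rw [R.bil_comm, hpair _ (by omega), hc]; rfl
      · rw [decide_eq_false h, hbil i hi j hj h]; rfl)
  exact ⟨⟨2, by norm_num, psi B, psi_inj R B hsurj, hsurj, psi_xor R B,
    eqv_pts R (by norm_num) hgen, fun n hn => hqf n hn⟩⟩

end Cfsg.Agent.Lib.U62Cent47
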