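import Cfsg.Agent.Lib.U62Cent47.Coord

/-!
The case of three lines and a fixed plane, and the classification of the faithful modules.

Owner: helper47.
-/

set_option autoImplicit false
set_option maxRecDepth 20000

namespace Cfsg.Agent.Lib.U62Cent47

variable {V : Type*} [AddCommGroup V] (R : Rep V)

theorem eq_zero_of_card_one {s : Set V} (h0 : (0 : V) ∈ s) (h : Nat.card s = 1) : ∀ x ∈ s, x = 0 := by
  intro x hx
  have hsub : Subsingleton s := (Nat.card_eq_one_iff_unique.1 h).1
  exact congrArg Subtype.val (hsub.elim ⟨x, hx⟩ ⟨0, h0⟩)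

/-- a four-element fixed plane -/
theorem plane_cases [Finite V] (h0 : Nat.card R.E0 = 4) :
    ∃ x y, x ∈ R.E0 ∧ y ∈ R.E0 ∧ x ≠ 0 ∧ y ≠ 0 ∧ x ≠ y ∧
      ∀ w ∈ R.E0, w = 0 ∨ w = x ∨ w = y ∨ w = x + y := by
  have hz : (0 : V) ∈ R.E0 := R.sumA_zero _
  have hadd : ∀ u ∈ R.E0, ∀ v ∈ R.E0, u + v ∈ R.E0 := fun u hu v hv => by
    show R.P0 (u + v) = _
    rw [Rep.P0, R.sumA_add, show R.sumA _ u = u from hu, show R.sumA _ v = v from hv]
  obtain ⟨x, hx, hx0⟩ : ∃ x ∈ R.E0, x ≠ 0 := by
    by_contra hcon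
    push Not at hcon
    have e : R.E0 = {0} := Set.ext fun w => ⟨hcon w, fun e => Set.mem_singleton_iff.1 e ▸ hz⟩
    rw [e] at h0; simp at h0
  obtain ⟨y, hy, hy0, hxy⟩ : ∃ y ∈ R.E0, y ≠ 0 ∧ x ≠ y := by
    by_contra hcon
    push Not at hcon
    have e : R.E0 = {0, x} := Set.ext fun w => ⟨fun hw => by
      by_cases h : w = 0
      · exact Or.inl h
      · exact Or.inr (hcon w hw h).symm, fun e => by
      rcases e with rfl | rfl
      exacts [hz, hx]⟩
    rw [e, Nat.card_coe_set_eq, Set.ncard_pair (Ne.symm hx0)] at h0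
    omega
  refine ⟨x, y, hx, hy, hx0, hy0, hxy, ?_⟩
  have e : R.E0 = {0, x, y, x + y} := by
    refine (Set.eq_of_subset_of_ncard_le ?_ ?_ (Set.toFinite _)).symm
    · intro w hw
      simp only [Set.mem_insert_iff, Set.mem_singleton_iff] at hw
      rcases hw with rfl | rfl | rfl | rfl
      exacts [hz, hx, hy, hadd x hx y hy]
    · rw [← Nat.card_coe_set_eq, h0, Set.ncard_insert_of_notMem, Set.ncard_insert_of_notMem,
        Set.ncard_pair] <;> simp [hx0, hy0, hxy, Ne.symm hx0, Ne.symm hy0]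
      intro e'
      exact hxy (R.add_cancel _ _ e'.symm)
  intro w hw
  rw [e] at hw
  simpa using hw

theorem bil_sum_eq_zero {B : Nat → V} {v : V} (h : ∀ j < 8, R.bil (B j) v = 0) (n : Nat) :
    R.bil (psi B n) v = 0 := by
  unfold psi
  have key : ∀ l : List Nat, (∀ j ∈ l, j < 8) →
      R.bil (l.map fun j => bif n.testBit j then B j else 0).sum v = 0 := by
    intro l
    induction l with
    | nil => exact fun _ => R.bil_zero v
    | cons j l ih =>
      intro hl
      rw [List.map_cons, List.sum_cons, R.bil_add, ih fun k hk => hl k (List.mem_cons_of_mem _ hk), add_zero]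
      cases n.testBit j
      · exact R.bil_zero v
      · exact h j (hl j List.mem_cons_self)
  exact key _ fun j hj => List.mem_range.1 hj

theorem bil_self (v : V) : R.bil v v = 0 := by
  unfold Rep.bil
  rw [R.two, R.q_zero, zero_add]
  exact CharTwo.add_self_eq_zero _

/-- the six-dimensional case -/
theorem coord_six [Finite V] (h0 : Nat.card R.E0 = 4) (h4 : Nat.card (R.E ⟨kSix, by decide⟩) = 4)
    (hsmall : ∀ k : Fin 13, k.1 ∉ [1, 6, 11] → ∀ x ∈ R.E k, x = 0) : Nonempty (Coord R) := by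
  have hU := E0_fixed R h0 hsmall
  obtain ⟨x, y, hx, hy, hx0, hy0, hxy, hcU⟩ := plane_cases R h0
  obtain ⟨e, he, hne, hflip⟩ := six_base R h4
  have hb : bSix < 27 := by decide
  have hk : bSix ∉ kl kSix := by decide +kernel
  obtain ⟨hy0', hyx, hcases⟩ := part_cases R (k := ⟨kSix, by decide⟩) hb hk h4 he hne
  have hb1 : R.wa (aW bSix) e ∈ R.E ⟨kSix, by decide⟩ := by
    show R.P _ _ = _
    rw [← R.sumA_single, Rep.P, R.sumA_comp (prj_lt _ (by decide)) (by decide), R.sumA_congr
      (comm_ok ⟨kSix, by decide⟩ bSix hb), ← R.sumA_comp (by decide) (prj_lt _ (by decide)),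
      show R.sumA (prj kSix) e = e from he]
  have hn1 : stS.all (fun s => normChk kSix bSix s false) = true := by decide +kernel
  have hmem : ∀ r, r < 2 → R.wa (bkW bSix r) e ∈ R.E ⟨kSix, by decide⟩ := fun r hr => by
    interval_cases r
    · simpa [bkW, R.wa_nil] using he
    · exact hb1
  have hfixL : ∀ i < fixS.length, R.wa (fixS.getD i []) e = e := by
    intro i hi
    have hg := List.all_eq_true.1 fixS_ok.2 i (List.mem_range.2 hi)
    rw [Bool.or_eq_true, Bool.or_eq_true, List.any_eq_true, beq_iff_eq] at hg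
    rcases hg with (rfl | ⟨t, ht, et⟩) | hg
    · exact hflip
    · rw [← beq_iff_eq.1 et]; exact wa_kl R (k := ⟨kSix, by decide⟩) ht he
    · exact norm_fix R (k := ⟨kSix, by decide⟩) hg h4 he
  have hline : ∀ a < 3, ∀ r < 2, R.q (R.wa (pivS.getD a []) (R.wa (bkW bSix r) e)) = R.q e :=
    fun a _ r _ => (R.q_act _ _).trans (R.q_act _ _)
  have hsep := sep_ok.2
  have hlineB : ∀ a < 3, ∀ a' < 3, a ≠ a' → ∀ r < 2, ∀ r' < 2,
      R.bil (R.wa (pivS.getD a []) (R.wa (bkW bSix r) e)) (R.wa (pivS.getD a' []) (R.wa (bkW bSix r') e)) = 0 := by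
    intro a ha a' ha' hne' r hr r' hr'
    have h := List.all_eq_true.1 (List.all_eq_true.1 hsep a (List.mem_range.2 ha)) a' (List.mem_range.2 (by omega))
    rw [Bool.or_eq_true, beq_iff_eq] at h
    exact sep_bil R (k := ⟨kSix, by decide⟩) (h.resolve_left hne') (hmem r hr)
      (Or.inr ⟨_, hmem r' hr', rfl⟩) (Or.inl (by simp [pivS]; omega))
  have hfixA : ∀ w ∈ R.E0, ∀ t < 27, R.wa (aW t) w = w := fun w hw t _ => hU _ w hw
  have hUB : ∀ w ∈ R.E0, ∀ a < 3, ∀ r < 2, R.bil (R.wa (pivS.getD a []) (R.wa (bkW bSix r) e)) w = 0 := by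
    intro w hw a ha r hr
    have h := List.all_eq_true.1 (List.all_eq_true.1 hsep a (List.mem_range.2 ha)) 3 (List.mem_range.2 (by omega))
    rw [Bool.or_eq_true, beq_iff_eq] at h
    exact sep_bil R (k := ⟨kSix, by decide⟩) (h.resolve_left (by omega)) (hmem r hr)
      (Or.inl ⟨by simp [pivS], hfixA w hw⟩) (Or.inr (hfixA w hw))
  have hqline := line_q R (k := ⟨kSix, by decide⟩) hb hk he
  -- the coordinates for any basis of the plane
  have build : ∀ u₁ u₂ : V, u₁ ∈ R.E0 → u₂ ∈ R.E0 → (∀ w ∈ R.E0, w = 0 ∨ w = u₁ ∨ w = u₂ ∨ w = u₁ + u₂) →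
      ∀ m < 2, ∃ B : Nat → V, (∀ j < 6, B j = R.wa (pivS.getD (j / 2) []) (R.wa (bkW bSix (j % 2)) e)) ∧
        B 6 = u₁ ∧ B 7 = u₂ ∧ (∀ v, ∃ n < 256, psi B n = v) ∧ ∀ a ∈ genL, Eqv R m B [a] := by
    intro u₁ u₂ hu₁ hu₂ hcu m hm
    let B : Nat → V := fun j => if j < 6 then R.wa (basW pivS bSix j) e else if j = 6 then u₁ else u₂
    have hB6 : ∀ j < 6, B j = R.wa (basW pivS bSix j) e := fun j hj => if_pos hj
    have hbj : ∀ j < 6, B j = R.wa (pivS.getD (j / 2) []) (R.wa (bkW bSix (j % 2)) e) := fun j hj => by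
      rw [hB6 j hj, ← R.wa_append]; rfl
    have hB67 : B 6 = u₁ ∧ B 7 = u₂ := ⟨rfl, rfl⟩
    have hBU : ∀ j, 6 ≤ j → B j ∈ R.E0 := fun j hj => by
      show (if j < 6 then _ else if j = 6 then u₁ else u₂) ∈ R.E0
      rw [if_neg (by omega)]; split_ifs <;> assumption
    have L : Line R B ⟨kSix, by decide⟩ bSix pivS fixS 6 e := ⟨hb, hk, he, hB6, hfixL, rfl, by norm_num⟩
    have hhigh : ∀ m < 2, ∀ g ∈ genL, ∀ j, j < 8 → 6 ≤ j → wM m [g] (2 ^ j) = 2 ^ j := by decide +kernel
    have hmon : ∀ g ∈ monL, Eqv R m B [g] := fun g hg => eqv_of_basis R m B fun j hj => by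
      by_cases h6 : j < 6
      · interval_cases m
        · exact L.mon R 0 B certS_ok.1 hg h6
        · exact L.mon R 1 B certS_ok.2 hg h6
      · rw [hhigh m hm g (by revert hg; revert g; decide) j hj (by omega), psi_pow B hj]
        exact hU _ _ (hBU j (by omega))
    have hb01 : B 0 = e ∧ B 1 = R.wa (aW bSix) e := by
      rw [hbj 0 (by norm_num), hbj 1 (by norm_num)]
      simp [bkW, pivS, R.wa_nil]
    have hrange : ∀ v ∈ R.E ⟨kSix, by decide⟩, ∃ n < 256, psi B n = v := by
      intro v hv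
      have e1 : psi B 1 = e := by rw [show (1 : Nat) = 2 ^ 0 from rfl, psi_pow B (by norm_num), hb01.1]
      have e2 : psi B 2 = R.wa (aW bSix) e := by
        rw [show (2 : Nat) = 2 ^ 1 from rfl, psi_pow B (by norm_num), hb01.2]
      rcases hcases v hv with rfl | rfl | rfl | rfl
      · exact ⟨0, by norm_num, psi_zero B⟩
      · exact ⟨1, by norm_num, e1⟩
      · exact ⟨2, by norm_num, e2⟩
      · exact psi_range_add R ⟨1, by norm_num, e1⟩ ⟨2, by norm_num, e2⟩
    have e6 : psi B 64 = u₁ := by rw [show (64 : Nat) = 2 ^ 6 from rfl, psi_pow B (by norm_num)]; rfl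
    have e7 : psi B 128 = u₂ := by rw [show (128 : Nat) = 2 ^ 7 from rfl, psi_pow B (by norm_num)]; rfl
    have hsurj : ∀ v, ∃ n < 256, psi B n = v := by
      intro v
      rw [← R.decomp v]
      refine psi_range_add R ?_ (psi_range_sum R _ fun k => ?_)
      · rcases hcu _ (R.P0_P0 v) with h | h | h | h <;> rw [h]
        · exact ⟨0, by norm_num, psi_zero B⟩
        · exact ⟨64, by norm_num, e6⟩
        · exact ⟨128, by norm_num, e7⟩
        · exact psi_range_add R ⟨64, by norm_num, e6⟩ ⟨128, by norm_num, e7⟩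
      · by_cases hk6 : k.1 ∈ [1, 6, 11]
        · by_cases hk' : k.1 = kSix
          · obtain rfl : k = ⟨kSix, by decide⟩ := Fin.ext hk'
            exact hrange _ (R.P_mem _ v)
          · obtain ⟨o, ho, h1, h2⟩ := conv_ok.2.1 k hk6 hk'
            obtain ⟨o1, o2, o3⟩ := o
            simp only at h1 h2
            subst h1 h2
            obtain ⟨w, hw, hwe⟩ := (R.orb ho k.2 (show kSix < 13 by decide)).surjOn (R.P_mem k v)
            obtain ⟨n, hn, rfl⟩ := hrange w hw
            refine ⟨wM m o3.1 n, wM_lt m _ hn, ?_⟩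
            rw [← hwe]
            exact (eqv_word R m B (fun g hg => hmon g (conv_ok.2.2 _ ho g hg)) n hn).symm
        · exact ⟨0, by norm_num, by rw [psi_zero, hsmall k hk6 _ (R.P_mem k v)]⟩
    refine ⟨B, hbj, hB67.1, hB67.2, hsurj, ?_⟩
    have hx' : ∀ i, ([64, 128] : List Nat).getD i 0 < 256 := fun i => by
      rcases i with _ | _ | i <;> simp
    have hst : ∀ s ∈ wFlip :: stS, R.wa s (B 0) = B 0 := fun s hs => by
      rw [hb01.1]
      rcases List.mem_cons.1 hs with rfl | hs
      · exact hflip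
      · exact norm_fix R (k := ⟨kSix, by decide⟩) (List.all_eq_true.1 hn1 s hs) h4 he
    have hgen : ∀ (hsearch : search m pivS (wFlip :: stS) stS [64, 128] = true), ∀ a ∈ genL, Eqv R m B [a] :=
      fun hsearch => gens_eqv R hx' hsearch commS_ok hsurj hmon (fun s hs => List.mem_cons_of_mem _ hs)
        (by decide)
        (fun j hj => by
          rw [hbj j (by simpa [pivS] using hj)]
          congr 1
          rcases Nat.mod_two_eq_zero_or_one j with h | h <;> rw [h]
          · rw [hb01.1]; simp [bkW, R.wa_nil]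
          · rw [hb01.2]; simp [bkW])
        (fun i hi => by
          have hi2 : i < 2 := by simpa using hi
          interval_cases i
          · show R.wa [85] (B 6) = psi B 64
            rw [e6, hB67.1]; exact hU _ _ hu₁
          · show R.wa [85] (B 7) = psi B 128
            rw [e7, hB67.2]; exact hU _ _ hu₂)
        hst (fun s hs => by
          rw [hb01.2]; exact norm_fix R (k := ⟨kSix, by decide⟩) (List.all_eq_true.1 hn1 s hs) h4 hb1)
    interval_cases m
    · exact hgen searchS0_ok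
    · exact hgen searchS1_ok
  obtain ⟨B₀, hB₀, hB₀6, hB₀7, hsurj₀, -⟩ := build x y hx hy hcU 0 (by norm_num)
  have hc : R.q e = 1 := by
    rcases (show ∀ c : ZMod 2, c = 0 ∨ c = 1 by decide) (R.q e) with h | h
    · exfalso
      apply hne
      refine R.nondeg e fun v => ?_
      obtain ⟨n, hn, rfl⟩ := hsurj₀ v
      show R.bil e _ = 0
      rw [R.bil_comm]
      refine bil_sum_eq_zero R (fun j hj => ?_) n
      have he0 : e = R.wa (pivS.getD 0 []) (R.wa (bkW bSix 0) e) := by simp [pivS, bkW, R.wa_nil]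
      by_cases h6 : j < 6
      · rw [hB₀ j h6]
        by_cases h2 : j / 2 = 0
        · have : j = 0 ∨ j = 1 := by omega
          rcases this with rfl | rfl
          · simpa [pivS, bkW, R.wa_nil] using bil_self R e
          · rw [R.bil_comm]; norm_num [pivS, bkW, R.wa_nil]; exact hqline.2.trans h
        · have := hlineB (j / 2) (by omega) 0 (by norm_num) h2 (j % 2) (Nat.mod_lt _ (by norm_num)) 0 (by norm_num)
          rwa [← he0] at this
      · rw [he0, R.bil_comm]
        have : j = 6 ∨ j = 7 := by omega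
        rcases this with rfl | rfl
        · rw [hB₀6]; exact hUB x hx 0 (by norm_num) 0 (by norm_num)
        · rw [hB₀7]; exact hUB y hy 0 (by norm_num) 0 (by norm_num)
    · exact h
  have hxyb : R.bil x y = 1 := by
    rcases (show ∀ c : ZMod 2, c = 0 ∨ c = 1 by decide) (R.bil x y) with h | h
    · exfalso
      apply hx0
      refine R.nondeg x fun v => ?_
      obtain ⟨n, hn, rfl⟩ := hsurj₀ v
      show R.bil x _ = 0
      rw [R.bil_comm]
      refine bil_sum_eq_zero R (fun j hj => ?_) n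
      by_cases h6 : j < 6
      · rw [hB₀ j h6]; exact hUB x hx _ (by omega) _ (Nat.mod_lt _ (by norm_num))
      · have : j = 6 ∨ j = 7 := by omega
        rcases this with rfl | rfl
        · rw [hB₀6]; exact bil_self R x
        · rw [hB₀7, R.bil_comm]; exact h
    · exact h
  have h2 : ∀ c : ZMod 2, c = 0 ∨ c = 1 := by decide
  obtain ⟨u₁, u₂, hu₁, hu₂, hcu, hb12, m, hm, hq1, hq2⟩ : ∃ u₁ u₂, u₁ ∈ R.E0 ∧ u₂ ∈ R.E0 ∧
      (∀ w ∈ R.E0, w = 0 ∨ w = u₁ ∨ w = u₂ ∨ w = u₁ + u₂) ∧ R.bil u₁ u₂ = 1 ∧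
      ∃ m < 2, R.q u₁ = bit2 (qB m 64) ∧ R.q u₂ = bit2 (qB m 128) := by
    have hq : qB 0 64 = false ∧ qB 0 128 = false ∧ qB 1 64 = true ∧ qB 1 128 = true := by decide
    have hsum : R.q (x + y) = 1 + R.q x + R.q y := by
      have h := hxyb
      unfold Rep.bil at h
      have key : ∀ s a b : ZMod 2, s + a + b = 1 → s = 1 + a + b := by decide
      exact key _ _ _ h
    have hadd : x + y ∈ R.E0 := by
      show R.P0 _ = _
      rw [Rep.P0, R.sumA_add, show R.sumA _ x = x from hx, show R.sumA _ y = y from hy]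
    rcases h2 (R.q x) with ha | ha <;> rcases h2 (R.q y) with hb' | hb'
    · exact ⟨x, y, hx, hy, hcU, hxyb, 0, by norm_num, by rw [ha, hq.1]; rfl, by rw [hb', hq.2.1]; rfl⟩
    · refine ⟨x, x + y, hx, hadd, fun w hw => ?_, ?_, 0, by norm_num, by rw [ha, hq.1]; rfl,
        by rw [hsum, ha, hb', hq.2.1]; decide⟩
      · rcases hcU w hw with h | h | h | h
        exacts [Or.inl h, Or.inr (Or.inl h),
          Or.inr (Or.inr (Or.inr (by rw [h, ← add_assoc, R.two, zero_add]))), Or.inr (Or.inr (Or.inl h))]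
      · rw [R.bil_comm, R.bil_add, bil_self, zero_add, R.bil_comm, hxyb]
    · refine ⟨y, x + y, hy, hadd, fun w hw => ?_, ?_, 0, by norm_num, by rw [hb', hq.1]; rfl,
        by rw [hsum, ha, hb', hq.2.1]; decide⟩
      · rcases hcU w hw with h | h | h | h
        exacts [Or.inl h,
          Or.inr (Or.inr (Or.inr (by rw [h, add_comm x, ← add_assoc, R.two, zero_add]))),
          Or.inr (Or.inl h), Or.inr (Or.inr (Or.inl h))]
      · rw [R.bil_comm, R.bil_add, bil_self, add_zero, hxyb]
    · exact ⟨x, y, hx, hy, hcU, hxyb, 1, by norm_num, by rw [ha, hq.2.2.1]; rfl, by rw [hb', hq.2.2.2]; rfl⟩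
  obtain ⟨B, hB, hB6, hB7, hsurj, hgen⟩ := build u₁ u₂ hu₁ hu₂ hcu m hm
  have hqm : ∀ m < 2, ∀ j < 6, qB m (2 ^ j) = true := by decide +kernel
  have hbm : ∀ m < 2, ∀ i < 8, ∀ j < 8, i ≠ j → bB m (2 ^ i) (2 ^ j) = decide (i / 2 = j / 2) := by
    decide +kernel
  have hpair : ∀ a < 3, R.bil (B (2 * a)) (B (2 * a + 1)) = 1 := fun a ha => by
    rw [hB _ (by omega), hB _ (by omega), show (2 * a) / 2 = a by omega, show (2 * a + 1) / 2 = a by omega,
      show 2 * a % 2 = 0 by omega, show (2 * a + 1) % 2 = 1 by omega]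
    simp only [bkW, R.wa_nil]
    exact ((R.bil_act _ _ _).trans hqline.2).trans hc
  have hqf := q_formula R (m := m) (B := B) (by omega)
    (fun j hj => by
      by_cases h6 : j < 6
      · rw [hB j h6, hline _ (by omega) _ (Nat.mod_lt _ (by norm_num)), hc, hqm m hm j h6]; rfl
      · have : j = 6 ∨ j = 7 := by omega
        rcases this with rfl | rfl
        · rw [hB6]; exact hq1
        · rw [hB7]; exact hq2)
    (fun i hi j hj hij => by
      rw [hbm m hm i hi j hj hij]
      by_cases h : i / 2 = j / 2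
      · rw [decide_eq_true h]
        have : (i = 2 * (i / 2) ∧ j = 2 * (i / 2) + 1) ∨ (j = 2 * (i / 2) ∧ i = 2 * (i / 2) + 1) := by omega
        by_cases ha : i / 2 < 3
        · rcases this with ⟨hi', hj'⟩ | ⟨hj', hi'⟩ <;> rw [hi', hj']
          · exact hpair _ ha
          · rw [R.bil_comm]; exact hpair _ ha
        · have h67 : (i = 6 ∧ j = 7) ∨ (i = 7 ∧ j = 6) := by omega
          rcases h67 with ⟨rfl, rfl⟩ | ⟨rfl, rfl⟩
          · rw [hB6, hB7]; exact hb12
          · rw [hB6, hB7, R.bil_comm]; exact hb12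
      · rw [decide_eq_false h]
        show _ = (0 : ZMod 2)
        have hUmem : ∀ j, j < 8 → 6 ≤ j → B j ∈ R.E0 := fun j hj hj6 => by
          have : j = 6 ∨ j = 7 := by omega
          rcases this with rfl | rfl
          · rw [hB6]; exact hu₁
          · rw [hB7]; exact hu₂
        by_cases hi6 : i < 6 <;> by_cases hj6 : j < 6
        · rw [hB i hi6, hB j hj6]
          exact hlineB _ (by omega) _ (by omega) h _ (Nat.mod_lt _ (by norm_num)) _ (Nat.mod_lt _ (by norm_num))
        · rw [hB i hi6]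
          exact hUB _ (hUmem j hj (by omega)) _ (by omega) _ (Nat.mod_lt _ (by norm_num))
        · rw [hB j hj6, R.bil_comm]
          exact hUB _ (hUmem i hi (by omega)) _ (by omega) _ (Nat.mod_lt _ (by norm_num))
        · omega)
  exact ⟨⟨m, by omega, psi B, psi_inj R B hsurj, hsurj, psi_xor R B,
    eqv_pts R (by omega) hgen, fun n hn => hqf n hn⟩⟩

/-- every such module has coordinates -/
theorem exists_coord [Finite V] : Nonempty (Coord R) := by
  rcases R.sizes with ⟨h0, h4⟩ | ⟨h0, h4, h1⟩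
  · refine coord_natural R h0 h4 fun k hk => eq_zero_of_card_one (R.P_zero k) ?_
    have hprod := R.card_parts
    rw [h0, one_mul] at hprod
    by_contra hne
    have h4k : ∀ k : Fin 13, k.1 ∈ [0, 3, 4, 10] → Nat.card (R.E k) = 4 := fun j hj => by
      by_cases hj' : j.1 = kNat
      · rw [← h4]; exact card_orbit_eq R j _ (Or.inl (Fin.ext hj'))
      · rw [← h4]; exact card_orbit_eq R j _ (Or.inr (conv_ok.1 j hj hj'))
    have hk4 : 4 ≤ Nat.card (R.E k) := (R.card_E k).resolve_left hne
    have hle : 256 * Nat.card (R.E k) ≤ ∏ j : Fin 13, Nat.card (R.E j) := by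
      have hsub : ({⟨0, by norm_num⟩, ⟨3, by norm_num⟩, ⟨4, by norm_num⟩, ⟨10, by norm_num⟩, k} : Finset (Fin 13)) ⊆ Finset.univ :=
        Finset.subset_univ _
      refine le_trans (le_of_eq ?_) (Finset.prod_le_prod_of_subset_of_one_le' hsub fun j _ _ =>
        (R.card_E j).elim (fun h => h.ge) (fun h => le_trans (by norm_num) h))
      rw [Finset.prod_insert, Finset.prod_insert, Finset.prod_insert, Finset.prod_insert, Finset.prod_singleton,
        h4k ⟨0, by norm_num⟩ (by simp), h4k ⟨3, by norm_num⟩ (by simp), h4k ⟨4, by norm_num⟩ (by simp),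
        h4k ⟨10, by norm_num⟩ (by simp)]
      · ring
      all_goals
        simp only [Finset.mem_insert, Finset.mem_singleton, Fin.ext_iff]
        simp only [List.mem_cons, List.not_mem_nil, or_false] at hk
        omega
    omega
  · refine coord_six R h0 h4 fun k hk => eq_zero_of_card_one (R.P_zero k) ?_
    have hprod := R.card_parts
    rw [h0] at hprod
    by_contra hne
    have h4k : ∀ k : Fin 13, k.1 ∈ [1, 6, 11] → Nat.card (R.E k) = 4 := fun j hj => by
      by_cases hj' : j.1 = kSix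
      · rw [← h4]; exact card_orbit_eq R j _ (Or.inl (Fin.ext hj'))
      · rw [← h4]; exact card_orbit_eq R j _ (Or.inr (conv_ok.2.1 j hj hj'))
    have hk4 : 4 ≤ Nat.card (R.E k) := (R.card_E k).resolve_left hne
    have hle : 64 * Nat.card (R.E k) ≤ ∏ j : Fin 13, Nat.card (R.E j) := by
      have hsub : ({⟨1, by norm_num⟩, ⟨6, by norm_num⟩, ⟨11, by norm_num⟩, k} : Finset (Fin 13)) ⊆ Finset.univ :=
        Finset.subset_univ _
      refine le_trans (le_of_eq ?_) (Finset.prod_le_prod_of_subset_of_one_le' hsub fun j _ _ =>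
        (R.card_E j).elim (fun h => h.ge) (fun h => le_trans (by norm_num) h))
      rw [Finset.prod_insert, Finset.prod_insert, Finset.prod_insert, Finset.prod_singleton,
        h4k ⟨1, by norm_num⟩ (by simp), h4k ⟨6, by norm_num⟩ (by simp),
        h4k ⟨11, by norm_num⟩ (by simp)]
      · ring
      all_goals
        simp only [Finset.mem_insert, Finset.mem_singleton, Fin.ext_iff]
        simp only [List.mem_cons, List.not_mem_nil, or_false] at hk
        omega
    omega

end Cfsg.Agent.Lib.U62Cent47
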