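import Cfsg.Agent.Lib.U62Cent47.Facts.Stab

/-!
The finite facts on SU(4, 2) used by the fusion analysis.

Owner: helper94.
-/

set_option autoImplicit false

namespace Cfsg.Agent.Lib.U62Cent47

/-- all the finite facts -/
theorem facts : FactsProp :=
  ⟨Facts.orbit_prop, Facts.inv_prop, Facts.fix_prop, Facts.rank_prop, Facts.tv_prod_prop,
    Facts.five_prop, Facts.stab_prop, Facts.isotropic_prop, Facts.irred_prop⟩

end Cfsg.Agent.Lib.U62Cent47
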