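import Cfsg.Agent.Lib.U62Cent47.NotJ

/-!
Fusion in the natural case: the commuting conjugates lie over transvections, four over each.

Owner: helper47.
-/

set_option autoImplicit false
set_option maxRecDepth 20000

namespace Cfsg.Agent.Lib.U62Cent47

open Cfsg.Agent.Lib.U62Recog47 (smN)

universe u

variable {G : Type u} [Group G] {z : G} (C : Ctx z)

/-- codes of commutators with a transvection -/
def lineL (a : Nat) : List Nat := (List.range 4).map fun l => smN l a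

def witL : List Nat :=
  [5, 6, 7, 10, 16, 17, 18, 24, 28, 32, 33, 35, 40, 64, 68, 72, 128, 130, 131]

theorem witL_lt : ∀ k ∈ witL, k < 256 := by decide +kernel

theorem pairL_lt : ∀ k ∈ pairL, k < 256 := by decide +kernel

theorem line_comm_ok : ptsL.all (fun a => (List.range 256).all fun n =>
    !qB 2 (tN a n ^^^ n) && (lineL a).contains (tN a n ^^^ n)) = true := by decide +kernel

theorem line_fix_ok : ptsL.all (fun a => (List.range 256).all fun n =>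
    tN a n != n || (lineL a).contains n || witL.any fun j => tN a j == j && bB 2 j n) = true := by
  decide +kernel

theorem line_img_ok : ptsL.all (fun a => ((lineL a).all fun n => (0 :: pairL).any fun k => tN a k ^^^ k == n) &&
    ((List.range 256).filter fun n => (lineL a).contains n).length == 4 &&
    (lineL a).any fun n => n != 0) = true := by decide +kernel

theorem line_facts {a : Nat} (ha : a ∈ ptsL) :
    (∀ n < 256, qB 2 (tN a n ^^^ n) = false ∧ tN a n ^^^ n ∈ lineL a) ∧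
    (∀ n < 256, tN a n = n → n ∈ lineL a ∨ ∃ j ∈ witL, tN a j = j ∧ bB 2 j n = true) ∧
    (∀ n ∈ lineL a, ∃ k < 256, tN a k ^^^ k = n) ∧
    ((List.range 256).filter fun n => (lineL a).contains n).length = 4 ∧ ∃ n ∈ lineL a, n ≠ 0 := by
  have h1 := List.all_eq_true.1 line_comm_ok a ha
  have h2 := List.all_eq_true.1 line_fix_ok a ha
  have h3 := List.all_eq_true.1 line_img_ok a ha
  simp only [Bool.and_eq_true, Bool.not_eq_true', List.all_eq_true, List.contains_iff_mem, List.mem_range] at h1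
  simp only [Bool.and_eq_true, Bool.or_eq_true, List.all_eq_true, List.any_eq_true, List.contains_iff_mem,
    List.mem_range, bne_iff_ne, beq_iff_eq] at h2 h3
  refine ⟨h1, fun n hn hf => ?_, fun n hn => ?_, h3.1.2, h3.2⟩
  · rcases h2 n hn with (h | h) | h
    · exact absurd hf h
    · exact Or.inl h
    · exact Or.inr h
  · obtain ⟨k, hk, e⟩ := h3.1.1 n hn
    refine ⟨k, ?_, e⟩
    rcases List.mem_cons.1 hk with rfl | hk
    · norm_num
    · exact pairL_lt k hk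

/-- the conjugates of `z` in the centraliser lie in `H0` -/
abbrev Ctx.Inner : Prop := ∀ x ∈ cls z, Commute x z → x ∈ C.H0

theorem cls_conj {x : G} (hx : x ∈ cls z) (h : G) : h * x * h⁻¹ ∈ cls z := by
  obtain ⟨g, rfl⟩ := hx
  exact ⟨h * g, by group⟩

/-- the commutator with `x` -/
def cm (x j : G) : G := x * j * x⁻¹ * j⁻¹

theorem cm_conj {x : G} (hx : x * x = 1) (j : G) : x * cm x j = j * x * j⁻¹ := by
  have hi : x⁻¹ = x := inv_eq_of_mul_eq_one_right hx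
  rw [cm, show x * (x * j * x⁻¹ * j⁻¹) = (x * x) * j * x⁻¹ * j⁻¹ by group, hx, hi, one_mul]

theorem cm_comm {x j : G} (hx : x * x = 1) (hc : cm x j * cm x j = 1) : Commute (cm x j) x := by
  have hi : x⁻¹ = x := inv_eq_of_mul_eq_one_right hx
  have h : x * cm x j * x⁻¹ = (cm x j)⁻¹ := by rw [cm_conj hx, cm]; group
  rw [inv_eq_of_mul_eq_one_right hc] at h
  exact (mul_inv_eq_iff_eq_mul.1 h).symm

theorem Ctx.cm_mem {x j : G} (hx : x ∈ C.H0) (hj : j ∈ C.J) : cm x j ∈ C.J :=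
  mul_mem (C.J_conj x (C.H0_le hx) j hj) (inv_mem hj)

theorem Ctx.π_cm {x j : G} (hx : x ∈ C.H0) {w : List Nat} (hw : OkW w) (e : wS w = C.φ ⟨x, hx⟩)
    (hj : j ∈ C.J) : C.π (cm x j) = wM C.m w (C.π j) ^^^ C.π j := by
  rw [cm, C.π_mul _ (C.J_conj x (C.H0_le hx) j hj) _ (inv_mem hj), C.π_conj hx hw e hj, C.π_inv hj]

theorem Ctx.sq_of_q {a : G} (ha : a ∈ C.J) (hq : qB C.m (C.π a) = false) : a * a = 1 := by
  rw [C.sq a ha, hq]; rfl

theorem Ctx.code_z {a b : G} (ha : a ∈ C.J) (hb : b ∈ C.J) (e : C.π a = C.π b) : b = a ∨ b = a * z :=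
  (C.π_eq_iff ha hb).1 e

variable [Finite G]

/-- a commuting conjugate lies over a transvection -/
theorem Ctx.is_transv (F : FactsProp) (hm : C.m = 2) (hin : C.Inner) {g : G}
    (hx : g * z * g⁻¹ ∈ C.H0) (hJ : g * z * g⁻¹ ∉ C.J) (hnj : ∀ y ∈ cls z, y ∈ C.J → y = z) :
    ∃ a ∈ ptsL, C.φ ⟨g * z * g⁻¹, hx⟩ = tC a := by
  set x := g * z * g⁻¹ with hxdef
  have hxD : x ∈ cls z := ⟨g, rfl⟩
  obtain ⟨hs, -⟩ := C.cls_sq hxD
  have hxi : x⁻¹ = x := inv_eq_of_mul_eq_one_right hs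
  obtain ⟨w, hw, hwe⟩ := C.exists_word ⟨x, hx⟩
  have hsq : wS w * wS w = 1 := by
    rw [hwe, ← map_mul, show (⟨x, hx⟩ : ↥C.H0) * ⟨x, hx⟩ = 1 from Subtype.ext hs, map_one]
  have hne : wS w ≠ 1 := fun e => hJ ((C.φ_ker ⟨x, hx⟩).1 (hwe.symm.trans e))
  rcases F.2.1 w hw hsq hne with ⟨a, ha, e⟩ | ⟨h16, him, hfx, hiso⟩
  · exact ⟨a, ha, hwe.symm.trans e⟩
  exfalso
  let T : Subgroup G :=
    { carrier := {a | a ∈ C.J ∧ wN w (C.π a) = C.π a}
      one_mem' := ⟨one_mem _, by rw [C.π_one, ← wM_two, wM_zero]⟩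
      mul_mem' := fun {a b} ha hb => ⟨mul_mem ha.1 hb.1, by
        rw [C.π_mul a ha.1 b hb.1, ← wM_two, wM_xor 2 w (C.π_lt a ha.1) (C.π_lt b hb.1), wM_two, wM_two, ha.2, hb.2]⟩
      inv_mem' := fun {a} ha => ⟨inv_mem ha.1, by rw [C.π_inv ha.1]; exact ha.2⟩ }
  have T_card : Nat.card ↥T = 32 := by
    have hset : (T : Set G) = {a : G | a ∈ C.J ∧ (wN w (C.π a) == C.π a) = true} := by
      ext a; simp [T]
    rw [← SetLike.coe_sort_coe, Nat.card_coe_set_eq, hset, C.card_code fun n => wN w n == n, h16]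
  have T_sq : ∀ a ∈ T, a * a = 1 := fun a ha =>
    C.sq_of_q ha.1 (by rw [hm]; exact (hiso _ (C.π_lt a ha.1) _ (C.π_lt a ha.1) ha.2 ha.2).2)
  have cm_T : ∀ j ∈ C.J, cm x j ∈ T := fun j hj => ⟨C.cm_mem hx hj, by
    rw [C.π_cm hx hw hwe hj, hm, wM_two]; exact hfx _ (C.π_lt j hj)⟩
  have T_form : ∀ a ∈ T, ∃ j ∈ C.J, a = cm x j ∨ a = cm x j * z := by
    intro a ha
    obtain ⟨k, hk, e⟩ := him _ (C.π_lt a ha.1) ha.2
    obtain ⟨j, hj, rfl⟩ := C.π_surj k hk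
    exact ⟨j, hj, C.code_z (C.cm_mem hx hj) ha.1 (by rw [C.π_cm hx hw hwe hj, hm, wM_two, e])⟩
  have hxz : Commute x z := mem_cen.1 (C.H0_le hx)
  have T_cent : ∀ a ∈ T, Commute a x := by
    intro a ha
    obtain ⟨j, hj, rfl | rfl⟩ := T_form a ha
    · exact cm_comm hs (T_sq _ (cm_T j hj))
    · exact (cm_comm hs (T_sq _ (cm_T j hj))).mul_left hxz.symm
  have hxD' : ∀ j ∈ C.J, x * cm x j ∈ cls z := fun j _ => cm_conj hs j ▸ cls_conj hxD j
  have hgx : g⁻¹ * x * g = z := by rw [hxdef]; group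
  have hstar : g⁻¹ * z * g ∈ C.H0 :=
    hin _ ⟨g⁻¹, by group⟩ (mem_cen.1 (star_mem (C.H0_le hx)))
  have hback : ∀ a ∈ T, g⁻¹ * a * g ∈ C.H0 := by
    have hcm : ∀ j ∈ C.J, g⁻¹ * cm x j * g ∈ C.H0 := by
      intro j hj
      have h1 : g⁻¹ * (x * cm x j) * g ∈ C.H0 := by
        refine hin _ (by simpa using cls_conj (hxD' j hj) g⁻¹) ?_
        exact mem_cen.1 (cen_conj ((Commute.refl x).mul_left (T_cent _ (cm_T j hj))).eq)
      rw [show g⁻¹ * cm x j * g = (g⁻¹ * x * g)⁻¹ * (g⁻¹ * (x * cm x j) * g) by group, hgx]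
      exact mul_mem (inv_mem C.z_mem_H0) h1
    intro a ha
    obtain ⟨j, hj, rfl | rfl⟩ := T_form a ha
    · exact hcm j hj
    · rw [show g⁻¹ * (cm x j * z) * g = g⁻¹ * cm x j * g * (g⁻¹ * z * g) by group]
      exact mul_mem (hcm j hj) hstar
  let f : ↥T →* SU4 := C.φ.comp
    { toFun := fun a => ⟨g⁻¹ * a.1 * g, hback a.1 a.2⟩
      map_one' := Subtype.ext (by simp)
      map_mul' := fun a b => Subtype.ext (by simp only [Subgroup.coe_mul]; group) }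
  have hE : ∀ e ∈ f.range, e * e = 1 := by
    rintro _ ⟨a, rfl⟩
    rw [← map_mul, show a * a = 1 from Subtype.ext (T_sq a.1 a.2), map_one]
  obtain ⟨k₀, hk₀T, hk₀J, hk₀1⟩ : ∃ k ∈ T, g⁻¹ * k * g ∈ C.J ∧ k ≠ 1 := by
    have h1 := Subgroup.card_eq_card_quotient_mul_card_subgroup f.ker
    rw [Nat.card_congr (QuotientGroup.quotientKerEquivRange f).toEquiv, T_card] at h1
    have h2 := F.2.2.2.1 f.range hE
    by_contra hcon
    push Not at hcon
    have hbot : f.ker = ⊥ := (Subgroup.eq_bot_iff_forall _).2 fun a ha => Subtype.ext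
      (hcon a.1 a.2 ((C.φ_ker _).1 (MonoidHom.mem_ker.1 ha)))
    rw [hbot, Subgroup.card_bot] at h1
    omega
  -- members carried into `J` are no commutators
  have K_ne : ∀ k ∈ T, g⁻¹ * k * g ∈ C.J → k ≠ 1 → x * k ∉ cls z := by
    intro k _ hkJ hk1 hD
    have h1 : g⁻¹ * (x * k) * g ∈ C.J := by
      rw [show g⁻¹ * (x * k) * g = g⁻¹ * x * g * (g⁻¹ * k * g) by group, hgx]
      exact mul_mem C.z_mem hkJ
    have h2 := hnj _ (by simpa using cls_conj hD g⁻¹) h1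
    apply hk1
    have h3 : x * k = g * z * g⁻¹ := by
      calc x * k = g * (g⁻¹ * (x * k) * g) * g⁻¹ := by group
        _ = _ := by rw [h2]
    rw [← hxdef] at h3
    exact mul_eq_left.1 h3
  have K_form : ∀ k ∈ T, g⁻¹ * k * g ∈ C.J → k ≠ 1 → ∀ j ∈ C.J, C.π (cm x j) = C.π k → k = cm x j * z := by
    intro k hkT hkJ hk1 j hj e
    refine (C.code_z (C.cm_mem hx hj) hkT.1 e).resolve_left fun e' => ?_
    exact K_ne k hkT hkJ hk1 (e' ▸ hxD' j hj)
  have hxzD : x * z ∉ cls z := by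
    intro h
    obtain ⟨j, hj, e | e⟩ := T_form k₀ hk₀T
    · exact K_ne k₀ hk₀T hk₀J hk₀1 (e ▸ hxD' j hj)
    · refine K_ne k₀ hk₀T hk₀J hk₀1 ?_
      rw [e, ← mul_assoc, cm_conj hs,
        show j * x * j⁻¹ * z = j * (x * z) * j⁻¹ by
          rw [mul_assoc (j * x) j⁻¹ z, C.comm_z (inv_mem hj)]; group]
      exact cls_conj h j
  classical
  let K : Finset Nat := (Finset.range 256).filter fun n => ∃ k ∈ T, g⁻¹ * k * g ∈ C.J ∧ C.π k = n
  have mK : ∀ {n}, n ∈ K ↔ ∃ k ∈ T, g⁻¹ * k * g ∈ C.J ∧ C.π k = n := fun {n} => by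
    simp only [K, Finset.mem_filter, Finset.mem_range]
    exact ⟨fun h => h.2, fun h => ⟨by obtain ⟨k, hk, -, rfl⟩ := h; exact C.π_lt k hk.1, h⟩⟩
  have hK : Sub256 K := by
    refine ⟨fun n hn => ?_, mK.2 ⟨1, one_mem _, by simp, C.π_one⟩, fun n hn k hk => ?_⟩
    · obtain ⟨k, hk, -, rfl⟩ := mK.1 hn; exact C.π_lt k hk.1
    · obtain ⟨a, ha, haJ, rfl⟩ := mK.1 hn; obtain ⟨b, hb, hbJ, rfl⟩ := mK.1 hk
      refine mK.2 ⟨a * b, mul_mem ha hb, ?_, C.π_mul a ha.1 b hb.1⟩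
      rw [show g⁻¹ * (a * b) * g = g⁻¹ * a * g * (g⁻¹ * b * g) by group]
      exact mul_mem haJ hbJ
  have hinv : ∀ v, OkW v → wS v * wS w = wS w * wS v → ∀ n ∈ K, wN v n ∈ K := by
    intro v hv hvw n hn
    obtain ⟨k, hkT, hkJ, rfl⟩ := mK.1 hn
    obtain ⟨h, hh, hφ⟩ := C.exists_lift (wS v)
    have hy : h * x * h⁻¹ ∈ C.H0 := mul_mem (mul_mem hh hx) (inv_mem hh)
    set a := x * (h * x * h⁻¹) with hadef
    have haJ : a ∈ C.J := by
      refine (C.φ_ker ⟨a, mul_mem hx hy⟩).1 ?_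
      show C.φ (⟨x, hx⟩ * (⟨h, hh⟩ * ⟨x, hx⟩ * ⟨h, hh⟩⁻¹)) = 1
      rw [map_mul, map_mul, map_mul, map_inv, hφ, ← hwe, hvw, mul_inv_cancel_right, hsq]
    have haT : a ∈ T := by
      refine ⟨haJ, ?_⟩
      have e : x * a * x⁻¹ = a⁻¹ := by
        rw [hadef, hxi, show x * (x * (h * x * h⁻¹)) * x = (x * x) * (h * x * h⁻¹) * x by group, hs,
          mul_inv_rev, show (h * x * h⁻¹)⁻¹ = h * x⁻¹ * h⁻¹ by group, hxi, one_mul]
      rw [← wM_two, ← hm, ← C.π_conj hx hw hwe haJ, e, C.π_inv haJ]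
    have hy2 : h * x * h⁻¹ = x * a := by rw [hadef, ← mul_assoc x x, hs, one_mul]
    obtain ⟨j, hj, e | e⟩ := T_form a haT
    · have hc : Commute (j⁻¹ * h) x := by
        show _ = _
        rw [e, cm_conj hs] at hy2
        calc j⁻¹ * h * x = j⁻¹ * (h * x * h⁻¹) * h := by group
          _ = _ := by rw [hy2]; group
      have hjh : j⁻¹ * h ∈ C.H0 := mul_mem (inv_mem (C.J_le hj)) hh
      have hφ' : C.φ ⟨j⁻¹ * h, hjh⟩ = wS v := by
        show C.φ (⟨j⁻¹, C.J_le (inv_mem hj)⟩ * ⟨h, hh⟩) = _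
        rw [map_mul, (C.φ_ker _).2 (inv_mem hj), one_mul, hφ]
      refine mK.2 ⟨_, ⟨C.J_conj _ (C.H0_le hjh) k hkT.1, ?_⟩, ?_, by rw [C.π_conj hjh hv hφ'.symm hkT.1, hm, wM_two]⟩
      · rw [C.π_conj hjh hv hφ'.symm hkT.1, hm, wM_two, ← wN_append,
          wN_congr (hw.append hv) (hv.append hw) (by rw [wS_append, wS_append, hvw]) (C.π_lt k hkT.1),
          wN_append, hkT.2]
      · rw [show g⁻¹ * (j⁻¹ * h * k * (j⁻¹ * h)⁻¹) * g =
          g⁻¹ * (j⁻¹ * h) * g * (g⁻¹ * k * g) * (g⁻¹ * (j⁻¹ * h) * g)⁻¹ by group]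
        exact C.J_conj _ (cen_conj hc.eq) _ hkJ
    · refine absurd ?_ hxzD
      have : x * z = j⁻¹ * (h * x * h⁻¹) * j⁻¹⁻¹ := by
        rw [hy2, e, ← mul_assoc x (cm x j) z, cm_conj hs, inv_inv,
          show j⁻¹ * (j * x * j⁻¹ * z) * j = x * (j⁻¹ * (z * j)) by group, ← C.comm_z hj]
        group
      rw [this]
      exact cls_conj (cls_conj hxD h) _
  have hK1 : K.card ≠ 1 := by
    intro h
    have h0 : C.π k₀ = 0 :=
      Finset.card_le_one.1 h.le _ (mK.2 ⟨k₀, hk₀T, hk₀J, rfl⟩) _ hK.zero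
    rcases (C.π_eq_zero k₀ hk₀T.1).1 h0 with e | e
    · exact hk₀1 e
    · rw [e] at hk₀J
      have h2 := hnj _ ⟨g⁻¹, by group⟩ hk₀J
      refine hJ (?_ : x ∈ C.J)
      have : x = z := by
        calc x = g * z * g⁻¹ := hxdef
          _ = g * (g⁻¹ * z * g) * g⁻¹ := by rw [h2]
          _ = z := by group
      rw [this]; exact C.z_mem
  rcases F.2.2.2.2.2.2.2.2 w hw hsq h16 K hK (fun n hn => by obtain ⟨k, hk, -, rfl⟩ := mK.1 hn; exact hk.2)
    hinv with h | ⟨k₁, hk₁, k₂, hk₂, j₂, hj₂, h10, h20, h12, himg, hb⟩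
  · exact hK1 h
  obtain ⟨a₁, ha₁, ha₁J, rfl⟩ := mK.1 hk₁
  obtain ⟨a₂, ha₂, ha₂J, rfl⟩ := mK.1 hk₂
  obtain ⟨j, hj, rfl⟩ := C.π_surj j₂ hj₂
  obtain ⟨l, hl, el⟩ := T_form a₁ ha₁
  have n1 : a₁ ≠ 1 := fun e => h10 (by rw [e, C.π_one])
  have n2 : a₂ ≠ 1 := fun e => h20 (by rw [e, C.π_one])
  have e1 : a₁ = cm x l * z := by
    rcases el with e | e
    · exact absurd (e ▸ hxD' l hl) (K_ne a₁ ha₁ ha₁J n1)
    · exact e
  have e2 : a₂ = cm x j * z := K_form a₂ ha₂ ha₂J n2 j hj (by rw [C.π_cm hx hw hwe hj, hm, wM_two, himg])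
  have hprod : a₂ * a₁ = cm x (j * l) := by
    have hcj : Commute j (cm x l) := by
      refine (C.commute_iff hj (C.cm_mem hx hl)).2 ?_
      have e : C.π (cm x l) = C.π a₁ := by
        rw [e1, C.π_mul _ (C.cm_mem hx hl) z C.z_mem, C.π_z, Nat.xor_zero]
      rw [e, hm]
      simp only [bB] at hb ⊢
      rw [Nat.xor_comm]
      revert hb
      cases qB 2 (C.π a₁ ^^^ C.π j) <;> cases qB 2 (C.π a₁) <;> cases qB 2 (C.π j) <;> simp
    have e : cm x (j * l) = cm x j * (j * cm x l * j⁻¹) := by simp only [cm]; group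
    rw [e, hcj.eq, mul_inv_cancel_right, e1, e2, ← mul_assoc, mul_assoc (cm x j) z,
      ← C.comm_z (C.cm_mem hx hl), ← mul_assoc (cm x j), mul_assoc (cm x j * cm x l), C.z_mul_self, mul_one]
  refine K_ne (a₂ * a₁) (mul_mem ha₂ ha₁) ?_ (fun e => h12 ?_) ?_
  · rw [show g⁻¹ * (a₂ * a₁) * g = g⁻¹ * a₂ * g * (g⁻¹ * a₁ * g) by group]; exact mul_mem ha₂J ha₁J
  · rw [eq_inv_of_mul_eq_one_right e, C.π_inv ha₂.1]
  · rw [hprod]; exact hxD' _ (mul_mem hj hl)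

/-- over a transvection the two classes are not both present -/
theorem Ctx.no_xz (F : FactsProp) (hm : C.m = 2) (hin : C.Inner) (hnj : ∀ y ∈ cls z, y ∈ C.J → y = z)
    {x : G} (hxD : x ∈ cls z) (hx : x ∈ C.H0) {a : Nat} (ha : a ∈ ptsL) (hφ : C.φ ⟨x, hx⟩ = tC a) :
    x * z ∉ cls z := by
  intro hxz
  obtain ⟨hs, -⟩ := C.cls_sq hxD
  obtain ⟨g, hg⟩ := hxD
  subst hg
  set x := g * z * g⁻¹ with hxdef
  have hxD : x ∈ cls z := ⟨g, rfl⟩
  obtain ⟨hall, -, himg, -, n, hn, hn0⟩ := line_facts ha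
  obtain ⟨k, hk256, rfl⟩ := himg n hn
  obtain ⟨j, hj, rfl⟩ := C.π_surj k hk256
  have hwa : wS [a] = C.φ ⟨x, hx⟩ := by rw [wS_single, hφ]
  have hπ : C.π (cm x j) = tN a (C.π j) ^^^ C.π j := by
    rw [C.π_cm hx (OkW.single ha) hwa hj, hm, wM_two_single]
  have hl2 : cm x j * cm x j = 1 := C.sq_of_q (C.cm_mem hx hj) (by
    rw [hπ, hm]
    exact (hall _ hk256).1)
  set l := cm x j with hl
  have hlz : Commute l z := C.comm_z (C.cm_mem hx hj)
  have hlx : Commute l x := cm_comm hs hl2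
  have hgx : g⁻¹ * x * g = z := by rw [hxdef]; group
  -- the three elements carried back give transvections
  have key : ∀ u, Commute u x → x * u ∈ cls z → u ≠ 1 →
      ∃ b ∈ ptsL, ∃ hu : g⁻¹ * u * g ∈ C.H0, C.φ ⟨g⁻¹ * u * g, hu⟩ = tC b := by
    intro u hc hu h1
    have hy : g⁻¹ * (x * u) * g ∈ C.H0 := by
      refine hin _ (by simpa using cls_conj hu g⁻¹) ?_
      exact mem_cen.1 (cen_conj ((Commute.refl x).mul_left hc).eq)
    obtain ⟨h, hh⟩ : g⁻¹ * (x * u) * g ∈ cls z := by simpa using cls_conj hu g⁻¹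
    have hne : g⁻¹ * (x * u) * g ≠ z := fun e => h1 (mul_eq_left.1 (show x * u = x by
      calc x * u = g * (g⁻¹ * (x * u) * g) * g⁻¹ := by group
        _ = x := by rw [e]))
    have hnJ : g⁻¹ * (x * u) * g ∉ C.J := fun hJ => hne (hnj _ ⟨h, hh⟩ hJ)
    obtain ⟨b, hb, e⟩ := C.is_transv F hm hin (g := h) (hh ▸ hy) (hh ▸ hnJ) hnj
    have hu' : g⁻¹ * u * g ∈ C.H0 := by
      rw [show g⁻¹ * u * g = (g⁻¹ * x * g)⁻¹ * (g⁻¹ * (x * u) * g) by group, hgx]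
      exact mul_mem (inv_mem C.z_mem_H0) hy
    refine ⟨b, hb, hu', ?_⟩
    rw [← e, show (⟨h * z * h⁻¹, hh ▸ hy⟩ : ↥C.H0) = ⟨z, C.z_mem_H0⟩ * ⟨g⁻¹ * u * g, hu'⟩ from Subtype.ext (by
      show h * z * h⁻¹ = z * (g⁻¹ * u * g)
      conv_rhs => arg 1; rw [← hgx]
      rw [hh]; group), map_mul, (C.φ_ker ⟨z, C.z_mem_H0⟩).2 C.z_mem, one_mul]
  have hxzc : Commute z x := (mem_cen.1 (C.H0_le hx)).symm
  obtain ⟨b₁, hb₁, h₁, e₁⟩ := key z hxzc hxz C.z_ne_one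
  obtain ⟨b₂, hb₂, h₂, e₂⟩ := key l hlx (hl ▸ cm_conj hs j ▸ cls_conj hxD j) fun e => by
    rw [e, C.π_one] at hπ; exact hn0 hπ.symm
  obtain ⟨b₃, hb₃, h₃, e₃⟩ := key (l * z) (hlx.mul_left hxzc) (by
      rw [← mul_assoc, hl, cm_conj hs, show j * x * j⁻¹ * z = j * (x * z) * j⁻¹ by
        rw [mul_assoc (j * x) j⁻¹ z, C.comm_z (inv_mem hj)]; group]
      exact cls_conj hxz j) fun e => by
    have : C.π l = 0 := by
      have := C.π_mul l (C.cm_mem hx hj) z C.z_mem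
      rw [e, C.π_one, C.π_z, Nat.xor_zero] at this
      exact this.symm
    rw [this] at hπ; exact hn0 hπ.symm
  refine F.2.2.2.2.1 b₂ hb₂ b₁ hb₁ b₃ hb₃ ?_ ?_
  · rw [← e₁, ← e₂]
    refine Commute.map ?_ C.φ
    refine Subtype.ext ?_
    show g⁻¹ * l * g * (g⁻¹ * z * g) = g⁻¹ * z * g * (g⁻¹ * l * g)
    rw [show g⁻¹ * l * g * (g⁻¹ * z * g) = g⁻¹ * (l * z) * g by group, hlz.eq]
    group
  · rw [← e₁, ← e₂, ← e₃, ← map_mul]
    exact congrArg C.φ (Subtype.ext (by show g⁻¹ * l * g * (g⁻¹ * z * g) = g⁻¹ * (l * z) * g; group))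

omit [Finite G] in
/-- with one class the fixed codes are centralised -/
theorem Ctx.cent_fix (hm : C.m = 2) {x : G} (hxD : x ∈ cls z) (hx : x ∈ C.H0) (hxz : x * z ∉ cls z)
    {a : Nat} (ha : a ∈ ptsL) (hφ : C.φ ⟨x, hx⟩ = tC a) {b : G} (hb : b ∈ C.J)
    (hf : tN a (C.π b) = C.π b) : Commute b x := by
  obtain ⟨hs, -⟩ := C.cls_sq hxD
  have hc := C.J_conj x (C.H0_le hx) b hb
  have hπ : C.π b = C.π (x * b * x⁻¹) := by
    rw [C.π_conj hx (OkW.single ha) (by rw [wS_single, hφ]) hb, hm, wM_two_single, hf]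
  rcases C.code_z hb hc hπ with e | e
  · exact (mul_inv_eq_iff_eq_mul.1 e).symm
  · refine absurd ?_ hxz
    have h1 : cm x b = z := by
      rw [cm, e, C.comm_z hb, mul_inv_cancel_right]
    have h2 := cm_conj hs b
    rw [h1] at h2
    rw [h2]
    exact cls_conj hxD b

/-- the conjugates over one transvection form one orbit under `J` -/
theorem Ctx.same_pt (F : FactsProp) (hm : C.m = 2) (hin : C.Inner) (hnj : ∀ y ∈ cls z, y ∈ C.J → y = z)
    {x y : G} (hxD : x ∈ cls z) (hx : x ∈ C.H0) (hyD : y ∈ cls z) (hy : y ∈ C.H0)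
    {a : Nat} (ha : a ∈ ptsL) (hφ : C.φ ⟨x, hx⟩ = tC a) (hφ' : C.φ ⟨y, hy⟩ = tC a) :
    ∃ j ∈ C.J, j * x * j⁻¹ = y := by
  obtain ⟨hs, -⟩ := C.cls_sq hxD
  obtain ⟨hs', -⟩ := C.cls_sq hyD
  have hxi : x⁻¹ = x := inv_eq_of_mul_eq_one_right hs
  have hyi : y⁻¹ = y := inv_eq_of_mul_eq_one_right hs'
  have hxz := C.no_xz F hm hin hnj hxD hx ha hφ
  have hyz := C.no_xz F hm hin hnj hyD hy ha hφ'
  set b := x * y with hb
  have hbJ : b ∈ C.J := by
    refine (C.φ_ker ⟨b, mul_mem hx hy⟩).1 ?_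
    show C.φ (⟨x, hx⟩ * ⟨y, hy⟩) = 1
    rw [map_mul, hφ, hφ', tC_sq ha]
  have hfix : tN a (C.π b) = C.π b := by
    have e : x * b * x⁻¹ = b⁻¹ := by
      rw [hb, hxi, show x * (x * y) * x = (x * x) * y * x by group, hs, mul_inv_rev, hxi, hyi, one_mul]
    rw [← wM_two_single, ← hm, ← C.π_conj hx (OkW.single ha) (by rw [wS_single, hφ]) hbJ, e, C.π_inv hbJ]
  have hy2 : y = x * b := by rw [hb, ← mul_assoc, hs, one_mul]
  obtain ⟨-, hperp, himg, -, -⟩ := line_facts ha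
  rcases hperp _ (C.π_lt b hbJ) hfix with h1 | ⟨k, hk, hkf, hkb⟩
  · obtain ⟨k, hk, e⟩ := himg _ h1
    obtain ⟨j, hj, rfl⟩ := C.π_surj k hk
    rcases C.code_z (C.cm_mem hx hj) hbJ (by
      rw [C.π_cm hx (OkW.single ha) (by rw [wS_single, hφ]) hj, hm, wM_two_single, e]) with e' | e'
    · exact ⟨j, hj, by rw [hy2, e', cm_conj hs]⟩
    · refine absurd ?_ hxz
      have e2 : x * z = j⁻¹ * y * j⁻¹⁻¹ := by
        rw [hy2, e', ← mul_assoc x (cm x j) z, cm_conj hs, inv_inv,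
          show j⁻¹ * (j * x * j⁻¹ * z) * j = x * (j⁻¹ * (z * j)) by group, ← C.comm_z hj]
        group
      rw [e2]; exact cls_conj hyD _
  · obtain ⟨j, hj, rfl⟩ := C.π_surj k (witL_lt k hk)
    refine absurd ?_ hyz
    have hjx : Commute j x := C.cent_fix hm hxD hx hxz ha hφ hj hkf
    have e2 : j * y * j⁻¹ = y * z := by
      rw [hy2, show j * (x * b) * j⁻¹ = (j * x * j⁻¹) * (j * b * j⁻¹) by group, hjx.eq, mul_inv_cancel_right,
        C.conj_eq hj hbJ, hm, hkb, if_pos rfl, ← C.comm_z hbJ, ← mul_assoc]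
    rw [← e2]; exact cls_conj hyD j

/-- the orbit under `J` has four members -/
theorem Ctx.orbit_four (F : FactsProp) (hm : C.m = 2) (hin : C.Inner) (hnj : ∀ y ∈ cls z, y ∈ C.J → y = z)
    {x : G} (hxD : x ∈ cls z) (hx : x ∈ C.H0) {a : Nat} (ha : a ∈ ptsL) (hφ : C.φ ⟨x, hx⟩ = tC a) :
    {b : G | ∃ j ∈ C.J, j * x * j⁻¹ = b}.ncard = 4 := by
  obtain ⟨hs, -⟩ := C.cls_sq hxD
  have hxz := C.no_xz F hm hin hnj hxD hx ha hφ
  obtain ⟨hall, -, himg, h4, -⟩ := line_facts ha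
  have key : ∀ j ∈ C.J, C.π (x * (j * x * j⁻¹)) = tN a (C.π j) ^^^ C.π j := by
    intro j hj
    rw [← cm_conj hs, ← mul_assoc, hs, one_mul, C.π_cm hx (OkW.single ha) (by rw [wS_single, hφ]) hj, hm,
      wM_two_single]
  set L := ((List.range 256).filter fun n => (lineL a).contains n).toFinset
  have hL : L.card = 4 := by
    rw [List.toFinset_card_of_nodup (List.Nodup.filter _ List.nodup_range)]; exact h4
  rw [← hL, ← Set.ncard_coe_finset]
  refine Set.ncard_congr (fun b _ => C.π (x * b)) ?_ ?_ ?_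
  · rintro _ ⟨j, hj, rfl⟩
    rw [key j hj, Finset.mem_coe, List.mem_toFinset, List.mem_filter, List.mem_range, List.contains_iff_mem]
    exact ⟨xor_lt8 (tN_lt a (C.π_lt j hj)) (C.π_lt j hj), (hall _ (C.π_lt j hj)).2⟩
  · rintro _ _ ⟨j, hj, rfl⟩ ⟨k, hk, rfl⟩ e
    have hjJ : x * (j * x * j⁻¹) ∈ C.J := by rw [← cm_conj hs, ← mul_assoc, hs, one_mul]; exact C.cm_mem hx hj
    have hkJ : x * (k * x * k⁻¹) ∈ C.J := by rw [← cm_conj hs, ← mul_assoc, hs, one_mul]; exact C.cm_mem hx hk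
    rcases C.code_z hjJ hkJ e with e' | e'
    · exact (mul_left_cancel e').symm
    · refine absurd ?_ hxz
      have e2 : k * x * k⁻¹ = j * x * j⁻¹ * z := mul_left_cancel (e'.trans (mul_assoc x _ z))
      have e3 : x * z = j⁻¹ * (k * x * k⁻¹) * j⁻¹⁻¹ := by
        rw [e2, inv_inv, show j⁻¹ * (j * x * j⁻¹ * z) * j = x * (j⁻¹ * (z * j)) by group, ← C.comm_z hj]
        group
      rw [e3]; exact cls_conj (cls_conj hxD k) _
  · intro n hn
    rw [Finset.mem_coe, List.mem_toFinset, List.mem_filter, List.mem_range, List.contains_iff_mem] at hn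
    obtain ⟨k, hk, rfl⟩ := himg n hn.2
    obtain ⟨j, hj, rfl⟩ := C.π_surj k hk
    exact ⟨_, ⟨j, hj, rfl⟩, key j hj⟩

end Cfsg.Agent.Lib.U62Cent47
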