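import Cfsg.Agent.Lib.U62Cent47.Natural

/-!
Two commuting conjugates in the natural case: they commute over orthogonal points and braid otherwise.

Owner: helper47.
-/

set_option autoImplicit false
set_option maxRecDepth 20000

namespace Cfsg.Agent.Lib.U62Cent47

open Cfsg.Agent.Lib.U62Recog47 (smN hN)

universe u

variable {G : Type u} [Group G] {z : G} (C : Ctx z)

theorem tv_pair_ok : ptsL.all (fun a => ptsL.all fun b =>
    (a == b || (lineL a).all fun n => n == 0 || !(lineL b).contains n) &&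
    bif hN a b == 0 then eqW [a, b] [b, a]
    else !eqW [a, b] [b, a] && eqW [a, b, a] [b, a, b] && ptsL.any fun c =>
      ([1, 2, 3].any fun l => smN l c == tN a b) && eqW [a, b, a] [c] &&
        (lineL c).all fun n => n == 0 || tN a n != n) = true := by decide +kernel

theorem okW_pair {a b : Nat} (ha : a ∈ ptsL) (hb : b ∈ ptsL) : OkW [a, b] :=
  (OkW.single ha).append (OkW.single hb)

theorem wS_pair (a b : Nat) : wS [a, b] = tC a * tC b := by simp [wS]

theorem wS_triple (a b c : Nat) : wS [a, b, c] = tC a * tC b * tC c := by simp [wS, mul_assoc]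

theorem tv_line {a b : Nat} (ha : a ∈ ptsL) (hb : b ∈ ptsL) (h : a ≠ b) {n : Nat} (h1 : n ∈ lineL a)
    (h2 : n ∈ lineL b) : n = 0 := by
  have hp := List.all_eq_true.1 (List.all_eq_true.1 tv_pair_ok a ha) b hb
  simp only [Bool.and_eq_true, Bool.or_eq_true, beq_iff_eq, List.all_eq_true] at hp
  rcases (hp.1.resolve_left h) n h1 with e | e
  · exact e
  · rw [Bool.not_eq_true', ← Bool.not_eq_true, List.contains_iff_mem] at e; exact absurd h2 e

theorem tv_comm_iff {a b : Nat} (ha : a ∈ ptsL) (hb : b ∈ ptsL) : Commute (tC a) (tC b) ↔ hN a b = 0 := by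
  have hp := List.all_eq_true.1 (List.all_eq_true.1 tv_pair_ok a ha) b hb
  simp only [Bool.and_eq_true] at hp
  constructor
  · intro hc
    by_contra h
    have h' : (hN a b == 0) = false := by simpa using h
    have h2 := hp.2
    rw [h', cond_false] at h2
    simp only [Bool.and_eq_true, Bool.not_eq_true'] at h2
    have : eqW [a, b] [b, a] = true := by
      simp only [eqW, Bool.and_eq_true, List.all_eq_true, List.contains_iff_mem, beq_iff_eq]
      exact ⟨⟨okW_pair ha hb, okW_pair hb ha⟩, fun j hj => wN_congr (okW_pair ha hb) (okW_pair hb ha)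
        (by rw [wS_pair, wS_pair]; exact hc.eq) (pow_lt (List.mem_range.1 hj))⟩
    rw [this] at h2
    exact Bool.noConfusion h2.1.1
  · intro h
    have h2 := hp.2
    rw [show (hN a b == 0) = true from beq_iff_eq.2 h, cond_true] at h2
    have := wS_of_eqW h2
    rwa [wS_pair, wS_pair] at this

theorem tv_braid {a b : Nat} (ha : a ∈ ptsL) (hb : b ∈ ptsL) (h : hN a b ≠ 0) :
    ∃ c ∈ ptsL, tC a * tC b * tC a = tC c ∧ tC b * tC a * tC b = tC c ∧
      ∀ n ∈ lineL c, tN a n = n → n = 0 := by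
  have hp := List.all_eq_true.1 (List.all_eq_true.1 tv_pair_ok a ha) b hb
  have h' : (hN a b == 0) = false := by simpa using h
  simp only [Bool.and_eq_true] at hp
  have h2 := hp.2
  rw [h', cond_false] at h2
  simp only [Bool.and_eq_true, List.any_eq_true, List.all_eq_true, Bool.or_eq_true, beq_iff_eq,
    bne_iff_ne] at h2
  obtain ⟨⟨-, hbr⟩, c, hc, ⟨-, hcw⟩, hl⟩ := h2
  have e1 := wS_of_eqW hcw
  have e2 := wS_of_eqW hbr
  rw [wS_triple, wS_single] at e1
  rw [wS_triple, wS_triple] at e2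
  exact ⟨c, hc, e1, e2.symm.trans e1, fun n hn hf => (hl n hn).resolve_right fun h => h hf⟩

/-- a conjugate of `z` over the point `a` -/
structure Over (a : Nat) (y : G) : Prop where
  cls : y ∈ cls z
  mem : ∃ hy : y ∈ C.H0, C.φ ⟨y, hy⟩ = tC a

theorem Over.cen {a : Nat} {y : G} (h : Over C a y) : y ∈ Cen z := C.H0_le h.mem.1

theorem Over.conj {a : Nat} {y h : G} (hy : Over C a y) (hh : h ∈ C.H0) {c : Nat}
    (e : C.φ ⟨h, hh⟩ * tC a * (C.φ ⟨h, hh⟩)⁻¹ = tC c) : Over C c (h * y * h⁻¹) := by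
  obtain ⟨hy0, hφ⟩ := hy.mem
  refine ⟨cls_conj hy.cls h, mul_mem (mul_mem hh hy0) (inv_mem hh), ?_⟩
  show C.φ (⟨h, hh⟩ * ⟨y, hy0⟩ * ⟨h, hh⟩⁻¹) = _
  rw [map_mul, map_mul, map_inv, hφ, e]

theorem Over.conj_J {a : Nat} {y j : G} (hy : Over C a y) (hj : j ∈ C.J) : Over C a (j * y * j⁻¹) :=
  hy.conj C (C.J_le hj) (by rw [(C.φ_ker ⟨j, C.J_le hj⟩).2 hj]; simp)

/-- the hypotheses of the natural case -/
structure Nat2 : Prop where
  F : FactsProp
  m_eq : C.m = 2
  inner : C.Inner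
  notJ : ∀ y ∈ cls z, y ∈ C.J → y = z

variable [Finite G] (N : Nat2 C)

include N

theorem Over.no_xz {a : Nat} (ha : a ∈ ptsL) {y : G} (hy : Over C a y) : y * z ∉ Cfsg.Agent.Lib.U62Cent47.cls z := by
  obtain ⟨hy0, hφ⟩ := hy.mem
  exact C.no_xz N.F N.m_eq N.inner N.notJ hy.cls hy0 ha hφ

theorem Over.same {a : Nat} (ha : a ∈ ptsL) {x y : G} (hx : Over C a x) (hy : Over C a y) :
    ∃ j ∈ C.J, j * x * j⁻¹ = y := by
  obtain ⟨hx0, hφ⟩ := hx.mem
  obtain ⟨hy0, hφ'⟩ := hy.mem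
  exact C.same_pt N.F N.m_eq N.inner N.notJ hx.cls hx0 hy.cls hy0 ha hφ hφ'

/-- the code of the product of two members over one point -/
theorem Over.line {a : Nat} (ha : a ∈ ptsL) {x y : G} (hx : Over C a x) (hy : Over C a y) :
    x * y ∈ C.J ∧ C.π (x * y) ∈ lineL a := by
  obtain ⟨j, hj, rfl⟩ := Over.same C N ha hx hy
  obtain ⟨hx0, hφ⟩ := hx.mem
  obtain ⟨hs, -⟩ := C.cls_sq hx.cls
  have e : x * (j * x * j⁻¹) = cm x j := by rw [← cm_conj hs, ← mul_assoc, hs, one_mul]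
  rw [e, C.π_cm hx0 (OkW.single ha) (by rw [wS_single, hφ]) hj, N.m_eq, wM_two_single]
  exact ⟨C.cm_mem hx0 hj, ((line_facts ha).1 _ (C.π_lt j hj)).2⟩

theorem Over.eq_of_code {a : Nat} (ha : a ∈ ptsL) {x y : G} (hx : Over C a x) (hy : Over C a y)
    (h : C.π (x * y) = 0) : x = y := by
  obtain ⟨hJ, -⟩ := Over.line C N ha hx hy
  obtain ⟨hs, -⟩ := C.cls_sq hx.cls
  rcases (C.π_eq_zero _ hJ).1 h with e | e
  · exact (inv_eq_of_mul_eq_one_right hs).symm.trans (inv_eq_of_mul_eq_one_right e)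
  · refine absurd ?_ (Over.no_xz C N ha hx)
    have e2 : x * z = y := by
      calc x * z = x * (x * y) := by rw [e]
        _ = y := by rw [← mul_assoc, hs, one_mul]
    exact e2 ▸ hy.cls

theorem Over.commute_self {a : Nat} (ha : a ∈ ptsL) {x y : G} (hx : Over C a x) (hy : Over C a y) :
    Commute x y := by
  obtain ⟨j, hj, rfl⟩ := Over.same C N ha hx hy
  obtain ⟨hx0, hφ⟩ := hx.mem
  obtain ⟨hs, -⟩ := C.cls_sq hx.cls
  rw [← cm_conj hs]
  refine (Commute.refl x).mul_right (cm_comm hs (C.sq_of_q (C.cm_mem hx0 hj) ?_)).symm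
  rw [C.π_cm hx0 (OkW.single ha) (by rw [wS_single, hφ]) hj, N.m_eq, wM_two_single]
  exact ((line_facts ha).1 _ (C.π_lt j hj)).1

/-- members over orthogonal points commute -/
theorem Over.commute_iff {a b : Nat} (ha : a ∈ ptsL) (hb : b ∈ ptsL) {x y : G} (hx : Over C a x)
    (hy : Over C b y) : Commute x y ↔ hN a b = 0 := by
  obtain ⟨hx0, hφ⟩ := hx.mem
  obtain ⟨hy0, hφ'⟩ := hy.mem
  refine ⟨fun h => (tv_comm_iff ha hb).1 ?_, fun h => ?_⟩
  · rw [← hφ, ← hφ']
    exact Commute.map (show Commute (⟨x, hx0⟩ : ↥C.H0) ⟨y, hy0⟩ from Subtype.ext h.eq) C.φ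
  by_cases hab : a = b
  · subst hab; exact Over.commute_self C N ha hx hy
  have hc := (tv_comm_iff ha hb).2 h
  have hx' : Over C a (y * x * y⁻¹) := hx.conj C hy0 (by
    rw [hφ', ← hc.eq, mul_inv_cancel_right])
  have hy' : Over C b (x * y * x⁻¹) := hy.conj C hx0 (by
    rw [hφ, hc.eq, mul_inv_cancel_right])
  obtain ⟨hs, -⟩ := C.cls_sq hx.cls
  obtain ⟨hs', -⟩ := C.cls_sq hy.cls
  have hxi : x⁻¹ = x := inv_eq_of_mul_eq_one_right hs
  have hyi : y⁻¹ = y := inv_eq_of_mul_eq_one_right hs'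
  obtain ⟨hJa, hla⟩ := Over.line C N ha hx hx'
  obtain ⟨hJb, hlb⟩ := Over.line C N hb hy hy'
  have e : y * (x * y * x⁻¹) = (x * (y * x * y⁻¹))⁻¹ := by
    simp only [mul_inv_rev, hxi, hyi, mul_assoc]
  rw [e, C.π_inv hJa] at hlb
  have h0 : C.π (x * (y * x * y⁻¹)) = 0 := tv_line ha hb hab hla hlb
  have := Over.eq_of_code C N ha hx hx' h0
  exact (mul_inv_eq_iff_eq_mul.1 this.symm).symm

/-- members over other points braid -/
theorem Over.braid {a b : Nat} (ha : a ∈ ptsL) (hb : b ∈ ptsL) {x y : G} (hx : Over C a x)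
    (hy : Over C b y) (h : hN a b ≠ 0) : (x * y) ^ 3 = 1 := by
  obtain ⟨hx0, hφ⟩ := hx.mem
  obtain ⟨hy0, hφ'⟩ := hy.mem
  obtain ⟨c, hc, e1, e2, hfix⟩ := tv_braid ha hb h
  have i1 := inv_eq_of_mul_eq_one_right (tC_sq ha)
  have i2 := inv_eq_of_mul_eq_one_right (tC_sq hb)
  have hu : Over C c (x * y * x⁻¹) := hy.conj C hx0 (by rw [hφ, i1]; exact e1)
  have hv : Over C c (y * x * y⁻¹) := hx.conj C hy0 (by rw [hφ', i2]; exact e2)
  obtain ⟨hs, -⟩ := C.cls_sq hx.cls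
  obtain ⟨hs', -⟩ := C.cls_sq hy.cls
  have hxi : x⁻¹ = x := inv_eq_of_mul_eq_one_right hs
  have hyi : y⁻¹ = y := inv_eq_of_mul_eq_one_right hs'
  obtain ⟨hJ, hl⟩ := Over.line C N hc hu hv
  set d := x * y * x⁻¹ * (y * x * y⁻¹) with hd
  have hd3 : d = (x * y) ^ 3 := by
    rw [hd, hxi, hyi]; simp [pow_succ, mul_assoc]
  have hxd : x * d * x⁻¹ = d⁻¹ := by
    rw [hd, hxi, hyi]
    simp only [mul_inv_rev, hxi, hyi, mul_assoc]
    rw [← mul_assoc x x, hs, one_mul]
  have hf : tN a (C.π d) = C.π d := by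
    rw [← wM_two_single, ← N.m_eq, ← C.π_conj hx0 (OkW.single ha) (by rw [wS_single, hφ]) hJ, hxd, C.π_inv hJ]
  have := Over.eq_of_code C N hc hu hv (hfix _ hl hf)
  rw [← hd3, hd, this, (C.cls_sq hv.cls).1]

end Cfsg.Agent.Lib.U62Cent47
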