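import Cfsg.Agent.Lib.U62Cent47.Six
import Cfsg.Agent.Lib.U62Cent47.Pairs

/-!
The perp set of `z` is that of a transvection of U6(2).

Owner: helper47.
-/

set_option autoImplicit false
set_option maxRecDepth 20000

open scoped commutatorElement

namespace Cfsg.Agent.Lib.U62Cent47

open Cfsg.Agent.Lib.U62Recog47 (V4 h4 Iso vec code smN hN perp Chart Host dec enc)
open Cfsg.Agent.Lib.G24 (K4)

universe u

variable {G : Type u} [Group G] {z : G} (C : Ctx z)

theorem perp_line_ok : ptsL.all (fun a => ((lineL a).all fun n => tN a n == n && !qB 2 n) &&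
    (List.range 256).all fun n => (lineL a).contains n ||
      (witL ++ lineL a).any fun j => j < 256 && tN a j == j && bB 2 j n) = true := by decide +kernel

theorem bits_span_ok : (List.range 8).all (fun i => ptsL.any fun a => ptsL.any fun b =>
    (lineL a).any fun n => (lineL b).any fun m => n ^^^ m == 2 ^ i) = true := by decide +kernel

theorem smN_mem_line {l a : Nat} (hl : l < 4) : smN l a ∈ lineL a :=
  List.mem_map.2 ⟨l, List.mem_range.2 hl, rfl⟩

theorem k4_sq_inj : ∀ x y : K4, x * x = y * y → x = y := by decide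

theorem vec_ne {a : Nat} (ha : a ∈ ptsL) : vec a ≠ 0 := fun e =>
  (pts_iso a ha).2.1 (U62Recog47.vec_eq_zero (pts_iso a ha).2.2 e)

theorem vec_line {a : Nat} (t : K4) : vec (smN (enc t) a) = t • vec a := U62Recog47.code_smN t

/-- the point of an isotropic vector is unique -/
theorem pt_unique {a b : Nat} (ha : a ∈ ptsL) (hb : b ∈ ptsL) {l m : K4} (hl : l ≠ 0)
    (e : l • vec a = m • vec b) : a = b ∧ l = m := by
  have hab : a = b := by
    by_contra h
    have he : smN (enc l) a = smN (enc m) b :=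
      U62Recog47.vec_inj (U62Recog47.smN_lt _ _) (U62Recog47.smN_lt _ _) (by rw [vec_line, vec_line, e])
    have h0 := tv_line ha hb h (smN_mem_line (l := enc l) (U62Recog47.enc_spec l).1)
      (he ▸ smN_mem_line (U62Recog47.enc_spec m).1)
    have : l • vec a = 0 := by rw [← vec_line, h0, U62Recog47.vec_zero]
    exact (smul_ne_zero hl (vec_ne ha)) this
  subst hab
  refine ⟨rfl, ?_⟩
  have h2 : (l - m) • vec a = 0 := by rw [sub_smul, e, sub_self]
  exact sub_eq_zero.1 ((smul_eq_zero.1 h2).resolve_right (vec_ne ha))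

theorem exists_point {p : V4} (hp : Iso p) : ∃ a ∈ ptsL, ∃ l : K4, l ≠ 0 ∧ p = l • vec a := by
  obtain ⟨n, hn, rfl⟩ := U62Recog47.exists_iso_code hp
  have hn256 := U62Recog47.isoL_lt n hn
  obtain ⟨hn0, hnn⟩ := (U62Recog47.mem_isoL hn256).1 hn
  have hc := List.all_eq_true.1 cover_ok n (List.mem_range.2 hn256)
  simp only [bne_iff_ne.2 hn0, hnn, beq_self_eq_true, Bool.and_true, Bool.not_true, Bool.false_or,
    List.any_eq_true, beq_iff_eq] at hc
  obtain ⟨b, hb, l, hl, rfl⟩ := hc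
  have hl4 : 0 < l ∧ l < 4 := by fin_cases hl <;> norm_num
  refine ⟨b, hb, dec l, fun e => ?_, U62Recog47.vec_smN hl4.2 b⟩
  have := (U62Recog47.dec_zero_iff hl4.2).1 e; omega

theorem iso_pt {a : Nat} (ha : a ∈ ptsL) : h4 (vec a) (vec a) = 0 :=
  (U62Recog47.h4_vec_zero_iff a a).2 (pts_iso a ha).1

variable [Finite G] (N : Nat2 C)

include N

omit [Finite G] in
/-- a lift of a transvection moves members over a point -/
theorem Over.step {a g : Nat} (hg : g ∈ ptsL) {y : G} (hy : Over C a y) :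
    ∃ y' : G, y' ∈ Cfsg.Agent.Lib.U62Cent47.cls z ∧ ∃ h : y' ∈ C.H0, C.φ ⟨y', h⟩ = tC g * tC a * tC g := by
  obtain ⟨hy0, hφ⟩ := hy.mem
  obtain ⟨h, hh, e⟩ := C.exists_lift (tC g)
  refine ⟨h * y * h⁻¹, cls_conj hy.cls h, mul_mem (mul_mem hh hy0) (inv_mem hh), ?_⟩
  show C.φ (⟨h, hh⟩ * ⟨y, hy0⟩ * ⟨h, hh⟩⁻¹) = _
  rw [map_mul, map_mul, map_inv, hφ, e, inv_eq_of_mul_eq_one_right (tC_sq hg)]

/-- there are members over every point -/
theorem Over.exists_all {a₀ : Nat} (ha₀ : a₀ ∈ ptsL) {x : G} (hx : Over C a₀ x) :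
    ∀ a ∈ ptsL, ∃ y, Over C a y := by
  let P : SU4 → Prop := fun A => ∃ y : G, y ∈ Cfsg.Agent.Lib.U62Cent47.cls z ∧ ∃ h : y ∈ C.H0, C.φ ⟨y, h⟩ = A
  have toOver : ∀ a, P (tC a) → ∃ y, Over C a y := fun a ⟨y, h1, h2⟩ => ⟨y, h1, h2⟩
  have step : ∀ a ∈ ptsL, ∀ g ∈ genL, P (tC a) → P (tC g * tC a * tC g) := fun a _ g hg h => by
    obtain ⟨y, hy⟩ := toOver a h
    exact Over.step C N (gen_pts g hg) hy
  have back : ∀ a ∈ ptsL, P (tC a) → P (tC 5) := by
    refine pts_induction (P := fun A => P A → P (tC 5)) id fun a ha g hg ih h => ih ?_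
    obtain ⟨y, hy1, hy2, hy3⟩ := h
    obtain ⟨k, hk, e⟩ := C.exists_lift (tC g)
    refine ⟨k * y * k⁻¹, cls_conj hy1 k, mul_mem (mul_mem hk hy2) (inv_mem hk), ?_⟩
    show C.φ (⟨k, hk⟩ * ⟨y, hy2⟩ * ⟨k, hk⟩⁻¹) = _
    rw [map_mul, map_mul, map_inv, hy3, e, inv_eq_of_mul_eq_one_right (tC_sq (gen_pts g hg)),
      show tC g * (tC g * tC a * tC g) * tC g = (tC g * tC g) * tC a * (tC g * tC g) by group,
      tC_sq (gen_pts g hg), one_mul, mul_one]
  exact fun a ha => toOver a (pts_induction (back a₀ ha₀ ⟨x, hx.cls, hx.mem⟩) step a ha)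

omit N in
/-- the vector of a commutator code -/
theorem vec_cm {a : Nat} (ha : a ∈ ptsL) (n : Nat) :
    vec (tN a n ^^^ n) = h4 (vec n) (vec a) • vec a := by
  rw [U62Recog47.h4_vec, show tN a n ^^^ n = smN (hN n a) a by
    rw [tN, Nat.xor_comm, ← Nat.xor_assoc, Nat.xor_self, Nat.zero_xor]]
  exact U62Recog47.vec_smN (U62Recog47.hN_lt _ _) a

/-- the coordinate of a member `y` relative to the base member `X` over its point -/
def Off (X y : G) (a : Nat) (t : K4) : Prop := vec (C.π (X * y)) = t • vec a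

/-- exactly one member has a given coordinate -/
theorem Over.exists_off {a : Nat} (ha : a ∈ ptsL) {X : G} (hX : Over C a X) (t : K4) :
    ∃ y, Over C a y ∧ Off C X y a t := by
  obtain ⟨hX0, hφ⟩ := hX.mem
  obtain ⟨hs, -⟩ := C.cls_sq hX.cls
  obtain ⟨k, hk, e⟩ := (line_facts ha).2.2.1 _ (smN_mem_line (l := enc t) (U62Recog47.enc_spec t).1)
  obtain ⟨j, hj, rfl⟩ := C.π_surj k hk
  refine ⟨j * X * j⁻¹, hX.conj_J C hj, ?_⟩
  rw [Off, show X * (j * X * j⁻¹) = cm X j by rw [← cm_conj hs, ← mul_assoc, hs, one_mul],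
    C.π_cm hX0 (OkW.single ha) (by rw [wS_single, hφ]) hj, N.m_eq, wM_two_single, e, vec_line]

theorem Over.off_unique {a : Nat} (ha : a ∈ ptsL) {X y y' : G} (hX : Over C a X) (hy : Over C a y)
    (hy' : Over C a y') {t : K4} (h : Off C X y a t) (h' : Off C X y' a t) : y = y' := by
  obtain ⟨hJ, -⟩ := Over.line C N ha hX hy
  obtain ⟨hJ', -⟩ := Over.line C N ha hX hy'
  refine Over.eq_of_code C N ha hy hy' ?_
  have hyi : y⁻¹ = y := inv_eq_of_mul_eq_one_right (C.cls_sq hy.cls).1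
  rw [show y * y' = (X * y)⁻¹ * (X * y') by rw [mul_inv_rev, hyi]; group,
    C.π_mul _ (inv_mem hJ) _ hJ', C.π_inv hJ,
    U62Recog47.vec_inj (C.π_lt _ hJ) (C.π_lt _ hJ') (h.trans h'.symm), Nat.xor_self]

theorem Over.pt_eq {a b : Nat} (ha : a ∈ ptsL) (hb : b ∈ ptsL) {y : G} (h : Over C a y) (h' : Over C b y) :
    a = b := by
  by_contra hne
  obtain ⟨hy0, e⟩ := h.mem
  obtain ⟨_, e'⟩ := h'.mem
  obtain ⟨n, hn, hn0⟩ := (line_facts ha).2.2.2.2
  obtain ⟨k, hk, rfl⟩ := (line_facts ha).2.2.1 n hn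
  have h1 := ((line_facts hb).1 k hk).2
  have : tN b k = tN a k := by
    rw [← wM_two_single, ← wM_two_single, wM_two, wM_two]
    exact wN_congr (OkW.single hb) (OkW.single ha) (by rw [wS_single, wS_single]; exact e'.symm.trans e) hk
  rw [this] at h1
  exact hn0 (tv_line ha hb hne hn h1)

/-- the correspondence with near points -/
def Rel' (X : Nat → G) (p : V4) (c : K4) (y : G) : Prop :=
  ∃ a ∈ ptsL, ∃ l : K4, l ≠ 0 ∧ p = l • vec a ∧ Over C a y ∧ Off C (X a) y a (l⁻¹ * c * (l⁻¹ * c))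

theorem exists_rel {X : Nat → G} (hX : ∀ a ∈ ptsL, Over C a (X a)) {p : V4} (hp : Iso p) (c : K4) :
    ∃ y, Rel' C X p c y := by
  obtain ⟨a, ha, l, hl, rfl⟩ := exists_point hp
  obtain ⟨y, hy, ho⟩ := Over.exists_off C N ha (hX a ha) (l⁻¹ * c * (l⁻¹ * c))
  exact ⟨y, a, ha, l, hl, rfl, hy, ho⟩

theorem rel_unique {X : Nat → G} (hX : ∀ a ∈ ptsL, Over C a (X a)) {p : V4} {c : K4} {y y' : G}
    (h : Rel' C X p c y) (h' : Rel' C X p c y') : y = y' := by
  obtain ⟨a, ha, l, hl, rfl, hy, ho⟩ := h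
  obtain ⟨b, hb, m, -, e, hy', ho'⟩ := h'
  obtain ⟨rfl, rfl⟩ := pt_unique ha hb hl e
  exact Over.off_unique C N ha (hX a ha) hy hy' ho ho'

open Classical in
/-- near points -/
noncomputable def ptF (X : Nat → G) (p : V4) (c : K4) : G :=
  if h : ∃ y, Rel' C X p c y then h.choose else 1

theorem ptF_spec {X : Nat → G} (hX : ∀ a ∈ ptsL, Over C a (X a)) {p : V4} (hp : Iso p) (c : K4) :
    Rel' C X p c (ptF C X p c) := by
  rw [ptF, dif_pos (exists_rel C N hX hp c)]
  exact (exists_rel C N hX hp c).choose_spec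

theorem ptF_eq {X : Nat → G} (hX : ∀ a ∈ ptsL, Over C a (X a)) {p : V4} (hp : Iso p) {c : K4} {y : G}
    (h : Rel' C X p c y) : ptF C X p c = y := rel_unique C N hX (ptF_spec C N hX hp c) h

/-- a member of the perp set -/
theorem Over.perp_mem {a : Nat} (ha : a ∈ ptsL) {y : G} (hy : Over C a y) : y ∈ perp (Cfsg.Agent.Lib.U62Cent47.cls z) z := by
  refine ⟨hy.cls, fun e => ?_, (mem_cen.1 (hy.cen C)).symm⟩
  obtain ⟨hy0, hφ⟩ := hy.mem
  have h1 : tC a = 1 := hφ.symm.trans ((C.φ_ker _).2 (show y ∈ C.J from e.symm ▸ C.z_mem))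
  obtain ⟨n, hn, hn0⟩ := (line_facts ha).2.2.2.2
  obtain ⟨k, hk, rfl⟩ := (line_facts ha).2.2.1 n hn
  refine hn0 ?_
  rw [← wM_two_single, wM_two, wN_congr (OkW.single ha) OkW.nil (by rw [wS_single, h1, wS_nil]) hk,
    show wN [] k = k from rfl, Nat.xor_self]

theorem Over.of_perp {y : G} (hy : y ∈ perp (Cfsg.Agent.Lib.U62Cent47.cls z) z) :
    ∃ a ∈ ptsL, Over C a y := by
  obtain ⟨hD, hne, hc⟩ := hy
  have hy0 := N.inner y hD hc.symm
  have hJ : y ∉ C.J := fun h => hne (N.notJ y hD h)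
  obtain ⟨g, rfl⟩ := hD
  obtain ⟨a, ha, e⟩ := C.is_transv N.F N.m_eq N.inner hy0 hJ N.notJ
  exact ⟨a, ha, ⟨g, rfl⟩, hy0, e⟩

/-- the chart -/
noncomputable def mkChart {X : Nat → G} (hX : ∀ a ∈ ptsL, Over C a (X a)) :
    Chart (Cfsg.Agent.Lib.U62Cent47.cls z) z where
  pt := ptF C X
  scale := fun p c l hp hl => by
    obtain ⟨a, ha, m, hm, e, hy, ho⟩ := ptF_spec C N hX hp c
    refine ptF_eq C N hX (hp.smul hl) ⟨a, ha, l * m, mul_ne_zero hl hm, by rw [e, smul_smul], hy, ?_⟩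
    rwa [show (l * m)⁻¹ * (l * c) = m⁻¹ * c by field_simp]
  mem := fun p c hp => by
    obtain ⟨a, ha, l, -, -, hy, -⟩ := ptF_spec C N hX hp c
    exact Over.perp_mem C N ha hy
  surj := fun x hx => by
    obtain ⟨a, ha, hy⟩ := Over.of_perp C N hx
    obtain ⟨hJ, hl⟩ := Over.line C N ha (hX a ha) hy
    simp only [lineL, List.mem_map, List.mem_range] at hl
    obtain ⟨l, hl4, hl⟩ := hl
    have hp : Iso (vec a) := ⟨vec_ne ha, iso_pt ha⟩
    refine ⟨vec a, dec l * dec l, hp, (ptF_eq C N hX hp ⟨a, ha, 1, one_ne_zero, (one_smul _ _).symm, hy, ?_⟩).symm⟩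
    rw [inv_one, one_mul, Off, ← hl, U62Recog47.vec_smN hl4, U62Recog47.k4_conj_conj]
  inj := fun p q c d hp hq e => by
    obtain ⟨a, ha, l, hl, rfl, hy, ho⟩ := ptF_spec C N hX hp c
    obtain ⟨b, hb, m, hm, rfl, hy', ho'⟩ := ptF_spec C N hX hq d
    rw [← e] at hy' ho'
    obtain rfl := Over.pt_eq C N ha hb hy hy'
    have h2 : (l⁻¹ * c * (l⁻¹ * c) - m⁻¹ * d * (m⁻¹ * d)) • vec a = 0 := by
      rw [sub_smul, ← ho, ← ho', sub_self]
    have h3 := k4_sq_inj _ _ (sub_eq_zero.1 ((smul_eq_zero.1 h2).resolve_right (vec_ne ha)))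
    refine ⟨m * l⁻¹, mul_ne_zero hm (inv_ne_zero hl), by rw [smul_smul, inv_mul_cancel_right₀ hl], ?_⟩
    rw [mul_assoc, h3]; field_simp
  comm := fun p q c d hp hq => by
    obtain ⟨a, ha, l, hl, rfl, hy, -⟩ := ptF_spec C N hX hp c
    obtain ⟨b, hb, m, hm, rfl, hy', -⟩ := ptF_spec C N hX hq d
    rw [Over.commute_iff C N ha hb hy hy', U62Recog47.h4_smul_left, U62Recog47.h4_smul_right,
      ← U62Recog47.h4_vec_zero_iff]
    simp [hl, hm]
  braid := fun p q c d hp hq h => by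
    obtain ⟨a, ha, l, hl, rfl, hy, -⟩ := ptF_spec C N hX hp c
    obtain ⟨b, hb, m, hm, rfl, hy', -⟩ := ptF_spec C N hX hq d
    refine Over.braid C N ha hb hy hy' fun h0 => h ?_
    rw [U62Recog47.h4_smul_left, U62Recog47.h4_smul_right, (U62Recog47.h4_vec_zero_iff a b).2 h0]
    simp
  shift := fun w => by
    obtain ⟨n, hn, rfl⟩ := U62Recog47.exists_code w
    obtain ⟨j, hj, rfl⟩ := C.π_surj n hn
    refine ⟨j, C.comm_z hj, fun p c hp => ?_⟩
    obtain ⟨a, ha, l, hl, e, hy, ho⟩ := ptF_spec C N hX hp c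
    symm
    refine ptF_eq C N hX hp ⟨a, ha, l, hl, e, hy.conj_J C hj, ?_⟩
    obtain ⟨hy0, hφ⟩ := hy.mem
    obtain ⟨hs, -⟩ := C.cls_sq hy.cls
    obtain ⟨hJ, -⟩ := Over.line C N ha (hX a ha) hy
    rw [Off, show X a * (j * ptF C X p c * j⁻¹) = X a * ptF C X p c * cm (ptF C X p c) j by
        rw [mul_assoc (X a), cm_conj hs],
      C.π_mul _ hJ _ (C.cm_mem hy0 hj), U62Recog47.vec_xor, ho,
      C.π_cm hy0 (OkW.single ha) (by rw [wS_single, hφ]) hj, N.m_eq, wM_two_single, vec_cm ha,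
      U62Recog47.h4_swap (vec a) (vec (C.π j)), ← add_smul, e, U62Recog47.h4_smul_left]
    congr 1
    rw [mul_add, ← U62Recog47.k4_sq_add, show l⁻¹ * (l * h4 (vec a) (vec (C.π j))) = h4 (vec a) (vec (C.π j)) by
      field_simp]

omit [Finite G] in
/-- the codes of commutators with members span the module, so only `1` and `z` centralise the members -/
theorem kernel_members (hall : ∀ a ∈ ptsL, ∃ y, Over C a y) (g : G) (hg : Commute g z)
    (hc : ∀ a ∈ ptsL, ∀ y, Over C a y → Commute g y) : g = 1 ∨ g = z := by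
  have line : ∀ a ∈ ptsL, ∀ n ∈ lineL a, ∃ e ∈ C.J, Commute g e ∧ C.π e = n := by
    intro a ha n hn
    obtain ⟨y, hy⟩ := hall a ha
    obtain ⟨hy0, hφ⟩ := hy.mem
    obtain ⟨k, hk, rfl⟩ := (line_facts ha).2.2.1 n hn
    obtain ⟨j, hj, rfl⟩ := C.π_surj k hk
    refine ⟨cm y j, C.cm_mem hy0 hj, ?_, by
      rw [C.π_cm hy0 (OkW.single ha) (by rw [wS_single, hφ]) hj, N.m_eq, wM_two_single]⟩
    obtain ⟨hs, -⟩ := C.cls_sq hy.cls
    have h2 := hc a ha _ (hy.conj_J C hj)
    rw [show cm y j = y * (j * y * j⁻¹) by rw [← cm_conj hs, ← mul_assoc, hs, one_mul]]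
    exact (hc a ha y hy).mul_right h2
  have key : ∀ n < 256, ∃ e ∈ C.J, Commute g e ∧ C.π e = n := by
    intro n hn
    have e0 := beq_iff_eq.1 (List.all_eq_true.1 bits_ok n (List.mem_range.2 hn))
    rw [← e0, bitsX]
    have : ∀ l : List Nat, (∀ j ∈ l, j < 8) → ∃ e ∈ C.J, Commute g e ∧
        C.π e = l.foldr (fun j r => (bif n.testBit j then id (2 ^ j) else 0) ^^^ r) 0 := by
      intro l
      induction l with
      | nil => exact fun _ => ⟨1, one_mem _, Commute.one_right g, C.π_one⟩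
      | cons i l ih =>
        intro hl
        obtain ⟨e, he, hge, hπ⟩ := ih fun k hk => hl k (List.mem_cons_of_mem _ hk)
        rw [List.foldr_cons]
        cases n.testBit i
        · exact ⟨e, he, hge, by rw [cond_false, Nat.zero_xor, hπ]⟩
        · have h := List.all_eq_true.1 bits_span_ok i (List.mem_range.2 (hl i List.mem_cons_self))
          simp only [List.any_eq_true, beq_iff_eq] at h
          obtain ⟨a, ha, b, hb, u, hu, v, hv, huv⟩ := h
          obtain ⟨e1, he1, hg1, hπ1⟩ := line a ha u hu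
          obtain ⟨e2, he2, hg2, hπ2⟩ := line b hb v hv
          exact ⟨e1 * e2 * e, mul_mem (mul_mem he1 he2) he, (hg1.mul_right hg2).mul_right hge, by
            rw [C.π_mul _ (mul_mem he1 he2) _ he, C.π_mul _ he1 _ he2, hπ1, hπ2, huv, hπ, cond_true, id]⟩
    exact this _ fun j hj => List.mem_range.1 hj
  have hJ : ∀ j ∈ C.J, Commute g j := by
    intro j hj
    obtain ⟨e, he, hge, hπ⟩ := key _ (C.π_lt j hj)
    rcases C.code_z he hj hπ with rfl | rfl
    · exact hge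
    · exact hge.mul_right hg
  have hgJ := C.self_cent g (mem_cen.2 hg.eq) hJ
  rcases eq_or_ne (C.π g) 0 with h | h
  · exact (C.π_eq_zero g hgJ).1 h
  · obtain ⟨j, hj, e⟩ := C.exists_flip hgJ h
    rw [← (hJ j hj).eq, mul_inv_cancel_right] at e
    exact absurd (mul_eq_right.1 e.symm) C.z_ne_one

/-- the centraliser of a commuting pair has no odd core -/
theorem odd_free {a : Nat} (ha : a ∈ ptsL) {x : G} (hx : Over C a x) (O : Subgroup G)
    (hle : O ≤ Subgroup.centralizer ({z, x} : Set G)) (hodd : Odd (Nat.card O))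
    (hn : Subgroup.centralizer ({z, x} : Set G) ≤ Subgroup.normalizer (O : Set G)) : O = ⊥ := by
  obtain ⟨hx0, hφ⟩ := hx.mem
  have hxz := Over.no_xz C N ha hx
  have hf := List.all_eq_true.1 perp_line_ok a ha
  simp only [Bool.and_eq_true, List.all_eq_true, List.any_eq_true, Bool.or_eq_true, beq_iff_eq,
    Bool.not_eq_true', List.contains_iff_mem, List.mem_range, decide_eq_true_eq] at hf
  obtain ⟨hline, hperp⟩ := hf
  rw [Subgroup.eq_bot_iff_forall]
  intro o ho
  have hoz : Commute o z := ((Subgroup.mem_centralizer_iff.1 (hle ho)) z (Or.inl rfl)).symm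
  have hocen : o ∈ Cen z := mem_cen.2 hoz.eq
  have hord : orderOf o ∣ Nat.card O := Subgroup.orderOf_dvd_natCard _ ho
  have hoo : Odd (orderOf o) := hodd.of_dvd_nat hord
  obtain ⟨k, hk⟩ := hoo
  have ho0 : o ∈ C.H0 := by
    rw [show o = o ^ (k + 1) * o ^ (k + 1) by
      rw [← pow_add, show k + 1 + (k + 1) = orderOf o + 1 by omega, pow_succ, pow_orderOf_eq_one, one_mul]]
    exact C.H0_sq _ (pow_mem hocen _)
  have hJodd : ∀ d ∈ O, d ∈ C.J → d = 1 := by
    intro d hd hdJ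
    have h4 : d ^ 4 = 1 := by
      rw [show d ^ 4 = (d * d) * (d * d) by simp [pow_succ, mul_assoc], C.sq d hdJ]
      split <;> simp [C.z_mul_self]
    have h1 : orderOf d ∣ 4 := orderOf_dvd_of_pow_eq_one h4
    have h2 : Odd (orderOf d) := hodd.of_dvd_nat (Subgroup.orderOf_dvd_natCard _ hd)
    have h3 := Nat.le_of_dvd (by norm_num) h1
    obtain ⟨r, hr⟩ := h2
    have : orderOf d ≠ 3 := fun e => by rw [e] at h1; norm_num at h1
    exact orderOf_eq_one_iff.1 (by omega)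
  have hfixc : ∀ b ∈ C.J, tN a (C.π b) = C.π b → Commute o b := by
    intro b hb hfb
    have hbx := C.cent_fix N.m_eq hx.cls hx0 hxz ha hφ hb hfb
    have hbC : b ∈ Subgroup.centralizer ({z, x} : Set G) := Subgroup.mem_centralizer_iff.2 fun y hy => by
      rcases hy with rfl | rfl
      · exact (C.comm_z hb).symm
      · exact hbx.eq.symm
    have hd : o * b * o⁻¹ * b⁻¹ ∈ O := by
      rw [show o * b * o⁻¹ * b⁻¹ = o * (b * o⁻¹ * b⁻¹) by group]
      exact mul_mem ho ((Subgroup.mem_normalizer_iff.1 (hn hbC) _).1 (inv_mem ho))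
    have hd' : o * b * o⁻¹ * b⁻¹ ∈ C.J := mul_mem (C.J_conj o hocen b hb) (inv_mem hb)
    exact mul_inv_eq_iff_eq_mul.1 (mul_inv_eq_one.1 (hJodd _ hd hd'))
  have hall : ∀ j ∈ C.J, Commute o j := by
    intro j hj
    set c := o * j * o⁻¹ * j⁻¹ with hc
    have hcJ : c ∈ C.J := mul_mem (C.J_conj o hocen j hj) (inv_mem hj)
    have hbc : ∀ b ∈ C.J, tN a (C.π b) = C.π b → bB 2 (C.π b) (C.π c) = false := by
      intro b hb hfb
      rw [← N.m_eq, ← C.commute_iff hb hcJ]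
      refine mul_inv_eq_iff_eq_mul.1 ?_
      have hob := hfixc b hb hfb
      rw [hc, show b * (o * j * o⁻¹ * j⁻¹) * b⁻¹ = (b * o * b⁻¹) * (b * j * b⁻¹) * (b * o⁻¹ * b⁻¹) *
          (b * j * b⁻¹)⁻¹ by group, ← hob.eq, mul_inv_cancel_right, ← hob.inv_left.eq, mul_inv_cancel_right,
        C.conj_eq hb hj]
      split
      · rw [show o * (z * j) * o⁻¹ * (z * j)⁻¹ = (o * z * o⁻¹) * (o * j * o⁻¹ * j⁻¹) * z⁻¹ by group, hoz.eq,
          mul_inv_cancel_right, ← hc, ← C.comm_z hcJ, mul_inv_cancel_right]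
      · rfl
    have hcl : C.π c ∈ lineL a := by
      rcases hperp _ (C.π_lt c hcJ) with h | ⟨w, -, ⟨hw256, hwf⟩, hwb⟩
      · exact h
      obtain ⟨b, hb, rfl⟩ := C.π_surj w hw256
      rw [hbc b hb hwf] at hwb
      exact Bool.noConfusion hwb
    have hco : Commute o c := hfixc c hcJ (hline _ hcl).1
    have hc2 : c * c = 1 := C.sq_of_q hcJ (by rw [N.m_eq]; exact (hline _ hcl).2)
    have hpow : ∀ n : ℕ, o ^ n * j * (o ^ n)⁻¹ = c ^ n * j := by
      intro n
      induction n with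
      | zero => simp
      | succ n ih =>
        rw [pow_succ' o, mul_inv_rev, show o * o ^ n * j * ((o ^ n)⁻¹ * o⁻¹) = o * (o ^ n * j * (o ^ n)⁻¹) * o⁻¹ by group,
          ih, show o * (c ^ n * j) * o⁻¹ = o * c ^ n * o⁻¹ * (o * j * o⁻¹) by group, (hco.pow_right n).eq,
          mul_inv_cancel_right, pow_succ c, show o * j * o⁻¹ = c * j by rw [hc]; group]
        simp only [hc, mul_assoc, inv_mul_cancel, mul_one]
    have h1 := hpow (orderOf o)
    rw [pow_orderOf_eq_one, hk, pow_succ c, pow_mul, pow_two, hc2, one_pow] at h1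
    simp only [one_mul, inv_one, mul_one] at h1
    exact mul_inv_eq_iff_eq_mul.1 (mul_inv_eq_one.1 (hc ▸ right_eq_mul.1 h1))
  exact hJodd o ho (C.self_cent o hocen hall)

omit N in
/-- The fusion theorem. -/
theorem isolated_or_fused (F : FactsProp) (hH : C.m < 2 → C.H0 = Cen z) (hin : C.Inner) :
    Isolated z ∨ Nonempty (Fused C) := by
  classical
  by_cases hm : C.m < 2
  · exact Or.inl (C.isolated_six F hm (hH hm))
  have N : Nat2 C := ⟨F, by have := C.hm; omega, hin, C.notJ F hH⟩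
  by_cases hiso : Isolated z
  · exact Or.inl hiso
  refine Or.inr ?_
  simp only [Isolated, not_forall] at hiso
  obtain ⟨x, hxD, hxc, hne⟩ := hiso
  have hxp : x ∈ perp (cls z) z := ⟨hxD, hne, hxc.symm⟩
  obtain ⟨a₀, ha₀, hx⟩ := Over.of_perp C N hxp
  have hall := Over.exists_all C N ha₀ hx
  let X : Nat → G := fun a => if h : a ∈ ptsL then (hall a h).choose else 1
  have hX : ∀ a ∈ ptsL, Over C a (X a) := fun a ha => by
    simp only [X, dif_pos ha]; exact (hall a ha).choose_spec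
  have hHost : Host (cls z) z :=
    { mem := ⟨1, by group⟩
      order := fun y hy => by
        obtain ⟨g, rfl⟩ := hy
        rw [← MulAut.conj_apply, MulEquiv.orderOf_eq, C.hz]
      conjD := fun g y hy => cls_conj hy g
      trans := fun y hy => hy
      chart := mkChart C N hX
      kernel := fun g hg hgc =>
        kernel_members C N hall g hg fun a ha y hy => hgc y (Over.perp_mem C N ha hy) }
  refine ⟨{ endData := ⟨hHost, fun y hy O h1 h2 h3 => ?_⟩
            nonempty := ⟨x, hxp⟩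
            inner := fun y hy => ⟨hin y hy.1 hy.2.2.symm, fun h => hy.2.1 (N.notJ y hy.1 h)⟩
            transv := fun y hy hy0 => ?_
            orbit := fun y hy => ?_ }⟩
  · obtain ⟨a, ha, h⟩ := Over.of_perp C N hy
    exact odd_free C N ha h O h1 h2 h3
  · obtain ⟨a, ha, h⟩ := Over.of_perp C N hy
    exact ⟨a, ha, h.mem.2⟩
  · obtain ⟨a, ha, h⟩ := Over.of_perp C N hy
    exact C.orbit_four F N.m_eq hin N.notJ h.cls h.mem.1 ha h.mem.2

end Cfsg.Agent.Lib.U62Cent47
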