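import Cfsg.Agent.Lib.U62Cent47.Split

/-!
A faithful module of order 256 for SU(4, 2) with an invariant non-degenerate quadratic form is one of
the three coded models.

Owner: helper47.
-/

set_option autoImplicit false
set_option maxRecDepth 20000

namespace Cfsg.Agent.Lib.U62Cent47

/-- a coordinate system: the module is the coded model `m` -/
structure Coord {V : Type*} [AddCommGroup V] (R : Rep V) where
  m : Nat
  hm : m < 3
  ψ : Nat → V
  inj : ∀ x y, x < 256 → y < 256 → ψ x = ψ y → x = y
  surj : ∀ v, ∃ n < 256, ψ n = v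
  ψ_xor : ∀ x y, ψ (x ^^^ y) = ψ x + ψ y
  act_word : ∀ w : List Nat, (∀ a ∈ w, a ∈ ptsL) → ∀ n < 256, R.wa w (ψ n) = ψ (wM m w n)
  q_eq : ∀ n < 256, R.q (ψ n) = if qB m n then 1 else 0

variable {V : Type*} [AddCommGroup V] (R : Rep V)

/-- the linear map on codes given by the images of the basis -/
def psi (B : Nat → V) (n : Nat) : V :=
  ((List.range 8).map fun j => bif n.testBit j then B j else 0).sum

include R in
theorem psi_xor (B : Nat → V) (x y : Nat) : psi B (x ^^^ y) = psi B x + psi B y := by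
  unfold psi
  induction List.range 8 with
  | nil => simp
  | cons j l ih =>
    simp only [List.map_cons, List.sum_cons]
    rw [ih, Nat.testBit_xor]
    have h2 := R.two (B j)
    cases x.testBit j <;> cases y.testBit j <;>
      simp only [Bool.xor_false, Bool.xor_true, Bool.not_false, Bool.not_true, cond_true, cond_false,
        zero_add] <;> first | abel1 | (rw [add_add_add_comm, h2, zero_add])

theorem psi_zero (B : Nat → V) : psi B 0 = 0 := by simp [psi]

theorem psi_pow (B : Nat → V) {j : Nat} (hj : j < 8) : psi B (2 ^ j) = B j := by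
  simp only [psi, Nat.testBit_two_pow, List.range_succ, List.range_zero, List.nil_append,
    List.cons_append, List.map_cons, List.map_nil, List.sum_cons, List.sum_nil]
  interval_cases j <;> simp

variable (m : Nat) (B : Nat → V)

/-- a word acts as in the model -/
def Eqv (w : List Nat) : Prop := ∀ n < 256, R.wa w (psi B n) = psi B (wM m w n)

theorem eqv_of_basis {w : List Nat} (h : ∀ j < 8, R.wa w (B j) = psi B (wM m w (2 ^ j))) :
    Eqv R m B w := by
  intro n hn
  rw [map_bitsX (wM_zero m w) (fun x y => wM_xor m w) hn]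
  show R.wa w ((List.map _ _).sum) = psi B (List.foldr _ _ _)
  have key : ∀ l : List Nat, (∀ j ∈ l, j < 8) →
      R.wa w (l.map fun j => bif n.testBit j then B j else 0).sum =
        psi B (l.foldr (fun j r => (bif n.testBit j then wM m w (2 ^ j) else 0) ^^^ r) 0) := by
    intro l
    induction l with
    | nil => exact fun _ => by simp [R.wa_zero, psi_zero]
    | cons j l ih =>
      intro hl
      rw [List.map_cons, List.sum_cons, R.wa_add, ih fun k hk => hl k (List.mem_cons_of_mem _ hk),
        List.foldr_cons, psi_xor R]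
      congr 1
      cases n.testBit j
      · simp [R.wa_zero, psi_zero]
      · exact h j (hl j List.mem_cons_self)
  exact key _ fun j hj => List.mem_range.1 hj

theorem eqv_append {v w : List Nat} (hv : Eqv R m B v) (hw : Eqv R m B w) : Eqv R m B (v ++ w) :=
  fun n hn => by rw [R.wa_append, hw n hn, hv _ (wM_lt m w hn), wM_append]

theorem eqv_nil : Eqv R m B [] := fun _ _ => R.wa_nil _

theorem eqv_word {w : List Nat} (h : ∀ a ∈ w, Eqv R m B [a]) : Eqv R m B w := by
  induction w with
  | nil => exact eqv_nil R m B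
  | cons a w ih =>
    exact eqv_append R m B (h a List.mem_cons_self) (ih fun b hb => h b (List.mem_cons_of_mem _ hb))

/-- the multiples of the scaling word -/
def bkW (b : Nat) : Nat → List Nat
  | 0 => []
  | 1 => aW b
  | _ => aW b ++ aW b

/-- the word of a basis vector -/
def basW (piv : List (List Nat)) (b j : Nat) : List Nat := piv.getD (j / 2) [] ++ bkW b (j % 2)

/-- the code of a multiple on a line -/
def ptC (a k : Nat) : Nat := [1, 2, 3].getD k 0 <<< (2 * a)

/-- the certificate for the monomial generators -/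
def certChk (m : Nat) (piv fx : List (List Nat)) (b nb : Nat)
    (cert : List (Nat × Nat × Nat × Nat × List Nat)) : Bool :=
  cert.all (fun c => eqW ([c.1] ++ basW piv b c.2.1)
      (piv.getD c.2.2.1 [] ++ bkW b c.2.2.2.1 ++ c.2.2.2.2.flatMap (fun i => fx.getD i [])) &&
    wM m [c.1] (2 ^ c.2.1) == ptC c.2.2.1 c.2.2.2.1 && decide (2 * c.2.2.1 < nb) && decide (c.2.2.2.1 < 3) &&
    c.2.2.2.2.all (fun i => decide (i < fx.length))) &&
  monL.all (fun g => (List.range nb).all fun j => cert.any fun c => c.1 == g && c.2.1 == j)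

theorem certN_ok : certChk 2 pivN fixN bNat 8 certN = true := by decide +kernel

theorem certS_ok : certChk 0 pivS fixS bSix 6 certS = true ∧ certChk 1 pivS fixS bSix 6 certS = true := by
  decide +kernel

/-- the line spanned by a base vector, seen by the generators -/
structure Line (k : Fin 13) (b : Nat) (piv fx : List (List Nat)) (nb : Nat) (e : V) : Prop where
  hb : b < 27
  hbk : b ∉ kl k
  he : e ∈ R.E k
  bas : ∀ j < nb, B j = R.wa (basW piv b j) e
  fix : ∀ i < fx.length, R.wa (fx.getD i []) e = e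
  even : nb % 2 = 0
  hnb : nb ≤ 8

theorem Line.bk_sum {k : Fin 13} {b : Nat} {piv fx : List (List Nat)} {nb : Nat} {e : V}
    (L : Line R B k b piv fx nb e) : R.wa (bkW b 2) e = e + R.wa (bkW b 1) e := by
  have h := R.orbit_sum L.hb L.hbk e
  rw [show R.P k e = e from L.he] at h
  show R.wa (aW b ++ aW b) e = e + R.wa (aW b) e
  rw [R.wa_append, R.wa_aW L.hb L.hb]
  exact (R.add_cancel _ _ h).symm

theorem code_ok : (List.range 4).all (fun a => ptC a 0 == 2 ^ (2 * a) && ptC a 1 == 2 ^ (2 * a + 1) &&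
    ptC a 2 == 2 ^ (2 * a) ^^^ 2 ^ (2 * a + 1)) = true := by decide +kernel

theorem Line.psi_pt {k : Fin 13} {b : Nat} {piv fx : List (List Nat)} {nb : Nat} {e : V}
    (L : Line R B k b piv fx nb e) {a i : Nat} (ha : 2 * a < nb) (hi : i < 3) :
    psi B (ptC a i) = R.wa (piv.getD a [] ++ bkW b i) e := by
  have hn := L.hnb; have he := L.even
  have h := List.all_eq_true.1 code_ok a (List.mem_range.2 (by omega))
  simp only [Bool.and_eq_true, beq_iff_eq] at h
  have e0 : psi B (2 ^ (2 * a)) = R.wa (piv.getD a []) e := by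
    rw [psi_pow B (by omega), L.bas _ ha, basW, show 2 * a / 2 = a by omega,
      show 2 * a % 2 = 0 by omega]
    simp [bkW]
  have e1 : psi B (2 ^ (2 * a + 1)) = R.wa (piv.getD a [] ++ bkW b 1) e := by
    rw [psi_pow B (by omega), L.bas _ (by omega), basW, show (2 * a + 1) / 2 = a by omega,
      show (2 * a + 1) % 2 = 1 by omega]
  interval_cases i
  · rw [h.1.1, e0]; simp [bkW]
  · rw [h.1.2, e1]
  · rw [h.2, psi_xor R, e0, e1, R.wa_append, R.wa_append, L.bk_sum, R.wa_add]

theorem fix_flat {fx : List (List Nat)} {e : V} (hf : ∀ i < fx.length, R.wa (fx.getD i []) e = e)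
    (l : List Nat) (hl : ∀ i ∈ l, i < fx.length) :
    R.wa (l.flatMap fun i => fx.getD i []) e = e := by
  induction l with
  | nil => exact R.wa_nil e
  | cons i l ih =>
    rw [List.flatMap_cons, R.wa_append, ih fun x hx => hl x (List.mem_cons_of_mem _ hx),
      hf i (hl i List.mem_cons_self)]

theorem Line.mon {k : Fin 13} {b : Nat} {piv fx : List (List Nat)} {nb : Nat} {e : V}
    {cert : List (Nat × Nat × Nat × Nat × List Nat)} (L : Line R B k b piv fx nb e)
    (hc : certChk m piv fx b nb cert = true) {g : Nat} (hg : g ∈ monL) {j : Nat} (hj : j < nb) :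
    R.wa [g] (B j) = psi B (wM m [g] (2 ^ j)) := by
  simp only [certChk, Bool.and_eq_true, List.all_eq_true, List.any_eq_true, beq_iff_eq,
    decide_eq_true_eq, List.mem_range] at hc
  obtain ⟨c, hcm, rfl, rfl⟩ := hc.2 g hg j hj
  obtain ⟨⟨⟨⟨h1, h2⟩, h3⟩, h4⟩, h5⟩ := hc.1 c hcm
  rw [L.bas _ hj, ← R.wa_append, R.wa_eqW h1, R.wa_append, fix_flat R L.fix _ h5, h2, L.psi_pt R B h3 h4]

/-- an element of a part, recognised by its fixers and one orbit sum -/
theorem mem_part {k : Fin 13} {b : Nat} {x : V} (hb : b < 27)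
    (hfix : ∀ t ∈ kl k, R.wa (aW t) x = x)
    (hsum : R.sumA [0, b, addT b b] x = 0)
    (hpar : parEq (mulL [0, b, addT b b] (kl k)) (List.range 27) = true) : x ∈ R.E k := by
  have hk : ∀ t ∈ kl k, t < 27 := fun t ht => prj_lt k k.2 t (List.mem_append_left _ ht)
  have hS : R.sumA (kl k) x = x := by
    have key : ∀ l : List Nat, (∀ t ∈ l, R.wa (aW t) x = x) →
        R.sumA l x = if l.length % 2 = 1 then x else 0 := by
      intro l
      induction l with
      | nil => exact fun _ => rfl
      | cons t l ih =>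
        intro hl
        show R.wa (aW t) x + R.sumA l x = _
        rw [ih fun s hs => hl s (List.mem_cons_of_mem _ hs), hl t List.mem_cons_self, List.length_cons]
        rcases Nat.mod_two_eq_zero_or_one l.length with h | h
        · rw [if_neg (by omega), if_pos (by omega), add_zero]
        · rw [if_pos h, if_neg (by omega), R.two]
    have hlen : ∀ k : Fin 13, (kl k).length % 2 = 1 := by decide +kernel
    rw [key _ hfix, if_pos (hlen k)]
  show R.sumA (kl k ++ List.range 27) x = x
  rw [R.sumA_append, hS, ← R.sumA_congr hpar, ← R.sumA_comp (by simp [hb, add_lt b hb]) hk, hS, hsum,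
    add_zero]

theorem orbit_sumA {k : Fin 13} {b : Nat} {x : V} (hb : b < 27) (hk : b ∉ kl k) (hx : x ∈ R.E k) :
    R.sumA [0, b, addT b b] x = 0 := by
  rw [← show R.P k x = x from hx, Rep.P, R.sumA_comp (by simp [hb, add_lt b hb]) (prj_lt k k.2),
    R.sumA_congr ((proj_facts k.2).2.2.2.2 b hb hk), R.sumA_nil]

/-- a word normalising a part and commuting with, or inverting, its scaling element -/
def normChk (k b : Nat) (g : List Nat) (flip : Bool) : Bool :=
  (kl k).all (fun t => (kl k).any fun t' => eqW (aW t ++ g) (g ++ aW t')) &&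
    (kl k).any (fun t => eqW (g ++ aW b) ((bif flip then aW b ++ aW b else aW b) ++ aW t ++ g)) &&
    eqW (g ++ g) [] &&
    parEq (mulL [0, b, addT b b] (kl k)) (List.range 27) && decide (b < 27) && !((kl k).contains b)

/-- a four-element part -/
theorem part_cases [Finite V] {k : Fin 13} {b : Nat} (hb : b < 27) (hk : b ∉ kl k)
    (hcard : Nat.card (R.E k) = 4) {x : V} (hx : x ∈ R.E k) (hx0 : x ≠ 0) :
    R.wa (aW b) x ≠ 0 ∧ R.wa (aW b) x ≠ x ∧ ∀ y ∈ R.E k, y = 0 ∨ y = x ∨ y = R.wa (aW b) x ∨ y = x + R.wa (aW b) x := by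
  have hsum := R.orbit_sum hb hk x
  rw [show R.P k x = x from hx] at hsum
  have hm : R.wa (aW b) x ∈ R.E k := by
    show R.P k _ = _
    rw [← R.sumA_single, Rep.P, R.sumA_comp (prj_lt k k.2) (by simpa using hb),
      R.sumA_congr (comm_ok k b hb), ← R.sumA_comp (by simpa using hb) (prj_lt k k.2),
      show R.sumA (prj k) x = x from hx]
  have hy0 : R.wa (aW b) x ≠ 0 := fun e => hx0 (by
    rw [← R.wa_aW hb hb, e, R.wa_zero, add_zero, add_zero] at hsum; exact hsum)
  have hyx : R.wa (aW b) x ≠ x := fun e => hx0 (by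
    rw [← R.wa_aW hb hb, e, e, R.two, zero_add] at hsum; exact hsum)
  refine ⟨hy0, hyx, ?_⟩
  set y := R.wa (aW b) x
  have hadd : x + y ∈ R.E k := by
    show R.P k (x + y) = _
    rw [Rep.P, R.sumA_add, show R.sumA (prj k) x = x from hx, show R.sumA (prj k) y = y from hm]
  have e : R.E k = {0, x, y, x + y} := by
    refine (Set.eq_of_subset_of_ncard_le ?_ ?_ (Set.toFinite _)).symm
    · intro w hw
      simp only [Set.mem_insert_iff, Set.mem_singleton_iff] at hw
      rcases hw with rfl | rfl | rfl | rfl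
      exacts [R.P_zero k, hx, hm, hadd]
    · rw [← Nat.card_coe_set_eq, hcard, Set.ncard_insert_of_notMem, Set.ncard_insert_of_notMem,
        Set.ncard_pair] <;> simp [hx0, hy0, Ne.symm hx0, Ne.symm hy0, Ne.symm hyx]
      intro e'
      exact hyx (R.add_cancel _ _ e'.symm).symm
  intro w hw
  rw [e] at hw
  simpa using hw

theorem cube_ok : ∀ b < 27, addT (addT b b) b = 0 := by decide +kernel

theorem wa_kl' {k : Fin 13} {t : Nat} (ht : t ∈ kl k) {x : V} (hx : x ∈ R.E k) :
    R.wa (aW t) x = x := by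
  rw [← show R.P k x = x from hx, R.wa_P ht]

theorem norm_comm [Finite V] {k : Fin 13} {b : Nat} {g : List Nat} {f : Bool}
    (h : normChk k b g f = true) {x : V} (hx : x ∈ R.E k) :
    (∀ t ∈ kl k, R.wa (aW t) (R.wa g x) = R.wa g x) ∧
      R.wa g (R.wa (aW b) x) = R.wa (bif f then aW b ++ aW b else aW b) (R.wa g x) := by
  simp only [normChk, Bool.and_eq_true, List.all_eq_true, List.any_eq_true, decide_eq_true_eq,
    Bool.not_eq_true', List.contains_eq_mem, decide_eq_false_iff_not] at h
  obtain ⟨⟨⟨⟨⟨h1, ⟨s, hs, h2⟩⟩, -⟩, -⟩, -⟩, -⟩ := h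
  have hfix : ∀ t ∈ kl k, R.wa (aW t) (R.wa g x) = R.wa g x := fun t ht => by
    obtain ⟨t', ht', e⟩ := h1 t ht
    rw [← R.wa_append, R.wa_eqW e, R.wa_append, wa_kl' R ht' hx]
  refine ⟨hfix, ?_⟩
  rw [← R.wa_append, R.wa_eqW h2, R.wa_append, R.wa_append, hfix s hs]

theorem norm_image [Finite V] {k : Fin 13} {b : Nat} {g : List Nat} {f : Bool}
    (h : normChk k b g f = true) {x : V} (hx : x ∈ R.E k) : R.wa g x ∈ R.E k := by
  have hc := norm_comm R h hx
  have h0 := h
  simp only [normChk, Bool.and_eq_true, List.all_eq_true, List.any_eq_true, decide_eq_true_eq,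
    Bool.not_eq_true', List.contains_eq_mem, decide_eq_false_iff_not] at h
  obtain ⟨⟨⟨⟨-, h3⟩, h4⟩, hb⟩, hk⟩ := h
  refine mem_part R hb hc.1 ?_ h4
  have hbx : R.wa (aW b) x ∈ R.E k := by
    show R.P k _ = _
    rw [← R.sumA_single, Rep.P, R.sumA_comp (prj_lt k k.2) (by simpa using hb),
      R.sumA_congr (comm_ok k b hb), ← R.sumA_comp (by simpa using hb) (prj_lt k k.2),
      show R.sumA (prj k) x = x from hx]
  have hs := R.orbit_sum hb hk x
  rw [show R.P k x = x from hx, ← R.wa_aW hb hb] at hs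
  have hg := congrArg (R.wa g) hs
  have e2 := (norm_comm R h0 hbx).2
  rw [R.wa_zero, R.wa_add, R.wa_add, e2, hc.2] at hg
  simp only [Rep.sumA, List.map_cons, List.map_nil, List.sum_cons, List.sum_nil, add_zero, aW_zero,
    R.wa_nil]
  rw [← R.wa_aW hb hb]
  cases f
  · rw [← hg]; simp only [Bool.cond_false]; abel
  · simp only [Bool.cond_true, R.wa_append] at hg
    have hcube : ∀ y, R.wa (aW b) (R.wa (aW b) (R.wa (aW b) y)) = y := fun y => by
      rw [R.wa_aW hb hb, R.wa_aW (add_lt b hb) hb, cube_ok b hb, aW_zero, R.wa_nil]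
    rw [hcube] at hg
    rw [← hg]; abel

/-- a commuting involution fixes a four-element part -/
theorem norm_fix [Finite V] {k : Fin 13} {b : Nat} {g : List Nat} (h : normChk k b g false = true)
    (hcard : Nat.card (R.E k) = 4) {x : V} (hx : x ∈ R.E k) : R.wa g x = x := by
  by_cases hx0 : x = 0
  · rw [hx0, R.wa_zero]
  have hg := norm_image R h hx
  have h' := (norm_comm R h hx).2
  simp only [normChk, Bool.and_eq_true, decide_eq_true_eq, Bool.not_eq_true', List.contains_eq_mem,
    decide_eq_false_iff_not] at h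
  obtain ⟨⟨⟨⟨-, h3⟩, -⟩, hb⟩, hk⟩ := h
  obtain ⟨hy0, hyx, hc⟩ := part_cases R hb hk hcard hx hx0
  have hsum := R.orbit_sum hb hk x
  rw [show R.P k x = x from hx] at hsum
  have hb2 := (R.add_cancel _ _ hsum).symm
  have hgy : R.wa g (R.wa (aW b) x) = R.wa (aW b) (R.wa g x) := h'
  have hgg : R.wa g (R.wa g x) = x := R.wa_inv h3 x
  rcases hc _ hg with e | e | e | e
  · exact absurd (by rw [← hgg, e, R.wa_zero]) hx0
  · exact e
  · rw [e, hgy, e, R.wa_aW hb hb, hb2] at hgg
    exact absurd (left_eq_add.1 hgg.symm) hy0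
  · rw [e, R.wa_add, hgy, e, R.wa_add, R.wa_aW hb hb, hb2] at hgg
    have h0 : x + R.wa (aW b) x + (R.wa (aW b) x + (x + R.wa (aW b) x)) = R.wa (aW b) x := by
      rw [← add_assoc, add_assoc x, R.two, add_zero, ← add_assoc, R.two, zero_add]
    exact absurd (h0.symm.trans hgg) hyx

theorem fixN_ok : fixN.all (fun g => (kl kNat).any (fun t => aW t == g) || normChk kNat bNat g false) = true := by
  decide +kernel

/-- the element inverting the scaling of the first pairing line -/
def wFlip : List Nat := fixS.getD 2 []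

theorem fixS_ok : normChk kSix bSix wFlip true = true ∧ (List.range fixS.length).all (fun i => i == 2 ||
    (kl kSix).any (fun t => aW t == fixS.getD i []) || normChk kSix bSix (fixS.getD i []) false) = true := by
  decide +kernel

theorem wa_kl {k : Fin 13} {t : Nat} (ht : t ∈ kl k) {x : V} (hx : x ∈ R.E k) : R.wa (aW t) x = x := by
  rw [← show R.P k x = x from hx, R.wa_P ht]

theorem natural_line [Finite V] (h : Nat.card (R.E ⟨kNat, by decide⟩) = 4) :
    ∃ e, e ≠ 0 ∧ Line R (fun j => R.wa (basW pivN bNat j) e) ⟨kNat, by decide⟩ bNat pivN fixN 8 e := by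
  obtain ⟨⟨e, he⟩, hne⟩ : ∃ x : R.E ⟨kNat, by decide⟩, x.1 ≠ 0 := by
    by_contra hcon
    push Not at hcon
    have : Subsingleton (R.E ⟨kNat, by decide⟩) := ⟨fun a b => Subtype.ext ((hcon a).trans (hcon b).symm)⟩
    have := Finite.card_le_one_iff_subsingleton.2 this
    omega
  refine ⟨e, hne, ⟨by decide, by decide +kernel, he, fun j _ => rfl, ?_, rfl, le_rfl⟩⟩
  intro i hi
  have hg := List.all_eq_true.1 fixN_ok (fixN.getD i []) (by
    rw [List.getD_eq_getElem _ _ hi]; exact List.getElem_mem _)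
  rw [Bool.or_eq_true, List.any_eq_true] at hg
  rcases hg with ⟨t, ht, et⟩ | hg
  · rw [← beq_iff_eq.1 et]; exact wa_kl R ht he
  · exact norm_fix R hg h he

theorem six_base [Finite V] (h : Nat.card (R.E ⟨kSix, by decide⟩) = 4) :
    ∃ e ∈ R.E ⟨kSix, by decide⟩, e ≠ 0 ∧ R.wa wFlip e = e := by
  obtain ⟨⟨x, hx⟩, hne⟩ : ∃ x : R.E ⟨kSix, by decide⟩, x.1 ≠ 0 := by
    by_contra hcon
    push Not at hcon
    have : Subsingleton (R.E ⟨kSix, by decide⟩) := ⟨fun a b => Subtype.ext ((hcon a).trans (hcon b).symm)⟩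
    have := Finite.card_le_one_iff_subsingleton.2 this
    omega
  have hb : bSix < 27 := by decide
  have hk : bSix ∉ kl kSix := by decide +kernel
  obtain ⟨hy0, hyx, hc⟩ := part_cases R hb hk h hx hne
  have hgg : ∀ y, R.wa wFlip (R.wa wFlip y) = y := fun y => by
    have := fixS_ok.1
    simp only [normChk, Bool.and_eq_true] at this
    exact R.wa_inv this.1.1.1.2 y
  have hg := norm_image R fixS_ok.1 hx
  have hmem : ∀ y ∈ R.E ⟨kSix, by decide⟩, ∀ z ∈ R.E ⟨kSix, by decide⟩, y + z ∈ R.E ⟨kSix, by decide⟩ :=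
    fun y hy z hz => by
      show R.P _ (y + z) = _
      rw [Rep.P, R.sumA_add, show R.sumA _ y = y from hy, show R.sumA _ z = z from hz]
  by_cases hfx : R.wa wFlip x = x
  · exact ⟨x, hx, hne, hfx⟩
  refine ⟨x + R.wa wFlip x, hmem x hx _ hg, fun e => hfx (R.add_cancel _ _ e).symm, ?_⟩
  rw [R.wa_add, hgg, add_comm]

/-! ### The fixed plane of the six-dimensional case -/

theorem mon_norm_ok : monL.all (fun g => (List.range 27).all fun t => (List.range 27).any fun t' =>
    eqW (aW t ++ [g]) (g :: aW t')) = true := by decide +kernel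

theorem P0_of_fixed {x : V} (h : ∀ t < 27, R.wa (aW t) x = x) : x ∈ R.E0 := by
  have key : ∀ l : List Nat, (∀ t ∈ l, t < 27) → R.sumA l x = if l.length % 2 = 1 then x else 0 := by
    intro l
    induction l with
    | nil => exact fun _ => rfl
    | cons t l ih =>
      intro hl
      show R.wa (aW t) x + R.sumA l x = _
      rw [ih fun s hs => hl s (List.mem_cons_of_mem _ hs), h t (hl t List.mem_cons_self), List.length_cons]
      rcases Nat.mod_two_eq_zero_or_one l.length with e | e
      · rw [if_neg (by omega), if_pos (by omega), add_zero]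
      · rw [if_pos e, if_neg (by omega), R.two]
  show R.sumA _ x = x
  rw [key _ range_lt, if_pos (by simp)]

theorem m3_ok : eqW (aW cIdx ++ m3W) (m3W ++ aW cIdx) = true ∧ eqW w85 [85] = true ∧ cIdx < 27 ∧
    (∀ k : Fin 13, k.1 ∈ [1, 6, 11] → cIdx ∉ kl k) ∧
    (∀ t < 27, parEq (mulL [0, t, addT t t] [0]) [0, t, addT t t] = true) ∧
    (∀ a ∈ w85, a ∈ monL ∨ a ∈ m3W) := by decide +kernel

theorem perf_ok : perfW.all (fun p => eqW (p.1 ++ p.2) []) = true ∧
    eqW (perfW.flatMap fun p => p.1 ++ g5W ++ p.2) [5] = true ∧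
    eqW (g5W ++ g5W ++ g5W ++ g5W ++ g5W) [] = true ∧
    perfW.all (fun p => (p.1 ++ p.2).all fun a => ptsL.contains a) = true ∧
    g5W.all (fun a => ptsL.contains a) = true := by decide +kernel

theorem E0_mon {g : Nat} (hg : g ∈ monL) {x : V} (hx : x ∈ R.E0) : R.wa [g] x ∈ R.E0 := by
  refine P0_of_fixed R fun t ht => ?_
  have h := List.all_eq_true.1 (List.all_eq_true.1 mon_norm_ok g hg) t (List.mem_range.2 ht)
  rw [List.any_eq_true] at h
  obtain ⟨t', ht', e⟩ := h
  rw [← R.wa_append, R.wa_eqW e, show g :: aW t' = [g] ++ aW t' from rfl, R.wa_append]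
  congr 1
  rw [← show R.P0 x = x from hx, R.wa_P0 (List.mem_range.1 ht')]

/-- in the six-dimensional case the fixed points of `A` are fixed by everything -/
theorem E0_fixed [Finite V] (h0 : Nat.card R.E0 = 4)
    (hsmall : ∀ k : Fin 13, k.1 ∉ [1, 6, 11] → ∀ x ∈ R.E k, x = 0) :
    ∀ A : SU4, ∀ x ∈ R.E0, R.act A x = x := by
  obtain ⟨hm3, hw85, hc, hnot, -, hletters⟩ := m3_ok
  have hfixc : ∀ v, R.wa (aW cIdx) v = v → v ∈ R.E0 := by
    intro v hv
    have hk : ∀ k, R.P k v = 0 := by
      intro k
      by_cases h6 : k.1 ∈ [1, 6, 11]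
      · have hs := R.orbit_sum hc (hnot k h6) v
        have hcomm : R.wa (aW cIdx) (R.P k v) = R.P k v := by
          conv_rhs => rw [← hv]
          rw [← R.sumA_single, ← R.sumA_single, Rep.P, Rep.P,
            R.sumA_comp (by simpa using hc) (prj_lt k k.2), R.sumA_comp (prj_lt k k.2) (by simpa using hc),
            R.sumA_congr (comm_ok k cIdx hc)]
        rw [← R.wa_aW hc hc, hcomm, hcomm, R.two, zero_add] at hs
        exact hs
      · exact hsmall k h6 _ (R.P_mem k v)
    have := R.decomp v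
    simp only [hk, Finset.sum_const_zero, add_zero] at this
    exact this
  have hm3E : ∀ x ∈ R.E0, R.wa m3W x ∈ R.E0 := fun x hx => hfixc _ (by
    rw [← R.wa_append, R.wa_eqW hm3, R.wa_append, ← show R.P0 x = x from hx, R.wa_P0 hc])
  have hinv : ∀ A : SU4, ∀ x ∈ R.E0, R.act A x ∈ R.E0 := by
    refine induction_gen (fun x hx => by rw [R.act_one]; exact hx) ?_
      (fun A B hA hB x hx => by rw [R.act_mul]; exact hA _ (hB x hx))
    intro a ha x hx
    rw [← wS_single]
    by_cases ha' : a ∈ monL
    · exact E0_mon R ha' hx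
    have h85 : a = 85 := by revert ha'; revert a; decide
    subst h85
    show R.wa [85] x ∈ R.E0
    rw [← R.wa_eqW hw85]
    have hw : ∀ x ∈ R.E0, R.wa w85 x ∈ R.E0 := by
      have hblocks : w85 = m3W ++ [20, 7, 5, 20, 80] ++ m3W ++ [20, 7] ++ m3W := by decide +kernel
      intro x hx
      rw [hblocks]
      simp only [R.wa_append]
      have hM : ∀ l : List Nat, (∀ g ∈ l, g ∈ monL) → ∀ x ∈ R.E0, R.wa l x ∈ R.E0 := by
        intro l
        induction l with
        | nil => exact fun _ x hx => by rw [R.wa_nil]; exact hx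
        | cons g l ih =>
          intro hl x hx
          rw [show g :: l = [g] ++ l from rfl, R.wa_append]
          exact E0_mon R (hl g List.mem_cons_self) (ih (fun c hc => hl c (List.mem_cons_of_mem _ hc)) x hx)
      exact hm3E _ (hM _ (by decide) _ (hm3E _ (hM _ (by decide) _ (hm3E x hx))))
    exact hw x hx
  obtain ⟨hpinv, hpe, h5, -, -⟩ := perf_ok
  have hg5 : ∀ x ∈ R.E0, R.wa g5W x = x := by
    have : Fintype R.E0 := Fintype.ofFinite _
    classical
    let σ : Equiv.Perm R.E0 := Equiv.ofBijective (fun x => ⟨R.wa g5W x.1, hinv _ _ x.2⟩)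
      (Finite.injective_iff_bijective.1 fun x y e => Subtype.ext (by
        have e' := congrArg Subtype.val e
        have h5' := R.wa_eqW h5
        simp only [R.wa_append, R.wa_nil] at h5'
        rw [← h5' x.1, ← h5' y.1]
        exact congrArg (fun z => R.wa g5W (R.wa g5W (R.wa g5W (R.wa g5W z)))) e'))
    have hs5 : σ ^ 5 = 1 := Equiv.ext fun x => Subtype.ext (by
      have h5' := R.wa_eqW h5 x.1
      simp only [R.wa_append, R.wa_nil] at h5'
      exact h5')
    have hs24 : σ ^ 24 = 1 := by
      have h := pow_card_eq_one (x := σ)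
      rwa [Fintype.card_perm, ← Nat.card_eq_fintype_card, h0] at h
    have hσ : σ = 1 := by
      have := pow_gcd_eq_one.2 ⟨hs5, hs24⟩
      simpa using this
    exact fun x hx => congrArg Subtype.val (show σ ⟨x, hx⟩ = ⟨x, hx⟩ by rw [hσ]; rfl)
  have h5fix : ∀ x ∈ R.E0, R.wa [5] x = x := by
    intro x hx
    rw [← R.wa_eqW hpe]
    have key : ∀ l : List (List Nat × List Nat), (∀ p ∈ l, p ∈ perfW) → R.wa (l.flatMap fun p => p.1 ++ g5W ++ p.2) x = x := by
      intro l
      induction l with
      | nil => exact fun _ => R.wa_nil x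
      | cons p l ih =>
        intro hl
        rw [List.flatMap_cons, R.wa_append, ih fun c hc => hl c (List.mem_cons_of_mem _ hc), R.wa_append,
          R.wa_append, hg5 (R.wa p.2 x) (hinv (wS p.2) x hx), ← R.wa_append,
          R.wa_eqW (List.all_eq_true.1 hpinv p (hl p List.mem_cons_self)), R.wa_nil]
    exact key _ fun _ hp => hp
  have hpts := pts_induction (P := fun A => ∀ x ∈ R.E0, R.act A x = x)
    (fun x hx => by rw [← wS_single]; exact h5fix x hx)
    fun a _ g hg ha x hx => by
      rw [R.act_mul, R.act_mul, ha _ (hinv _ _ hx), ← R.act_mul, tC_sq (gen_pts g hg), R.act_one]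
  exact induction_gen (fun x _ => R.act_one x) (fun a ha => hpts a (gen_pts a ha))
    fun A B hA hB x hx => by rw [R.act_mul, hB x hx, hA x hx]

end Cfsg.Agent.Lib.U62Cent47
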