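import Cfsg.Agent.Lib.U62Cent47.Model
import Cfsg.Agent.Lib.U62Cent47.CertData

/-!
The three coded eight-bit modules of SU(4, 2): the natural one (2) and the sums of the six-dimensional
one with a trivial plane of either sign (0, 1).

Owner: helper47.
-/

set_option autoImplicit false
set_option maxRecDepth 20000

namespace Cfsg.Agent.Lib.U62Cent47

open Cfsg.Agent.Lib.G24 Cfsg.Agent.Lib.U62Recog47

theorem xor_lt8 {x y : Nat} (hx : x < 256) (hy : y < 256) : x ^^^ y < 256 :=
  Nat.xor_lt_two_pow (n := 8) hx hy

theorem tN_xor (a : Nat) {x y : Nat} (hx : x < 256) (hy : y < 256) :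
    tN a (x ^^^ y) = tN a x ^^^ tN a y := by
  have key : ∀ n, vec (tN a n) = vec n + h4 (vec n) (vec a) • vec a := fun n => by
    rw [tN, vec_xor, vec_smN (hN_lt n a), h4_vec]
  apply vec_inj (tN_lt a (xor_lt8 hx hy)) (xor_lt8 (tN_lt a hx) (tN_lt a hy))
  rw [vec_xor (tN a x), key, key, key, vec_xor, h4_add_left, add_smul]
  abel

theorem xor_swap4 (a b c d : Nat) : (a ^^^ b) ^^^ (c ^^^ d) = (a ^^^ c) ^^^ (b ^^^ d) := by
  rw [Nat.xor_assoc, Nat.xor_assoc, ← Nat.xor_assoc b, Nat.xor_comm b c, Nat.xor_assoc]

theorem bif_xor (p q : Bool) (c : Nat) :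
    (bif p ^^ q then c else 0) = (bif p then c else 0) ^^^ (bif q then c else 0) := by
  cases p <;> cases q <;> simp

theorem tS_xor (a x y : Nat) : tS a (x ^^^ y) = tS a x ^^^ tS a y := by
  simp only [tS, Nat.testBit_xor, bif_xor]
  simp only [xor_swap4]

/-- the effect of a transvection in model `m` -/
def aM (m a n : Nat) : Nat := bif m == 2 then tN a n else tS a (n &&& 63) ||| (n &&& 192)

/-- the effect of a word in model `m` -/
def wM (m : Nat) (w : List Nat) (n : Nat) : Nat := w.foldr (aM m) n

theorem wM_two (w : List Nat) (n : Nat) : wM 2 w n = wN w n := rfl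

theorem or_high {s : Nat} (hs : s < 64) (n : Nat) : s ||| (n &&& 192) = s ^^^ (n &&& 192) := by
  apply Nat.eq_of_testBit_eq
  intro i
  simp only [Nat.testBit_or, Nat.testBit_xor, Nat.testBit_and]
  by_cases hi : i < 6
  · have : Nat.testBit 192 i = false := by interval_cases i <;> decide
    simp [this]
  · have : s.testBit i = false :=
      Nat.testBit_lt_two_pow (lt_of_lt_of_le hs (Nat.pow_le_pow_right (show 0 < 2 by norm_num) (show 6 ≤ i by omega)))
    simp [this]

theorem aM_lt (m a : Nat) {n : Nat} (hn : n < 256) : aM m a n < 256 := by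
  unfold aM
  cases m == 2
  · exact Nat.or_lt_two_pow (n := 8) (lt_trans (tS_lt _ _) (by norm_num))
      (lt_of_le_of_lt Nat.and_le_right (by norm_num))
  · exact tN_lt a hn

theorem aM_xor (m a : Nat) {x y : Nat} (hx : x < 256) (hy : y < 256) :
    aM m a (x ^^^ y) = aM m a x ^^^ aM m a y := by
  unfold aM
  cases m == 2
  · simp only [Bool.cond_false, or_high (tS_lt _ _)]
    rw [Nat.and_xor_distrib_right, Nat.and_xor_distrib_right, tS_xor, xor_swap4]
  · exact tN_xor a hx hy

theorem wM_lt (m : Nat) (w : List Nat) {n : Nat} (hn : n < 256) : wM m w n < 256 := by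
  induction w with
  | nil => exact hn
  | cons a w ih => exact aM_lt m a ih

theorem wM_xor (m : Nat) (w : List Nat) {x y : Nat} (hx : x < 256) (hy : y < 256) :
    wM m w (x ^^^ y) = wM m w x ^^^ wM m w y := by
  induction w with
  | nil => rfl
  | cons a w ih =>
    show aM m a (wM m w (x ^^^ y)) = _
    rw [ih, aM_xor m a (wM_lt m w hx) (wM_lt m w hy)]
    rfl

theorem wM_append (m : Nat) (v w : List Nat) (n : Nat) : wM m (v ++ w) n = wM m v (wM m w n) :=
  List.foldr_append

/-- the xor of the images of the set bits -/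
def bitsX (g : Nat → Nat) (n : Nat) : Nat :=
  (List.range 8).foldr (fun j r => (bif n.testBit j then g (2 ^ j) else 0) ^^^ r) 0

theorem bits_ok : (List.range 256).all (fun n => bitsX id n == n) = true := by decide +kernel

theorem pow_lt {j : Nat} (hj : j < 8) : 2 ^ j < 256 :=
  lt_of_lt_of_le (Nat.pow_lt_pow_right (by norm_num) hj) (by norm_num)

theorem map_bitsX {g : Nat → Nat} (h0 : g 0 = 0)
    (hg : ∀ x y, x < 256 → y < 256 → g (x ^^^ y) = g x ^^^ g y) {n : Nat} (hn : n < 256) :
    g n = bitsX g n := by
  have key : ∀ l : List Nat, (∀ j ∈ l, j < 8) →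
      l.foldr (fun j r => (bif n.testBit j then 2 ^ j else 0) ^^^ r) 0 < 256 ∧
      g (l.foldr (fun j r => (bif n.testBit j then 2 ^ j else 0) ^^^ r) 0) =
        l.foldr (fun j r => (bif n.testBit j then g (2 ^ j) else 0) ^^^ r) 0 := by
    intro l
    induction l with
    | nil => exact fun _ => ⟨by norm_num, h0⟩
    | cons j l ih =>
      intro hl
      obtain ⟨h1, h2⟩ := ih fun k hk => hl k (List.mem_cons_of_mem _ hk)
      have hj : (bif n.testBit j then 2 ^ j else 0) < 256 := by
        cases n.testBit j
        · exact Nat.zero_lt_succ _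
        · exact pow_lt (hl j List.mem_cons_self)
      refine ⟨xor_lt8 hj h1, ?_⟩
      show g ((bif n.testBit j then 2 ^ j else 0) ^^^ _) = _
      rw [hg _ _ hj h1, h2, List.foldr_cons]
      congr 1
      cases n.testBit j <;> simp [h0]
  have := (key (List.range 8) fun j hj => List.mem_range.1 hj).2
  rwa [show (List.range 8).foldr (fun j r => (bif n.testBit j then 2 ^ j else 0) ^^^ r) 0 = n from
    beq_iff_eq.1 (List.all_eq_true.1 bits_ok n (List.mem_range.2 hn))] at this

theorem wM_zero (m : Nat) (w : List Nat) : wM m w 0 = 0 := by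
  have h := wM_xor m w (x := 0) (y := 0) (by norm_num) (by norm_num)
  rwa [Nat.xor_self, Nat.xor_self] at h

/-- two words agree on all codes as soon as they agree on the basis -/
theorem wM_ext (m : Nat) (v w : List Nat) (h : ∀ j < 8, wM m v (2 ^ j) = wM m w (2 ^ j)) :
    ∀ n < 256, wM m v n = wM m w n := by
  intro n hn
  rw [map_bitsX (wM_zero m v) (fun x y => wM_xor m v) hn,
    map_bitsX (wM_zero m w) (fun x y => wM_xor m w) hn]
  show List.foldr _ _ _ = List.foldr _ _ _
  have key : ∀ l : List Nat, (∀ j ∈ l, j < 8) →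
      l.foldr (fun j r => (bif n.testBit j then wM m v (2 ^ j) else 0) ^^^ r) 0 =
        l.foldr (fun j r => (bif n.testBit j then wM m w (2 ^ j) else 0) ^^^ r) 0 := by
    intro l
    induction l with
    | nil => exact fun _ => rfl
    | cons j l ih =>
      intro hl
      simp only [List.foldr_cons, ih fun k hk => hl k (List.mem_cons_of_mem _ hk), h j (hl j List.mem_cons_self)]
  exact key _ fun j hj => List.mem_range.1 hj

/-- equality of two words in the group, by evaluation -/
def eqW (v w : List Nat) : Bool :=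
  v.all (fun a => ptsL.contains a) && w.all (fun a => ptsL.contains a) &&
    (List.range 8).all fun j => wN v (2 ^ j) == wN w (2 ^ j)

theorem wS_of_eqW {v w : List Nat} (h : eqW v w = true) : wS v = wS w := by
  simp only [eqW, Bool.and_eq_true, List.all_eq_true, List.contains_iff_mem, beq_iff_eq] at h
  exact wS_ext h.1.1 h.1.2 fun x hx => wM_ext 2 v w (fun j hj => h.2 j (List.mem_range.2 hj)) x hx

theorem wS_single (a : Nat) : wS [a] = tC a := by simp [wS]

theorem tC_sq {a : Nat} (ha : a ∈ ptsL) : tC a * tC a = 1 := by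
  have hok : ptsL.all (fun b => eqW [b, b] []) = true := by decide +kernel
  have := wS_of_eqW (List.all_eq_true.1 hok a ha)
  simpa [wS] using this

/-- the bit of the quadratic form on the trivial plane -/
def qU (m u : Nat) : Bool := bif m == 1 then u != 0 else u == 3

/-- whether the pairing line `a` is occupied -/
def nzD (n a : Nat) : Bool := dig n a != 0

/-- the quadratic form of model `m` -/
def qB (m n : Nat) : Bool :=
  bif m == 2 then hN n n != 0 else nzD n 0 ^^ nzD n 1 ^^ nzD n 2 ^^ qU m (n >>> 6)

/-- the polar form of model `m` -/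
def bB (m x y : Nat) : Bool := qB m (x ^^^ y) ^^ qB m x ^^ qB m y

end Cfsg.Agent.Lib.U62Cent47
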