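import Cfsg.Agent.Lib.U62Cent47.Basic

/-!
Words, local transitivity and the small checks used by the fusion analysis.

Owner: helper47.
-/

set_option autoImplicit false
set_option maxRecDepth 20000

namespace Cfsg.Agent.Lib.U62Cent47

theorem OkW.nil : OkW [] := fun _ h => absurd h List.not_mem_nil

theorem OkW.single {a : Nat} (h : a ∈ ptsL) : OkW [a] := fun b hb => by
  rw [List.mem_singleton.1 hb]; exact h

theorem OkW.append {v w : List Nat} (hv : OkW v) (hw : OkW w) : OkW (v ++ w) := fun a ha =>
  (List.mem_append.1 ha).elim (hv a) (hw a)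

theorem OkW.reverse {w : List Nat} (hw : OkW w) : OkW w.reverse := fun a ha => hw a (List.mem_reverse.1 ha)

theorem wS_reverse {w : List Nat} (hw : OkW w) : wS w.reverse = (wS w)⁻¹ := by
  induction w with
  | nil => simp [wS_nil]
  | cons a w ih =>
    have ha := hw a List.mem_cons_self
    rw [List.reverse_cons, wS_append, ih fun b hb => hw b (List.mem_cons_of_mem _ hb), wS_single, wS_cons,
      mul_inv_rev, inv_eq_of_mul_eq_one_right (tC_sq ha)]

/-- equal products act alike on the natural codes -/
theorem wN_congr {v w : List Nat} (hv : OkW v) (hw : OkW w) (h : wS v = wS w) {x : Nat} (hx : x < 256) :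
    wN v x = wN w x := by
  refine U62Recog47.vec_inj (wN_lt _ hx) (wN_lt _ hx) ?_
  rw [← wS_vec hv, ← wS_vec hw, h]

theorem wN_reverse {w : List Nat} (hw : OkW w) {x : Nat} (hx : x < 256) : wN w.reverse (wN w x) = x := by
  rw [← wN_append, wN_congr (hw.reverse.append hw) OkW.nil (by rw [wS_append, wS_reverse hw, inv_mul_cancel, wS_nil]) hx]
  rfl

theorem wM_two_single (a n : Nat) : wM 2 [a] n = tN a n := rfl

theorem stabN_pts : ∀ a ∈ stabN, a ∈ ptsL ∧ tN a 5 = 5 := by decide +kernel

/-- a code pairing non-trivially with a non-zero code -/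
theorem exists_pair_ok : (List.range 3).all (fun m => (List.range 256).all fun v =>
    v == 0 || (List.range 8).any fun j => bB m v (2 ^ j)) = true := by decide +kernel

theorem exists_pair {m : Nat} (hm : m < 3) {v : Nat} (hv : v < 256) (h0 : v ≠ 0) :
    ∃ j < 8, bB m v (2 ^ j) = true := by
  have h := List.all_eq_true.1 (List.all_eq_true.1 exists_pair_ok m (List.mem_range.2 hm)) v (List.mem_range.2 hv)
  simp only [Bool.or_eq_true, beq_iff_eq, List.any_eq_true, List.mem_range] at h
  exact h.resolve_left h0

/-- sums of one or two basis codes -/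
def pairL : List Nat :=
  (List.range 8).flatMap fun i => (List.range (i + 1)).map fun j => bif i == j then 2 ^ i else 2 ^ i ^^^ 2 ^ j

theorem perp_pair_ok : (List.range 3).all (fun m => (List.range 256).all fun v =>
    pairL.any fun j => j < 256 && !bB m v j && pairL.any fun k => k < 256 && !bB m v k && bB m j k) = true := by
  decide +kernel

/-- two non-orthogonal codes in the perp of a code -/
theorem exists_perp_pair {m : Nat} (hm : m < 3) {v : Nat} (hv : v < 256) :
    ∃ j < 256, bB m v j = false ∧ ∃ k < 256, bB m v k = false ∧ bB m j k = true := by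
  have h := List.all_eq_true.1 (List.all_eq_true.1 perp_pair_ok m (List.mem_range.2 hm)) v (List.mem_range.2 hv)
  simp only [Bool.and_eq_true, Bool.not_eq_true', List.any_eq_true, decide_eq_true_eq] at h
  obtain ⟨j, -, ⟨hj, hjv⟩, k, -, ⟨hk, hkv⟩, hjk⟩ := h
  exact ⟨j, hj, hjv, k, hk, hkv, hjk⟩

/-- every point other than 5 has a conjugate under the stabiliser of 5 not commuting with it -/
theorem stab_moves_ok : ptsL.all (fun b => b == 5 ||
    ([] :: stabN.map (fun a => [a]) ++ stabN.flatMap (fun a => stabN.map fun c => [a, c])).any fun w =>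
      !eqW ([b] ++ (w ++ [b] ++ w.reverse)) ((w ++ [b] ++ w.reverse) ++ [b])) = true := by decide +kernel

theorem stab_moves {b : Nat} (hb : b ∈ ptsL) (h5 : b ≠ 5) :
    ∃ w, (∀ a ∈ w, a ∈ stabN) ∧ ¬ Commute (tC b) (wS w * tC b * (wS w)⁻¹) := by
  have h := List.all_eq_true.1 stab_moves_ok b hb
  rw [Bool.or_eq_true, List.any_eq_true] at h
  obtain ⟨w, hw, hne⟩ := h.resolve_left (by simpa using h5)
  have hws : ∀ a ∈ w, a ∈ stabN := by
    simp only [List.mem_append, List.mem_cons, List.mem_map, List.mem_flatMap] at hw
    rcases hw with (rfl | ⟨a, ha, rfl⟩) | ⟨a, ha, c, hc, rfl⟩ <;> simp_all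
  have hwo : OkW w := fun a ha => (stabN_pts a (hws a ha)).1
  refine ⟨w, hws, fun hc => ?_⟩
  set u := w ++ [b] ++ w.reverse with hu
  have huo : OkW u := (hwo.append (OkW.single hb)).append hwo.reverse
  have eu : wS u = wS w * tC b * (wS w)⁻¹ := by
    rw [hu, wS_append, wS_append, wS_reverse hwo, wS_single]
  have e : wS ([b] ++ u) = wS (u ++ [b]) := by
    rw [wS_append [b] u, wS_append u [b], eu, wS_single]
    exact hc.eq
  have : eqW ([b] ++ u) (u ++ [b]) = true := by
    simp only [eqW, Bool.and_eq_true, List.all_eq_true, List.contains_iff_mem, beq_iff_eq]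
    refine ⟨⟨(OkW.single hb).append huo, huo.append (OkW.single hb)⟩, fun j hj => ?_⟩
    exact wN_congr ((OkW.single hb).append huo) (huo.append (OkW.single hb)) e (pow_lt (List.mem_range.1 hj))
  rw [this] at hne
  exact Bool.noConfusion hne

/-- an element of order five fixing the singular representative -/
def five27 : List Nat := [86, 68, 28, 6]

/-- an element of order five fixing the other representative -/
def five36 : List Nat := [96, 85, 6, 5]

theorem five_ok : ([(five27, 5), (five36, 1)] : List (List Nat × Nat)).all (fun p =>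
    w6 p.1 p.2 == p.2 && eqW (p.1 ++ p.1 ++ p.1 ++ p.1 ++ p.1) [] && !eqW p.1 []) = true := by decide +kernel

theorem five_order {w : List Nat} (h5 : eqW (w ++ w ++ w ++ w ++ w) [] = true) (h1 : eqW w [] = false)
    (hw : OkW w) : orderOf (wS w) = 5 := by
  have : Fact (Nat.Prime 5) := ⟨by norm_num⟩
  refine orderOf_eq_prime ?_ fun e => ?_
  · have := wS_of_eqW h5
    rw [wS_append, wS_append, wS_append, wS_append, wS_nil] at this
    rw [← this]; simp [pow_succ]
  · have : eqW w [] = true := by
      simp only [eqW, Bool.and_eq_true, List.all_eq_true, List.contains_iff_mem, beq_iff_eq]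
      exact ⟨⟨hw, fun a ha => absurd ha List.not_mem_nil⟩, fun j hj =>
        wN_congr hw OkW.nil (e.trans wS_nil.symm) (pow_lt (List.mem_range.1 hj))⟩
    rw [this] at h1
    exact Bool.noConfusion h1

/-- a six-dimensional code and its plane part -/
theorem wM_six {m : Nat} (hm : m < 2) (w : List Nat) (n : Nat) (hn : n < 256) :
    wM m w n = w6 w (n &&& 63) ||| (n &&& 192) := by
  induction w with
  | nil => simp only [wM, w6, List.foldr_nil]; revert n; decide +kernel
  | cons a w ih =>
    have hk : ∀ s < 64, ∀ u < 256, (s ||| (u &&& 192)) &&& 63 = s ∧ (s ||| (u &&& 192)) &&& 192 = u &&& 192 := by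
      decide +kernel
    have hs : w6 w (n &&& 63) < 64 := by
      clear ih
      induction w with
      | nil => exact Nat.lt_succ_of_le Nat.and_le_right
      | cons b w _ => exact tS_lt _ _
    have he : (m == 2) = false := by simp; omega
    show aM m a (wM m w n) = _
    rw [ih, aM, he, cond_false, (hk _ hs n hn).1, (hk _ hs n hn).2]
    rfl

end Cfsg.Agent.Lib.U62Cent47
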