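import Cfsg.Agent.Lib.U62Cent47.Fusion
import Cfsg.Agent.Lib.U62End7.Main
import Cfsg.Agent.Lib.LatticeUnitary.Transport
import Cfsg.Agent.Lib.TwoTransA4.OddThree
import Cfsg.Agent.S0280
import Mathlib.FieldTheory.Finite.Extension

/-!
An involution centraliser 2^{1+8}.SU(4, 2): PSU(6, 2), or the involution is isolated.

Owner: helper47.
-/

set_option autoImplicit false
set_option maxRecDepth 20000

namespace Cfsg.Agent.Lib.U62Cent47

open Cfsg.Agent.Lib.G24 (K4)

universe u

theorem card_psu_four : Nat.card (Cfsg.PSU 4 K4 2) = 25920 := by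
  have h := Cfsg.Agent.S0280.result (F := K4) (q := 2) (by rw [K4.card_eq]; rfl) 4 (by omega)
  norm_num [Finset.prod_range_succ] at h
  omega

theorem card_psu_six : Nat.card (Cfsg.PSU 6 K4 2) = 9196830720 := by
  have h := Cfsg.Agent.S0280.result (F := K4) (q := 2) (by rw [K4.card_eq]; rfl) 6 (by omega)
  norm_num [Finset.prod_range_succ] at h
  omega

variable {G : Type u} [Group G] [Finite G] {z : G} (C : Ctx z)

/-- the order of `H0` -/
theorem Ctx.card_H0 : Nat.card ↥C.H0 = 13271040 := by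
  have h1 := Subgroup.card_eq_card_quotient_mul_card_subgroup C.φ.ker
  have h2 : C.φ.ker = C.J.subgroupOf C.H0 := Subgroup.ext fun h => by
    rw [MonoidHom.mem_ker, C.φ_ker, Subgroup.mem_subgroupOf]
  rw [Nat.card_congr (QuotientGroup.quotientKerEquivOfSurjective C.φ C.φ_surj).toEquiv, h2,
    Nat.card_congr (Subgroup.subgroupOfEquivOfLe C.J_le).toEquiv, C.card_J,
    Nat.card_congr psuEquiv.toEquiv, card_psu_four] at h1
  exact h1

/-- the size of the class and of the group it generates -/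
theorem Fused.cards (Fu : Fused C) :
    (cls z).ncard = 693 ∧ Nat.card ↥(Subgroup.closure (cls z)) = 9196830720 := by
  obtain ⟨he, ⟨i⟩⟩ := U62End7.main Fu.endData
  refine ⟨?_, ?_⟩
  · rw [he]; exact (U62Recog47.main Fu.endData.host).2.1
  · rw [Nat.card_congr i.toEquiv, card_psu_six]

/-- the order of the group -/
theorem Fused.card_group (Fu : Fused C) : Nat.card G = 693 * Nat.card ↥(Cen z) := by
  have h := card_orbit_mul (⊤ : Subgroup G) z
  have e : {a : G | ∃ g ∈ (⊤ : Subgroup G), g * z * g⁻¹ = a} = cls z := by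
    ext a; simp [cls]
  rw [e, (Fu.cards C).1, top_inf_eq, Subgroup.card_top] at h
  exact h.symm

/-- with `H0` the whole centraliser the group is PSU(6, 2) -/
theorem Fused.iso (Fu : Fused C) (hH : C.H0 = Cen z) : Nonempty (G ≃* Cfsg.PSU 6 K4 2) := by
  obtain ⟨-, ⟨i⟩⟩ := U62End7.main Fu.endData
  have h1 := Fu.card_group C
  rw [← hH, C.card_H0] at h1
  have htop : Subgroup.closure (cls z) = ⊤ :=
    Subgroup.eq_top_of_card_eq _ (by rw [(Fu.cards C).2, h1])
  exact ⟨(Subgroup.topEquiv.symm.trans (MulEquiv.subgroupCongr htop.symm)).trans i⟩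

omit [Finite G] in
theorem isolated_involution (hz : orderOf z = 2) (h : Isolated z) : Cfsg.IsIsolatedInvolution z :=
  ⟨hz, fun g hg => h _ ⟨g, rfl⟩ hg.symm⟩

/-- Thompson-type recognition: U6(2) or `G = C(z) O(G)`. -/
theorem u62_or_split (F : FactsProp) (hH : C.H0 = Cen z) {K : Type*} [Field K] [Fintype K]
    (hK : Fintype.card K = 4) :
    Nonempty (G ≃* Cfsg.PSU 6 K 2) ∨ Cen z ⊔ Cfsg.oddCore G = ⊤ := by
  rcases isolated_or_fused C F (fun _ => hH) (fun x _ hx => hH ▸ mem_cen.2 hx.eq) with h | ⟨⟨Fu⟩⟩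
  · exact Or.inr (TwoTransA4.sup_eq_top_of_isolated (isolated_involution C.hz h))
  · obtain ⟨i⟩ := Fu.iso C hH
    obtain ⟨j⟩ := LatticeUnitary.exists_psu_congr
      (FiniteField.ringEquivOfCardEq (K := K4) (K' := K) (K4.card_eq.trans hK.symm)) 6 2
    exact Or.inl ⟨i.trans j⟩

end Cfsg.Agent.Lib.U62Cent47
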