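import Cfsg.Agent.Lib.U62Cent47.Data
import Cfsg.Agent.Lib.U62Recog47.Space
import Cfsg.Agent.Lib.Unitary.Generation
import Cfsg.Prelude.Def_Classical

/-!
SU(4, 2) as words in transvections: their action on the natural module (eight bits) and on the six
bits of the other eight-dimensional module, and the orbit certificates.

Owner: helper47.
-/

set_option autoImplicit false
set_option maxRecDepth 20000

namespace Cfsg.Agent.Lib.U62Cent47

open Cfsg.Agent.Lib.G24 Cfsg.Agent.Lib.U62Recog47

/-- the special unitary group -/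
abbrev SU4 : Type := Cfsg.SU 4 K4 2

/-- the matrix of an element -/
abbrev matOf (A : SU4) : Matrix (Fin 4) (Fin 4) K4 := A.1.1

theorem herm_eq (u v : V4) : Cfsg.hermForm 4 K4 2 u v = h4 u v := by
  simp only [Cfsg.hermForm, Fin.sum_univ_four, h4, pow_two]

theorem h4_map (A : SU4) (u v : V4) :
    h4 (Matrix.mulVec (matOf A) u) (Matrix.mulVec (matOf A) v) = h4 u v := by
  rw [← herm_eq, ← herm_eq]; exact A.2 u v

/-- the matrix of a transvection -/
def tMat (v : V4) : Matrix (Fin 4) (Fin 4) K4 :=
  1 + Matrix.replicateCol (Fin 1) v * Matrix.replicateRow (Fin 1) (fun k => v k * v k)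

theorem tMat_mulVec (v x : V4) : Matrix.mulVec (tMat v) x = x + h4 x v • v := by
  rw [tMat, Matrix.add_mulVec, Matrix.one_mulVec]
  congr 1
  funext r
  simp [Matrix.mulVec, dotProduct, Matrix.mul_apply, h4, Fin.sum_univ_four]
  ring

theorem h4_trans {v : V4} (hv : h4 v v = 0) (u w : V4) :
    h4 (u + h4 u v • v) (w + h4 w v • v) = h4 u w := by
  simp only [h4_add_left, h4_add_right, h4_smul_left, h4_smul_right, hv, mul_zero, add_zero]
  rw [h4_swap w v]
  generalize h4 u v = a, h4 w v = b, h4 u w = c
  revert a b c; decide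

/-- the transvection at an isotropic vector -/
def tv (v : V4) (h : h4 v v = 0) : SU4 :=
  ⟨⟨tMat v, by
    have h' : (fun k => v k * v k) ⬝ᵥ v = h4 v v := by
      simp only [dotProduct, Fin.sum_univ_four, h4]; ring
    refine (Matrix.det_one_add_replicateCol_mul_replicateRow (ι := Fin 1) v _).trans ?_
    rw [h', h, add_zero]⟩, by
    intro u w
    show Cfsg.hermForm 4 K4 2 (Matrix.mulVec (tMat v) u) (Matrix.mulVec (tMat v) w) = _
    rw [herm_eq, herm_eq, tMat_mulVec, tMat_mulVec, h4_trans h]⟩

theorem tv_mulVec (v : V4) (h : h4 v v = 0) (x : V4) :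
    Matrix.mulVec (matOf (tv v h)) x = x + h4 x v • v := tMat_mulVec v x

/-- the transvection with a given code of its centre -/
noncomputable def tC (a : Nat) : SU4 := if h : h4 (vec a) (vec a) = 0 then tv (vec a) h else 1

/-- its effect on codes -/
def tN (a x : Nat) : Nat := x ^^^ smN (hN x a) a

theorem tC_vec {a : Nat} (ha : hN a a = 0) (x : Nat) :
    Matrix.mulVec (matOf (tC a)) (vec x) = vec (tN a x) := by
  rw [tC, dif_pos ((h4_vec_zero_iff a a).2 ha), tv_mulVec, tN, vec_xor, vec_smN (hN_lt x a), h4_vec]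

theorem ext_vec {A B : SU4} (h : ∀ x < 256, Matrix.mulVec (matOf A) (vec x) = Matrix.mulVec (matOf B) (vec x)) :
    A = B := by
  refine Subtype.ext (Subtype.ext (Matrix.mulVec_injective (funext fun v => ?_)))
  obtain ⟨x, hx, rfl⟩ := exists_code v
  exact h x hx

/-- a word in the transvections -/
noncomputable def wS (w : List Nat) : SU4 := (w.map tC).prod

/-- its effect on codes -/
def wN (w : List Nat) (x : Nat) : Nat := w.foldr tN x

/-- one image of a basis vector of the six-dimensional module -/
def colS (a i : Nat) : Nat := sixD >>> (36 * a + 6 * i) &&& 63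

/-- the effect of a transvection on the six bits -/
def tS (a y : Nat) : Nat :=
  (bif y.testBit 0 then colS a 0 else 0) ^^^ (bif y.testBit 1 then colS a 1 else 0) ^^^
    (bif y.testBit 2 then colS a 2 else 0) ^^^ (bif y.testBit 3 then colS a 3 else 0) ^^^
    (bif y.testBit 4 then colS a 4 else 0) ^^^ (bif y.testBit 5 then colS a 5 else 0)

/-- the effect of a word on the six bits -/
def w6 (w : List Nat) (y : Nat) : Nat := w.foldr tS y

theorem wS_nil : wS [] = 1 := rfl

theorem wS_cons (a : Nat) (w : List Nat) : wS (a :: w) = tC a * wS w := List.prod_cons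

theorem wS_append (v w : List Nat) : wS (v ++ w) = wS v * wS w := by simp [wS]

theorem wN_append (v w : List Nat) (x : Nat) : wN (v ++ w) x = wN v (wN w x) := List.foldr_append

theorem tN_lt {x : Nat} (a : Nat) (hx : x < 256) : tN a x < 256 :=
  Nat.xor_lt_two_pow (n := 8) hx (smN_lt _ _)

theorem wN_lt (w : List Nat) {x : Nat} (hx : x < 256) : wN w x < 256 := by
  induction w with
  | nil => exact hx
  | cons a w ih => exact tN_lt a ih

theorem colS_lt (a i : Nat) : colS a i < 64 := Nat.lt_succ_of_le Nat.and_le_right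

theorem tS_lt (a y : Nat) : tS a y < 64 := by
  have h : ∀ (b : Bool) i, (bif b then colS a i else 0) < 64 := fun b i => by
    cases b
    · exact Nat.zero_lt_succ _
    · exact colS_lt a i
  have hx : ∀ {p q : Nat}, p < 64 → q < 64 → p ^^^ q < 64 := fun hp hq =>
    Nat.xor_lt_two_pow (n := 6) hp hq
  exact hx (hx (hx (hx (hx (h _ 0) (h _ 1)) (h _ 2)) (h _ 3)) (h _ 4)) (h _ 5)

theorem pts_iso : ∀ a ∈ ptsL, hN a a = 0 ∧ a ≠ 0 ∧ a < 256 := by decide +kernel

theorem gen_pts : ∀ a ∈ genL, a ∈ ptsL := by decide +kernel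

theorem wS_vec {w : List Nat} (hw : ∀ a ∈ w, a ∈ ptsL) (x : Nat) :
    Matrix.mulVec (matOf (wS w)) (vec x) = vec (wN w x) := by
  induction w with
  | nil => exact Matrix.one_mulVec _
  | cons a w ih =>
    rw [wS_cons]
    show Matrix.mulVec (matOf (tC a) * matOf (wS w)) (vec x) = _
    rw [← Matrix.mulVec_mulVec, ih fun b hb => hw b (List.mem_cons_of_mem _ hb),
      tC_vec (pts_iso a (hw a List.mem_cons_self)).1]
    rfl

/-- Two words agree in the group as soon as they agree on the basis codes. -/
theorem wS_ext {v w : List Nat} (hv : ∀ a ∈ v, a ∈ ptsL) (hw : ∀ a ∈ w, a ∈ ptsL)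
    (h : ∀ x < 256, wN v x = wN w x) : wS v = wS w :=
  ext_vec fun x hx => by rw [wS_vec hv, wS_vec hw, h x hx]

theorem tree_pts : ∀ e ∈ ptTree, e.1 ∈ ptsL ∧ e.2.1 ∈ ptsL ∧ e.2.2 ∈ genL := by decide +kernel

theorem tree_conj_ok : ptTree.all (fun e => (List.range 256).all fun x =>
    wN [e.2.2, e.2.1, e.2.2] x == tN e.1 x) = true := by decide +kernel

theorem tree_covers : ptsL.all (fun a => a == 5 || ptTree.any fun e => e.1 == a) = true := by decide +kernel

/-- every member of the tree is the conjugate of its parent -/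
theorem tree_conj {e : Nat × Nat × Nat} (he : e ∈ ptTree) : tC e.1 = tC e.2.2 * tC e.2.1 * tC e.2.2 := by
  obtain ⟨h1, h2, h3⟩ := tree_pts e he
  have h := List.all_eq_true.1 tree_conj_ok e he
  have := wS_ext (v := [e.2.2, e.2.1, e.2.2]) (w := [e.1])
    (by simp [gen_pts _ h3, h2]) (by simp [h1])
    (fun x hx => by
      have := List.all_eq_true.1 h x (List.mem_range.2 hx)
      simpa [wN] using (beq_iff_eq.1 this))
  simpa [wS, mul_assoc] using this.symm

theorem cover_ok : (List.range 256).all (fun a => !(a != 0 && hN a a == 0) ||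
    ptsL.any fun b => [1, 2, 3].any fun l => smN l b == a) = true := by decide +kernel

/-- every transvection is one of the forty-five -/
theorem exists_pt_tv {v : V4} (hv : v ≠ 0) (h : h4 v v = 0) : ∃ a ∈ ptsL, tv v h = tC a := by
  obtain ⟨n, hn, rfl⟩ := exists_code v
  have h0 : hN n n = 0 := (h4_vec_zero_iff n n).1 h
  have hn0 : n ≠ 0 := fun e => hv (e ▸ vec_zero)
  have hc := List.all_eq_true.1 cover_ok n (List.mem_range.2 hn)
  simp only [bne_iff_ne.2 hn0, h0, beq_self_eq_true, Bool.and_true, Bool.not_true, Bool.false_or,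
    List.any_eq_true, beq_iff_eq] at hc
  obtain ⟨b, hb, l, hl, rfl⟩ := hc
  have hl4 : 0 < l ∧ l < 4 := by fin_cases hl <;> norm_num
  refine ⟨b, hb, ext_vec fun x _ => ?_⟩
  rw [tC, dif_pos ((h4_vec_zero_iff b b).2 (pts_iso b hb).1), tv_mulVec, tv_mulVec, vec_smN hl4.2,
    h4_smul_right, smul_smul]
  congr 2
  have key : ∀ c : K4, c ≠ 0 → ∀ H, c * c * H * c = H := by decide
  exact key _ (fun e => by have := (dec_zero_iff hl4.2).1 e; omega) _

theorem hF : Fintype.card K4 = 2 ^ 2 := by rw [K4.card_eq]; rfl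

/-- what holds of the transvection 5 and passes along the conjugations holds of all forty-five -/
theorem pts_induction {P : SU4 → Prop} (h5 : P (tC 5))
    (hstep : ∀ a ∈ ptsL, ∀ g ∈ genL, P (tC a) → P (tC g * tC a * tC g)) : ∀ a ∈ ptsL, P (tC a) := by
  suffices h : ∀ (l : List (Nat × Nat × Nat)), (∀ e ∈ l, e ∈ ptTree) → ∀ K : List Nat,
      (∀ a ∈ K, P (tC a)) → (∀ k < l.length, ∀ e : Nat × Nat × Nat, l[k]? = some e →
        e.2.1 ∈ K ++ (l.take k).map (fun t : Nat × Nat × Nat => t.1)) → ∀ e ∈ l, P (tC e.1) by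
    intro a ha
    have hc := List.all_eq_true.1 tree_covers a ha
    rw [Bool.or_eq_true, beq_iff_eq, List.any_eq_true] at hc
    rcases hc with rfl | ⟨e, he, e1⟩
    · exact h5
    · rw [← beq_iff_eq.1 e1]
      refine h ptTree (fun _ he => he) [5] (by simpa using h5) ?_ e he
      have hok : (List.range ptTree.length).all (fun k =>
          ([5] ++ (ptTree.take k).map (fun t : Nat × Nat × Nat => t.1)).contains
            (ptTree.getD k (0, 0, 0)).2.1) = true := by
        decide +kernel
      intro k hk e' he'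
      have := List.all_eq_true.1 hok k (List.mem_range.2 hk)
      rw [List.getD_eq_getElem?_getD, he', Option.getD_some, List.contains_iff_mem] at this
      exact this
  intro l
  induction l with
  | nil => intro _ _ _ _ e he; exact absurd he List.not_mem_nil
  | cons e0 l ih =>
    intro hl K hK hp e he
    have h0 : P (tC e0.1) := by
      have := hp 0 (Nat.succ_pos _) e0 rfl
      simp only [List.take_zero, List.map_nil, List.append_nil] at this
      rw [tree_conj (hl e0 List.mem_cons_self)]
      have ht := tree_pts e0 (hl e0 List.mem_cons_self)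
      exact hstep _ ht.2.1 _ ht.2.2 (hK _ this)
    rcases List.mem_cons.1 he with rfl | he
    · exact h0
    refine ih (fun x hx => hl x (List.mem_cons_of_mem _ hx)) (K ++ [e0.1]) ?_ ?_ e he
    · intro b hb
      rcases List.mem_append.1 hb with hb | hb
      · exact hK b hb
      · rw [List.mem_singleton.1 hb]; exact h0
    · intro k hk e' he'
      have := hp (k + 1) (Nat.succ_lt_succ hk) e' (by simpa using he')
      simpa [List.take_succ_cons] using this

/-- a property of the generators closed under products holds everywhere -/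
theorem induction_gen {P : SU4 → Prop} (h1 : P 1) (hg : ∀ a ∈ genL, P (tC a))
    (hm : ∀ A B, P A → P B → P (A * B)) (A : SU4) : P A := by
  have hpts : ∀ a ∈ ptsL, P (tC a) :=
    pts_induction (hg 5 (by decide)) fun a _ g hg' ha => hm _ _ (hm _ _ (hg g hg') ha) (hg g hg')
  have hA : A ∈ Subgroup.closure {A : SU4 | Unitary.IsTv (Unitary.suToGU 4 K4 2 A)} := by
    rw [Unitary.suTransvections_closure hF (by norm_num) (by norm_num)]; trivial
  rw [← Subgroup.mem_toSubmonoid, Subgroup.closure_toSubmonoid_of_finite] at hA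
  induction hA using Submonoid.closure_induction with
  | one => exact h1
  | mul A B _ _ hA hB => exact hm A B hA hB
  | mem A hA =>
    obtain ⟨v, c, hv, hc, hA⟩ := hA
    have hv' : h4 v v = 0 := by rw [← herm_eq]; exact hv
    have hmat : ∀ x, Matrix.mulVec (matOf A) x = x + (c * h4 x v) • v := fun x => by
      rw [← herm_eq]; exact hA x
    have hc1 : c = 0 ∨ c = 1 := k4_real (by rwa [← pow_two])
    by_cases h0 : c = 0 ∨ v = 0
    · have : A = 1 := ext_vec fun x _ => by
        rw [hmat]; show _ = Matrix.mulVec (1 : Matrix (Fin 4) (Fin 4) K4) _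
        rw [Matrix.one_mulVec]
        rcases h0 with e | e <;> simp [e]
      exact this ▸ h1
    push Not at h0
    have : A = tv v hv' := ext_vec fun x _ => by
      rw [hmat, tv_mulVec, hc1.resolve_left h0.1, one_mul]
    obtain ⟨a, ha, e⟩ := exists_pt_tv h0.2 hv'
    rw [this, e]; exact hpts a ha

theorem exists_word (A : SU4) : ∃ w : List Nat, (∀ a ∈ w, a ∈ genL) ∧ wS w = A := by
  refine induction_gen (P := fun A => ∃ w : List Nat, (∀ a ∈ w, a ∈ genL) ∧ wS w = A)
    ⟨[], by simp, rfl⟩ (fun a ha => ⟨[a], by simpa using ha, by simp [wS]⟩) ?_ A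
  rintro _ _ ⟨v, hv, rfl⟩ ⟨w, hw, rfl⟩
  exact ⟨v ++ w, fun a ha => (List.mem_append.1 ha).elim (hv a) (hw a), wS_append v w⟩

end Cfsg.Agent.Lib.U62Cent47
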