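import Cfsg.Agent.Lib.U62Cent47.Star

/-!
Fusion, second step: no conjugate of `z` other than `z` lies in `J`.

Owner: helper47.
-/

set_option autoImplicit false
set_option maxRecDepth 20000

open scoped commutatorElement

namespace Cfsg.Agent.Lib.U62Cent47

universe u

variable {G : Type u} [Group G] {z : G} (C : Ctx z)

theorem count_five : ((List.range 256).filter fun n => wM 2 [5] n == n).length = 64 := by decide +kernel

theorem count_nil : ((List.range 256).filter fun n => wM 2 [] n == n).length = 256 := by decide +kernel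

/-- the part of `H0` carried by `g` into `J ∩ C(g z g⁻¹)` -/
def Ctx.back (g : G) : Subgroup G :=
  C.H0 ⊓ (C.J ⊓ Cen (g * z * g⁻¹)).comap (MulAut.conj g).toMonoidHom

theorem Ctx.mem_back {g q : G} :
    q ∈ C.back g ↔ q ∈ C.H0 ∧ g * q * g⁻¹ ∈ C.J ∧ Commute (g * q * g⁻¹) (g * z * g⁻¹) := by
  rw [Ctx.back, Subgroup.mem_inf, Subgroup.mem_comap, Subgroup.mem_inf, mem_cen]
  rfl

theorem Ctx.back_le (g : G) : C.back g ≤ C.H0 := inf_le_left

/-- the homomorphism on it -/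
def Ctx.backHom (g : G) : ↥(C.back g) →* SU4 := C.φ.comp (Subgroup.inclusion (C.back_le g))

/-- the elements of `J ∩ C(g z g⁻¹)` carried into `J` by the inverse of `g` -/
def Ctx.InN (g a : G) : Prop := a ∈ C.J ∧ Commute a (g * z * g⁻¹) ∧ g⁻¹ * a * g ∈ C.J

open Classical in
/-- their codes -/
noncomputable def Ctx.nb (g : G) (n : Nat) : Bool := decide (∃ a, C.InN g a ∧ C.π a = n)

/-- their codes as a set -/
noncomputable def Ctx.nbSet (g : G) : Finset Nat := ((List.range 256).filter (C.nb g)).toFinset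

theorem Ctx.mem_nbSet {g : G} {n : Nat} : n ∈ C.nbSet g ↔ ∃ a, C.InN g a ∧ C.π a = n := by
  simp only [Ctx.nbSet, Ctx.nb, List.mem_toFinset, List.mem_filter, List.mem_range, decide_eq_true_eq]
  exact ⟨fun h => h.2, fun h => ⟨by obtain ⟨a, ha, rfl⟩ := h; exact C.π_lt a ha.1, h⟩⟩

variable {g : G} (hJ : g * z * g⁻¹ ∈ C.J) (hs : g⁻¹ * z * g ∈ C.J)

include hJ hs

theorem Ctx.inN_z : C.InN g z := ⟨C.z_mem, (C.comm_z hJ).symm, hs⟩

omit hJ hs in
theorem Ctx.inN_mul {a b : G} (ha : C.InN g a) (hb : C.InN g b) : C.InN g (a * b) :=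
  ⟨mul_mem ha.1 hb.1, ha.2.1.mul_left hb.2.1, by
    rw [show g⁻¹ * (a * b) * g = g⁻¹ * a * g * (g⁻¹ * b * g) by group]; exact mul_mem ha.2.2 hb.2.2⟩

theorem Ctx.inN_x : C.InN g (g * z * g⁻¹) :=
  ⟨hJ, Commute.refl _, by rw [show g⁻¹ * (g * z * g⁻¹) * g = z by group]; exact C.z_mem⟩

theorem Ctx.nb_sub : Sub256 (C.nbSet g) := by
  refine ⟨fun n hn => ?_, C.mem_nbSet.2 ⟨z, C.inN_z hJ hs, C.π_z⟩, fun n hn k hk => ?_⟩
  · obtain ⟨a, ha, rfl⟩ := C.mem_nbSet.1 hn; exact C.π_lt a ha.1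
  · obtain ⟨a, ha, rfl⟩ := C.mem_nbSet.1 hn; obtain ⟨b, hb, rfl⟩ := C.mem_nbSet.1 hk
    exact C.mem_nbSet.2 ⟨a * b, C.inN_mul ha hb, C.π_mul a ha.1 b hb.1⟩

theorem Ctx.nb_mem : C.π (g * z * g⁻¹) ∈ C.nbSet g := C.mem_nbSet.2 ⟨_, C.inN_x hJ hs, rfl⟩

omit hs in
theorem Ctx.nb_iso (hne : g * z * g⁻¹ ≠ z) :
    ∀ n ∈ C.nbSet g, ∀ k ∈ C.nbSet g, bB C.m n k = false := by
  intro n hn k hk
  obtain ⟨a, ha, rfl⟩ := C.mem_nbSet.1 hn; obtain ⟨b, hb, rfl⟩ := C.mem_nbSet.1 hk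
  cases hb' : bB C.m (C.π a) (C.π b)
  · rfl
  exfalso
  have h1 := C.comm a ha.1 b hb.1
  rw [if_pos hb'] at h1
  have h2 := C.comm _ ha.2.2 _ hb.2.2
  rw [show ⁅g⁻¹ * a * g, g⁻¹ * b * g⁆ = g⁻¹ * ⁅a, b⁆ * g by rw [commutatorElement_def, commutatorElement_def]; group,
    h1] at h2
  split at h2
  · apply hne
    calc g * z * g⁻¹ = g * (g⁻¹ * z * g) * g⁻¹ := by rw [h2]
      _ = z := by group
  · exact C.z_ne_one (by rw [show z = g * (g⁻¹ * z * g) * g⁻¹ by group, h2, mul_one, mul_inv_cancel])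

omit hJ hs in
theorem Ctx.inN_conj {h a : G} (hh : h ∈ Cen z) (hx : Commute h (g * z * g⁻¹)) (ha : C.InN g a) :
    C.InN g (h * a * h⁻¹) :=
  ⟨C.J_conj h hh a ha.1, (hx.mul_left ha.2.1).mul_left hx.inv_left, by
    have hk := cen_conj hx.eq
    rw [show g⁻¹ * (h * a * h⁻¹) * g = g⁻¹ * h * g * (g⁻¹ * a * g) * (g⁻¹ * h * g)⁻¹ by group]
    exact C.J_conj _ hk _ ha.2.2⟩

omit hs in
theorem Ctx.nb_inv (hne : g * z * g⁻¹ ≠ z) {w : List Nat} (hw : OkW w)
    (e : wM C.m w (C.π (g * z * g⁻¹)) = C.π (g * z * g⁻¹)) :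
    ∀ n ∈ C.nbSet g, wM C.m w n ∈ C.nbSet g := by
  intro n hn
  obtain ⟨a, ha, rfl⟩ := C.mem_nbSet.1 hn
  obtain ⟨h, hh, hx, hφ⟩ := C.move hJ hJ (C.cls_code ⟨g, rfl⟩ hJ hne).1 hw e
  exact C.mem_nbSet.2 ⟨_, C.inN_conj (C.H0_le hh) (mul_inv_eq_iff_eq_mul.1 hx) ha,
    C.π_conj hh hw hφ.symm ha.1⟩

omit hJ hs in
/-- an element carried back squares into `J` -/
theorem Ctx.back_sq (hs' : g⁻¹ * z * g ∈ C.J) : ∀ e ∈ (C.backHom g).range, e * e = 1 := by
  rintro _ ⟨⟨q, hq⟩, rfl⟩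
  obtain ⟨hq0, hqJ, -⟩ := C.mem_back.1 hq
  rw [← map_mul]
  refine (C.φ_ker _).2 (show q * q ∈ C.J from ?_)
  have h := C.sq _ hqJ
  rw [show g * q * g⁻¹ * (g * q * g⁻¹) = g * (q * q) * g⁻¹ by group] at h
  rw [show q * q = g⁻¹ * (g * (q * q) * g⁻¹) * g by group, h]
  split
  · exact hs'
  · simp

variable [Finite G]

theorem Ctx.card_back (hne : g * z * g⁻¹ ≠ z) :
    128 ≤ Nat.card ↥(C.back g) ∧ (C.H0 = Cen z → Nat.card ↥(C.back g) = 256) := by
  set x := g * z * g⁻¹ with hx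
  obtain ⟨h0, -⟩ := C.cls_code ⟨g, rfl⟩ hJ hne
  have horb : {a : G | ∃ j ∈ C.J, j * x * j⁻¹ = a} = {x, z * x} := by
    ext a
    simp only [Set.mem_setOf_eq, Set.mem_insert_iff, Set.mem_singleton_iff]
    constructor
    · rintro ⟨j, hj, rfl⟩
      rw [C.conj_eq hj hJ]
      cases bB C.m (C.π j) (C.π x) <;> simp
    · rintro (rfl | rfl)
      · exact ⟨1, one_mem _, by group⟩
      · exact C.exists_flip hJ h0
  have hP := card_orbit_mul C.J x
  rw [horb, Set.ncard_pair fun e => C.z_ne_one (mul_eq_right.1 e.symm), C.card_J] at hP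
  set P := (C.J ⊓ Cen x).comap (MulAut.conj g).toMonoidHom with hPdef
  have hPc : Nat.card ↥P = 256 := by
    have e : P = (C.J ⊓ Cen x).map (MulAut.conj g).symm.toMonoidHom := by
      rw [hPdef]; exact Subgroup.comap_equiv_eq_map_symm (MulAut.conj g) _
    rw [e, Subgroup.card_map_of_injective (f := (MulAut.conj g).symm.toMonoidHom) (MulAut.conj g).symm.injective]
    omega
  have hle : P ≤ Cen z := fun q hq => by
    obtain ⟨-, h2⟩ := Subgroup.mem_inf.1 (Subgroup.mem_comap.1 hq)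
    have := cen_conj (g := g) (a := g * q * g⁻¹) (mem_cen.1 h2)
    rwa [show g⁻¹ * (g * q * g⁻¹) * g = q by group] at this
  have hmul : Nat.card ↥(C.back g) * C.H0.relIndex P = 256 := by
    rw [← hPc, Ctx.back, ← hPdef, ← Subgroup.inf_relIndex_right C.H0 P, Subgroup.relIndex,
      ← Nat.card_congr (Subgroup.subgroupOfEquivOfLe (inf_le_right : C.H0 ⊓ P ≤ P)).toEquiv]
    exact Subgroup.card_mul_index _
  constructor
  · have h2 : C.H0.relIndex P ≤ 2 := by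
      refine le_trans (Subgroup.relIndex_le_of_le_right hle ?_) C.H0_index
      exact Subgroup.index_ne_zero_of_finite
    nlinarith
  · intro e
    rw [show C.H0.relIndex P = 1 from Subgroup.relIndex_eq_one.2 (e ▸ hle)] at hmul
    omega

theorem Ctx.card_split :
    Nat.card ↥(C.back g) = Nat.card ↥(C.backHom g).range * (2 * (C.nbSet g).card) := by
  classical
  have h1 := Subgroup.card_eq_card_quotient_mul_card_subgroup (C.backHom g).ker
  rw [Nat.card_congr (QuotientGroup.quotientKerEquivRange (C.backHom g)).toEquiv] at h1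
  have hN : {a : G | C.InN g a} = {a : G | a ∈ C.J ∧ C.nb g (C.π a) = true} := by
    ext a
    simp only [Set.mem_setOf_eq, Ctx.nb, decide_eq_true_eq]
    constructor
    · exact fun h => ⟨h.1, a, h, rfl⟩
    · rintro ⟨ha, b, hb, e⟩
      rcases (C.π_eq_iff hb.1 ha).1 e with rfl | rfl
      · exact hb
      · exact C.inN_mul hb (C.inN_z hJ hs)
  have hk : Nat.card (C.backHom g).ker = {a : G | C.InN g a}.ncard := by
    rw [← Nat.card_coe_set_eq]
    refine Nat.card_congr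
      { toFun := fun q => ⟨g * q.1.1 * g⁻¹, (C.mem_back.1 q.1.2).2.1, (C.mem_back.1 q.1.2).2.2, ?_⟩
        invFun := fun a => ⟨⟨g⁻¹ * a.1 * g, C.mem_back.2 ⟨C.J_le a.2.2.2, ?_, ?_⟩⟩, ?_⟩
        left_inv := fun q => Subtype.ext (Subtype.ext (by group))
        right_inv := fun a => Subtype.ext (by group) }
    · rw [show g⁻¹ * (g * q.1.1 * g⁻¹) * g = q.1.1 by group]
      exact (C.φ_ker _).1 (MonoidHom.mem_ker.1 q.2)
    · rw [show g * (g⁻¹ * a.1 * g) * g⁻¹ = a.1 by group]; exact a.2.1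
    · rw [show g * (g⁻¹ * a.1 * g) * g⁻¹ = a.1 by group]; exact a.2.2.1
    · exact MonoidHom.mem_ker.2 ((C.φ_ker _).2 a.2.2.2)
  rw [h1, hk, hN, C.card_code (C.nb g), Ctx.nbSet,
    List.toFinset_card_of_nodup (List.Nodup.filter _ List.nodup_range)]

omit hJ hs in
/-- the number of codes fixed by an element, from the group -/
theorem Ctx.fix_count {q : G} (hq : q ∈ C.H0) {w : List Nat} (hw : OkW w) (e : wS w = C.φ ⟨q, hq⟩) :
    {a : G | a ∈ C.J ∧ C.π (q * a * q⁻¹) = C.π a}.ncard =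
      2 * ((List.range 256).filter fun n => wM C.m w n == n).length := by
  rw [← C.card_code fun n => wM C.m w n == n]
  congr 1
  ext a
  simp only [Set.mem_setOf_eq, beq_iff_eq]
  exact ⟨fun h => ⟨h.1, by rw [← C.π_conj hq hw e h.1]; exact h.2⟩,
    fun h => ⟨h.1, by rw [C.π_conj hq hw e h.1]; exact h.2⟩⟩

omit hJ hs in
/-- conjugation in the centraliser preserves that number -/
theorem Ctx.fix_conj {k : G} (hk : k ∈ Cen z) (q : G) (hq : q ∈ C.H0) :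
    {a : G | a ∈ C.J ∧ C.π (q * a * q⁻¹) = C.π a}.ncard =
      {a : G | a ∈ C.J ∧ C.π (k * q * k⁻¹ * a * (k * q * k⁻¹)⁻¹) = C.π a}.ncard := by
  have key : ∀ h ∈ Cen z, ∀ r ∈ C.H0, ∀ a, a ∈ C.J → C.π (r * a * r⁻¹) = C.π a →
      C.π (h * r * h⁻¹ * (h * a * h⁻¹) * (h * r * h⁻¹)⁻¹) = C.π (h * a * h⁻¹) := by
    intro h hh r hr a ha e
    have hc := C.J_conj r (C.H0_le hr) a ha
    rw [show h * r * h⁻¹ * (h * a * h⁻¹) * (h * r * h⁻¹)⁻¹ = h * (r * a * r⁻¹) * h⁻¹ by group]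
    rcases (C.π_eq_iff hc ha).1 e with e' | e'
    · rw [← e']
    · conv_rhs => rw [e']
      rw [show h * (r * a * r⁻¹ * z) * h⁻¹ = h * (r * a * r⁻¹) * h⁻¹ * (h * z * h⁻¹) by group,
        mem_cen.1 hh, mul_inv_cancel_right, C.π_mul _ (C.J_conj h hh _ hc) z C.z_mem, C.π_z, Nat.xor_zero]
  refine Set.ncard_congr (fun a _ => k * a * k⁻¹) (fun a ha => ⟨C.J_conj k hk a ha.1, key k hk q hq a ha.1 ha.2⟩)
    (fun a b _ _ e => mul_left_cancel (mul_right_cancel e)) fun b hb => ?_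
  refine ⟨k⁻¹ * b * k, ⟨by simpa using C.J_conj k⁻¹ (inv_mem hk) b hb.1, ?_⟩, by group⟩
  have := key k⁻¹ (inv_mem hk) _ (C.H0_conj k hk q hq) b hb.1 hb.2
  rw [show k⁻¹ * (k * q * k⁻¹) * k⁻¹⁻¹ = q by group, inv_inv] at this
  exact this

/-- the six-dimensional case -/
theorem Ctx.notJ_six (F : FactsProp) (hm : C.m < 2) (hH : C.H0 = Cen z) (hne : g * z * g⁻¹ ≠ z) :
    False := by
  obtain ⟨h0, hq⟩ := C.cls_code ⟨g, rfl⟩ hJ hne
  have hN : (C.nbSet g).card ≤ 4 :=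
    F.2.2.2.2.2.2.2.1.2 C.m hm _ (C.π_lt _ hJ) h0 hq _ (C.nb_sub hJ hs) (C.nb_mem hJ hs)
      (fun w hw e => C.nb_inv hJ hne hw e) (C.nb_iso hJ hne)
  have hE := F.2.2.2.1 (C.backHom g).range (C.back_sq hs)
  have hQ := (C.card_back hJ hs hne).2 hH
  rw [C.card_split hJ hs] at hQ
  nlinarith

/-- the natural case, both members over the vector 5 -/
theorem Ctx.notJ_natural (F : FactsProp) (hm : C.m = 2) (hne : g * z * g⁻¹ ≠ z)
    (h5 : C.π (g * z * g⁻¹) = 5) (h5' : C.π (g⁻¹ * z * g) = 5) : False := by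
  classical
  obtain ⟨hN16, hfix⟩ := F.2.2.2.2.2.2.2.1.1 (C.nbSet g) (C.nb_sub hJ hs) (h5 ▸ C.nb_mem hJ hs)
    (fun a ha n hn => by
      have := C.nb_inv hJ hne (OkW.single (stabN_pts a ha).1)
        (by rw [h5, hm, wM_two_single]; exact (stabN_pts a ha).2) n hn
      rwa [hm, wM_two_single] at this)
    (fun n hn k hk => hm ▸ C.nb_iso hJ hne n hn k hk)
  set E := (C.backHom g).range with hE
  have hsq := C.back_sq (g := g) hs
  have hfix5 : ∀ e ∈ E, Matrix.mulVec (matOf e) (U62Recog47.vec 5) = U62Recog47.vec 5 := by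
    rintro _ ⟨⟨q, hq⟩, rfl⟩
    obtain ⟨hq0, hqJ, -⟩ := C.mem_back.1 hq
    obtain ⟨w, hw, e⟩ := C.exists_word ⟨q, hq0⟩
    have hc : q * (g⁻¹ * z * g) * q⁻¹ = g⁻¹ * z * g := by
      calc q * (g⁻¹ * z * g) * q⁻¹ = g⁻¹ * (g * q * g⁻¹ * z) * (g * q * g⁻¹)⁻¹ * g := by group
        _ = _ := by rw [C.comm_z hqJ]; group
    have hπ := C.π_conj hq0 hw e hs
    rw [hc, h5', hm, wM_two] at hπ
    show Matrix.mulVec (matOf (C.φ ⟨q, hq0⟩)) _ = _
    rw [← e, wS_vec hw, ← hπ]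
  have hinv : ∀ a ∈ stabN, ∀ e ∈ E, tC a * e * tC a ∈ E := by
    rintro a ha _ ⟨⟨q, hq⟩, rfl⟩
    obtain ⟨hap, ha5⟩ := stabN_pts a ha
    obtain ⟨hq0, hqJ, hqx⟩ := C.mem_back.1 hq
    obtain ⟨h, hh, hhx, hφ⟩ := C.move hs hs (by rw [h5']; norm_num) (OkW.single hap)
      (by rw [h5', hm, wM_two_single]; exact ha5)
    have hhx' : h * (g⁻¹ * z * g) = g⁻¹ * z * g * h := mul_inv_eq_iff_eq_mul.1 hhx
    have hk : g * h * g⁻¹ ∈ Cen z := mem_cen.2 (by
      calc g * h * g⁻¹ * z = g * (h * (g⁻¹ * z * g)) * g⁻¹ := by group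
        _ = _ := by rw [hhx']; group)
    have hkx : Commute (g * h * g⁻¹) (g * z * g⁻¹) := by
      show _ = _
      calc g * h * g⁻¹ * (g * z * g⁻¹) = g * (h * z) * g⁻¹ := by group
        _ = _ := by rw [mem_cen.1 (C.H0_le hh)]; group
    refine ⟨⟨h * q * h⁻¹, C.mem_back.2 ⟨mul_mem (mul_mem hh hq0) (inv_mem hh), ?_, ?_⟩⟩, ?_⟩
    · rw [show g * (h * q * h⁻¹) * g⁻¹ = g * h * g⁻¹ * (g * q * g⁻¹) * (g * h * g⁻¹)⁻¹ by group]
      exact C.J_conj _ hk _ hqJ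
    · rw [show g * (h * q * h⁻¹) * g⁻¹ = g * h * g⁻¹ * (g * q * g⁻¹) * (g * h * g⁻¹)⁻¹ by group]
      exact (hkx.mul_left hqx).mul_left hkx.inv_left
    · show C.φ (⟨h, hh⟩ * ⟨q, hq0⟩ * ⟨h, hh⟩⁻¹) = _
      rw [map_mul, map_mul, map_inv, hφ, wS_single, inv_eq_of_mul_eq_one_right (tC_sq hap)]
      rfl
  obtain ⟨hE8, h5E⟩ := F.2.2.2.2.2.2.1 E hsq hfix5 hinv
  have hQ := (C.card_back hJ hs hne).1
  rw [C.card_split hJ hs] at hQ
  have hN8 : 8 ≤ (C.nbSet g).card := by nlinarith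
  have hne' : E ≠ ⊥ := fun e => by
    rw [show (C.backHom g).range = ⊥ from e, Subgroup.card_bot] at hQ; omega
  obtain ⟨⟨q, hq⟩, hqφ⟩ := h5E hne'
  obtain ⟨hq0, hqJ, hqx⟩ := C.mem_back.1 hq
  have hqφ' : C.φ ⟨q, hq0⟩ = tC 5 := hqφ
  have ht5 : ∀ w, OkW w → wS w = tC 5 → ((List.range 256).filter fun n => wM 2 w n == n).length = 64 := by
    intro w hw e
    rw [← count_five]
    congr 1
    refine List.filter_congr fun n hn => ?_
    rw [wM_two, wM_two, wN_congr hw (OkW.single (by decide)) (e.trans (wS_single 5).symm) (List.mem_range.1 hn)]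
  have hu : C.π (g * q * g⁻¹) ∈ C.nbSet g := by
    refine hfix hN8 _ (C.π_lt _ hqJ) ?_ fun a ha => ?_
    · rw [← hm, ← h5]; exact (C.commute_iff hJ hqJ).1 hqx.symm
    · obtain ⟨hap, ha5⟩ := stabN_pts a ha
      obtain ⟨h, hh, hhx, hφ⟩ := C.move hJ hJ (by rw [h5]; norm_num) (OkW.single hap)
        (by rw [h5, hm, wM_two_single]; exact ha5)
      have hhx' : Commute h (g * z * g⁻¹) := mul_inv_eq_iff_eq_mul.1 hhx
      have hk := cen_conj hhx'.eq
      set k := g⁻¹ * h * g with hkdef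
      have hp' : g * (k * q * k⁻¹) * g⁻¹ = h * (g * q * g⁻¹) * h⁻¹ := by rw [hkdef]; group
      have hq' : k * q * k⁻¹ ∈ C.back g := C.mem_back.2 ⟨C.H0_conj k hk q hq0,
        hp' ▸ C.J_conj h (C.H0_le hh) _ hqJ, hp' ▸ (hhx'.mul_left hqx).mul_left hhx'.inv_left⟩
      obtain ⟨w, hw, hwe⟩ := C.exists_word ⟨k * q * k⁻¹, C.H0_conj k hk q hq0⟩
      have hcnt : ((List.range 256).filter fun n => wM 2 w n == n).length = 64 := by
        have h1 := C.fix_conj hk q hq0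
        rw [C.fix_count hq0 (OkW.single (by decide)) ((wS_single 5).trans hqφ'.symm),
          C.fix_count (C.H0_conj k hk q hq0) hw hwe, hm, count_five] at h1
        omega
      have hwE : wS w ∈ E := ⟨⟨_, hq'⟩, hwe.symm⟩
      have hwne : wS w ≠ 1 := fun e => by
        have : ((List.range 256).filter fun n => wM 2 w n == n).length = 256 := by
          rw [← count_nil]
          congr 1
          refine List.filter_congr fun n hn => ?_
          rw [wM_two, wM_two, wN_congr hw OkW.nil (e.trans wS_nil.symm) (List.mem_range.1 hn)]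
        omega
      have hw5 : wS w = tC 5 := by
        rcases F.2.1 w hw (hsq _ hwE) hwne with ⟨b, hb, e⟩ | ⟨h16, -⟩
        · by_contra hb5
          obtain ⟨v, hv, hnc⟩ := stab_moves hb fun e' => hb5 (e' ▸ e)
          have hcl : ∀ v : List Nat, (∀ a ∈ v, a ∈ stabN) → ∀ e ∈ E, wS v * e * (wS v)⁻¹ ∈ E := by
            intro v
            induction v with
            | nil => intro _ e he; simpa [wS_nil] using he
            | cons c v ih =>
              intro hv e he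
              have hc := hv c List.mem_cons_self
              rw [wS_cons, mul_inv_rev, inv_eq_of_mul_eq_one_right (tC_sq (stabN_pts c hc).1),
                show tC c * wS v * e * ((wS v)⁻¹ * tC c) = tC c * (wS v * e * (wS v)⁻¹) * tC c by group]
              exact hinv c hc _ (ih (fun a ha => hv a (List.mem_cons_of_mem _ ha)) e he)
          have hbE : tC b ∈ E := e ▸ hwE
          have hcE := hcl v hv _ hbE
          refine hnc ?_
          have := hsq _ (mul_mem hbE hcE)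
          have i1 := inv_eq_of_mul_eq_one_right (hsq _ hbE)
          have i2 := inv_eq_of_mul_eq_one_right (hsq _ hcE)
          have i3 := inv_eq_of_mul_eq_one_right this
          rw [mul_inv_rev, i1, i2] at i3
          exact i3.symm
        · simp only [wM_two] at hcnt
          omega
      have hqq : k * q * k⁻¹ * q ∈ C.J := by
        refine (C.φ_ker ⟨_, mul_mem (C.H0_conj k hk q hq0) hq0⟩).1 ?_
        show C.φ (⟨k * q * k⁻¹, C.H0_conj k hk q hq0⟩ * ⟨q, hq0⟩) = 1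
        rw [map_mul, ← hwe, hw5, hqφ', tC_sq (by decide)]
      refine C.mem_nbSet.2 ⟨h * (g * q * g⁻¹) * h⁻¹ * (g * q * g⁻¹),
        ⟨mul_mem (C.J_conj h (C.H0_le hh) _ hqJ) hqJ,
          ((hhx'.mul_left hqx).mul_left hhx'.inv_left).mul_left hqx, ?_⟩, ?_⟩
      · rw [show g⁻¹ * (h * (g * q * g⁻¹) * h⁻¹ * (g * q * g⁻¹)) * g = k * q * k⁻¹ * q by rw [hkdef]; group]
        exact hqq
      · rw [C.π_mul _ (C.J_conj h (C.H0_le hh) _ hqJ) _ hqJ, C.π_conj hh (OkW.single hap) hφ.symm hqJ, hm,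
          wM_two_single]
  obtain ⟨n, hn, e⟩ := C.mem_nbSet.1 hu
  have hqJ0 : q ∈ C.J := by
    have : C.InN g (g * q * g⁻¹) := by
      rcases (C.π_eq_iff hn.1 hqJ).1 e with e | e <;> rw [e]
      · exact hn
      · exact C.inN_mul hn (C.inN_z hJ hs)
    simpa [mul_assoc] using this.2.2
  have h1 : wS [] = tC 5 := by rw [wS_nil, ← hqφ', (C.φ_ker _).2 hqJ0]
  have := ht5 [] OkW.nil h1
  rw [count_nil] at this
  omega

omit hJ hs in
/-- no conjugate of `z` other than `z` lies in `J` -/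
theorem Ctx.notJ (F : FactsProp) (hH : C.m < 2 → C.H0 = Cen z) : ∀ x ∈ cls z, x ∈ C.J → x = z := by
  rintro _ ⟨g, rfl⟩ hJ
  by_contra hne
  have hs := C.star_J F hJ hne
  by_cases hm : C.m < 2
  · exact C.notJ_six hJ hs F hm (hH hm) hne
  have hm2 : C.m = 2 := by have := C.hm; omega
  obtain ⟨h0, hq⟩ := C.cls_code ⟨g, rfl⟩ hJ hne
  have hne' : g⁻¹ * z * g ≠ z := fun e => hne (by
    calc g * z * g⁻¹ = g * (g⁻¹ * z * g) * g⁻¹ := by rw [e]
      _ = z := by group)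
  obtain ⟨h0', hq'⟩ := C.cls_code ⟨g⁻¹, by group⟩ hs hne'
  obtain ⟨a₀, ha₀, hπ⟩ := C.π_surj 5 (by norm_num)
  have key : ∀ a ∈ C.J, C.π a ≠ 0 → qB C.m (C.π a) = false → ∃ h ∈ C.H0, h * a₀ * h⁻¹ = a := by
    intro a ha h0 hq
    rw [hm2] at hq
    obtain ⟨w, hw, e⟩ := F.1.1 _ (C.π_lt a ha) h0 hq
    obtain ⟨h, hh, e', -⟩ := C.move ha₀ ha h0 hw (by rw [hπ, hm2, wM_two, e])
    exact ⟨h, hh, e'⟩
  obtain ⟨p, hp, ep⟩ := key _ hJ h0 hq
  obtain ⟨r, hr, er⟩ := key _ hs h0' hq'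
  have e1 : p⁻¹ * g * r * z * (p⁻¹ * g * r)⁻¹ = a₀ := by
    calc p⁻¹ * g * r * z * (p⁻¹ * g * r)⁻¹ = p⁻¹ * g * (r * z) * r⁻¹ * g⁻¹ * p := by group
      _ = p⁻¹ * g * (z * r) * r⁻¹ * g⁻¹ * p := by rw [mem_cen.1 (C.H0_le hr)]
      _ = p⁻¹ * (g * z * g⁻¹) * p := by group
      _ = _ := by rw [← ep]; group
  have e2 : (p⁻¹ * g * r)⁻¹ * z * (p⁻¹ * g * r) = a₀ := by
    calc (p⁻¹ * g * r)⁻¹ * z * (p⁻¹ * g * r) = r⁻¹ * g⁻¹ * (p * z) * p⁻¹ * g * r := by group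
      _ = r⁻¹ * g⁻¹ * (z * p) * p⁻¹ * g * r := by rw [mem_cen.1 (C.H0_le hp)]
      _ = r⁻¹ * (g⁻¹ * z * g) * r := by group
      _ = _ := by rw [← er]; group
  refine C.notJ_natural (g := p⁻¹ * g * r) (e1 ▸ ha₀) (e2 ▸ ha₀) F hm2 ?_ (e1 ▸ hπ) (e2 ▸ hπ)
  rw [e1]
  intro e
  rw [e, C.π_z] at hπ
  exact absurd hπ (by norm_num)

end Cfsg.Agent.Lib.U62Cent47
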