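import Cfsg.Agent.Lib.U62Cent47.NotJ
import Cfsg.Agent.Lib.Extraspecial.PlusCount

/-!
Fusion with a six-dimensional constituent: `z` commutes with no other conjugate.

Owner: helper47.
-/

set_option autoImplicit false
set_option maxRecDepth 20000

open scoped commutatorElement

namespace Cfsg.Agent.Lib.U62Cent47

open Cfsg.Agent.Lib.Extraspecial

universe u

variable {G : Type u} [Group G] {z : G} (C : Ctx z)

theorem plane_q : ∀ m < 2, qB m 192 = true := by decide +kernel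

theorem plane_fix (w : List Nat) (m : Nat) (hm : m < 2) : wM m w 192 = 192 := by
  rw [wM_six hm w 192 (by norm_num)]
  have h : w6 w 0 = 0 := by
    induction w with
    | nil => rfl
    | cons a w ih =>
      show tS a (w6 w 0) = 0
      rw [ih]
      have := tS_xor a 0 0
      rw [Nat.xor_self, Nat.xor_self] at this
      exact this
  rw [show 192 &&& 63 = 0 from rfl, h]
  rfl

/-- `J` with its central involution -/
theorem Ctx.esData : ESData 2 (⟨z, C.z_mem⟩ : ↥C.J) := by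
  have hz2 : (⟨z, C.z_mem⟩ : ↥C.J) ^ 2 = 1 := Subtype.ext (by simpa [pow_two] using C.z_mul_self)
  refine ⟨fun e => C.z_ne_one (congrArg Subtype.val e), hz2, fun w => ⟨fun hw => ?_, fun hw => ?_⟩,
    fun a b => ?_, fun a => ?_⟩
  · by_cases h0 : C.π w.1 = 0
    · rcases (C.π_eq_zero w.1 w.2).1 h0 with e | e
      · rw [show w = 1 from Subtype.ext e]; exact one_mem _
      · rw [show w = ⟨z, C.z_mem⟩ from Subtype.ext e]; exact Subgroup.mem_zpowers _
    · obtain ⟨j, hj, e⟩ := C.exists_flip w.2 h0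
      have h : j * w.1 = w.1 * j := congrArg Subtype.val (Subgroup.mem_center_iff.1 hw ⟨j, hj⟩)
      rw [h, mul_inv_cancel_right] at e
      exact absurd (mul_eq_right.1 e.symm) C.z_ne_one
  · obtain ⟨k, rfl⟩ := hw
    exact Subgroup.zpow_mem _ (Subgroup.mem_center_iff.2 fun v => Subtype.ext (C.comm_z v.2)) k
  · have h := C.comm a.1 a.2 b.1 b.2
    have e : ((⁅a, b⁆ : ↥C.J) : G) = ⁅a.1, b.1⁆ := by
      simp only [commutatorElement_def, Subgroup.coe_mul, Subgroup.coe_inv]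
    split at h
    · rw [show ⁅a, b⁆ = ⟨z, C.z_mem⟩ from Subtype.ext (e.trans h)]; exact Subgroup.mem_zpowers _
    · rw [show ⁅a, b⁆ = 1 from Subtype.ext (e.trans h)]; exact one_mem _
  · have h := C.sq a.1 a.2
    rw [pow_two]
    split at h
    · rw [show a * a = ⟨z, C.z_mem⟩ from Subtype.ext h]; exact Subgroup.mem_zpowers _
    · rw [show a * a = 1 from Subtype.ext h]; exact one_mem _

variable [Finite G]

/-- the centraliser in `J` of an involution of `H0` outside it has order at least 64 -/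
theorem Ctx.card_centr_six (F : FactsProp) (hm : C.m < 2) {x : G} (hx : x ∈ C.H0) (hJ : x ∉ C.J)
    (hs : x * x = 1) : 64 ≤ Nat.card ↥(C.J ⊓ Cen x) := by
  obtain ⟨w, hw, hwe⟩ := C.exists_word ⟨x, hx⟩
  have hsq : wS w * wS w = 1 := by
    rw [hwe, ← map_mul, show (⟨x, hx⟩ : ↥C.H0) * ⟨x, hx⟩ = 1 from Subtype.ext hs, map_one]
  have hne : wS w ≠ 1 := fun e => hJ ((C.φ_ker ⟨x, hx⟩).1 (hwe.symm.trans e))
  set S : Set G := {a | a ∈ C.J ∧ C.π (x * a * x⁻¹) = C.π a}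
  set T : Set G := (↑(C.J ⊓ Cen x) : Set G) with hT
  have hS : S.ncard = 128 := by
    rw [C.fix_count hx hw hwe, (F.2.2.1.1 w hw hsq hne C.m C.hm).2 hm]
  have key : ∀ a ∈ S, a ∉ T → x * a * x⁻¹ = a * z := by
    intro a ha hna
    rcases (C.π_eq_iff ha.1 (C.J_conj x (C.H0_le hx) a ha.1)).1 ha.2.symm with e | e
    · exact absurd ⟨ha.1, mem_cen.2 (mul_inv_eq_iff_eq_mul.1 e).symm⟩ hna
    · exact e
  have hle : S.ncard ≤ 2 * T.ncard := by
    by_cases hsub : S ⊆ T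
    · exact (Set.ncard_le_ncard hsub).trans (by omega)
    · obtain ⟨a₀, ha₀, hn₀⟩ := Set.not_subset.1 hsub
      have hcov : S ⊆ T ∪ (a₀ * ·) '' T := by
        intro a ha
        by_cases hna : a ∈ T
        · exact Or.inl hna
        refine Or.inr ⟨a₀⁻¹ * a, Subgroup.mem_inf.2 ⟨(mul_mem (inv_mem ha₀.1) ha.1 : a₀⁻¹ * a ∈ C.J), mem_cen.2 (mul_inv_eq_iff_eq_mul.1 ?_).symm⟩,
          mul_inv_cancel_left _ _⟩
        rw [show x * (a₀⁻¹ * a) * x⁻¹ = (x * a₀ * x⁻¹)⁻¹ * (x * a * x⁻¹) by group, key a₀ ha₀ hn₀,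
          key a ha hna, mul_inv_rev, C.z_inv, ← C.comm_z (inv_mem ha₀.1), mul_assoc, ← mul_assoc z,
          ← C.comm_z ha.1, mul_assoc a, C.z_mul_self, mul_one]
      refine (Set.ncard_le_ncard hcov).trans ((Set.ncard_union_le _ _).trans ?_)
      have := Set.ncard_image_le (f := fun b : G => a₀ * b) (s := T)
      omega
  rw [hS, hT] at hle
  rw [← SetLike.coe_sort_coe, Nat.card_coe_set_eq]
  omega

/-- some element of `J` centralising it squares to `z` -/
theorem Ctx.exists_sqrt (F : FactsProp) (hm : C.m < 2) {x : G} (hx : x ∈ C.H0) (hJ : x ∉ C.J)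
    (hs : x * x = 1) : ∃ a ∈ C.J, Commute a x ∧ a * a = z := by
  by_contra hcon
  push Not at hcon
  set B := (C.J ⊓ Cen x).subgroupOf C.J with hB
  have hsq : ∀ a ∈ B, a * a = 1 := by
    intro a ha
    obtain ⟨-, hc⟩ := Subgroup.mem_inf.1 (Subgroup.mem_subgroupOf.1 ha)
    have h := C.sq a.1 a.2
    split at h
    · exact absurd h (hcon a.1 a.2 (mem_cen.1 hc))
    · exact Subtype.ext h
  have hzB : (⟨z, C.z_mem⟩ : ↥C.J) ∈ B :=
    Subgroup.mem_subgroupOf.2 ⟨C.z_mem, mem_cen.2 (mem_cen.1 (C.H0_le hx)).symm⟩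
  have h := sq_card_le_of_comm C.esData B hzB fun a ha b hb => by
    have i1 := inv_eq_of_mul_eq_one_right (hsq a ha)
    have i2 := inv_eq_of_mul_eq_one_right (hsq b hb)
    have i3 := inv_eq_of_mul_eq_one_right (hsq _ (mul_mem ha hb))
    rw [mul_inv_rev, i1, i2] at i3
    exact i3.symm
  rw [hB, Nat.card_congr (Subgroup.subgroupOfEquivOfLe inf_le_left).toEquiv, C.card_J] at h
  have := C.card_centr_six F hm hx hJ hs
  nlinarith

/-- with a six-dimensional constituent `z` is isolated -/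
theorem Ctx.isolated_six (F : FactsProp) (hm : C.m < 2) (hH : C.H0 = Cen z) : Isolated z := by
  rintro _ ⟨g, rfl⟩ hc
  by_contra hne
  have hnj := C.notJ F fun _ => hH
  have hx : g * z * g⁻¹ ∈ C.H0 := hH ▸ mem_cen.2 hc.eq
  have hxJ : g * z * g⁻¹ ∉ C.J := fun h => hne (hnj _ ⟨g, rfl⟩ h)
  have hs0 : g⁻¹ * z * g ∈ C.H0 := hH ▸ star_mem (mem_cen.2 hc.eq)
  have hsne : g⁻¹ * z * g ≠ z := fun e => hne (by
    calc g * z * g⁻¹ = g * (g⁻¹ * z * g) * g⁻¹ := by rw [e]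
      _ = z := by group)
  have hsJ : g⁻¹ * z * g ∉ C.J := fun h => hsne (hnj _ ⟨g⁻¹, by group⟩ h)
  have hss := (C.cls_sq (x := g⁻¹ * z * g) ⟨g⁻¹, by group⟩).1
  obtain ⟨d, hd, hπd⟩ := C.π_surj 192 (by norm_num)
  have fixd : ∀ h ∈ C.H0, h * d * h⁻¹ = d ∨ h * d * h⁻¹ = d * z := by
    intro h hh
    obtain ⟨w, hw, e⟩ := C.exists_word ⟨h, hh⟩
    refine (C.π_eq_iff hd (C.J_conj h (C.H0_le hh) d hd)).1 ?_
    rw [C.π_conj hh hw e hd, hπd, plane_fix w C.m hm]
  -- a square root of `x`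
  obtain ⟨a, ha, hac, haz⟩ := C.exists_sqrt F hm hs0 hsJ hss
  have hb : g * a * g⁻¹ ∈ C.H0 := hH ▸ mem_cen.2 (by
    calc g * a * g⁻¹ * z = g * (a * (g⁻¹ * z * g)) * g⁻¹ := by group
      _ = _ := by rw [hac.eq]; group)
  set b := g * a * g⁻¹ with hbdef
  have hbb : b * b = g * z * g⁻¹ := by rw [← haz, hbdef]; group
  have hxd : Commute (g * z * g⁻¹) d := by
    refine mul_inv_eq_iff_eq_mul.1 ?_
    rw [← hbb, show b * b * d * (b * b)⁻¹ = b * (b * d * b⁻¹) * b⁻¹ by group]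
    rcases fixd b hb with e | e <;> rw [e]
    · exact e
    · rw [show b * (d * z) * b⁻¹ = b * d * b⁻¹ * (b * z * b⁻¹) by group, e, mem_cen.1 (C.H0_le hb),
        mul_inv_cancel_right, mul_assoc, C.z_mul_self, mul_one]
  -- an element of order four
  set e := g⁻¹ * d * g with hedef
  have he : e ∈ C.H0 := hH ▸ cen_conj hxd.symm.eq
  have hee : e * e = g⁻¹ * z * g := by
    rw [hedef, show g⁻¹ * d * g * (g⁻¹ * d * g) = g⁻¹ * (d * d) * g by group, C.sq d hd, hπd,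
      plane_q C.m hm, if_pos rfl]
  have hord : orderOf (C.φ ⟨e, he⟩) = 4 := by
    have : Fact (Nat.Prime 2) := ⟨Nat.prime_two⟩
    refine orderOf_eq_prime_pow (p := 2) (n := 1) ?_ ?_
    · rw [pow_one, ← map_pow]
      intro h
      refine hsJ (hee ▸ ?_)
      have := (C.φ_ker _).1 h
      simpa [pow_two] using this
    · rw [show 2 ^ (1 + 1) = 2 * 2 by norm_num, pow_mul, ← map_pow, ← map_pow]
      refine (congrArg C.φ ?_).trans (map_one _)
      refine Subtype.ext ?_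
      simp only [Subgroup.coe_mul, OneMemClass.coe_one, pow_two, hee, hss]
  obtain ⟨w, hw, hwe⟩ := C.exists_word ⟨e, he⟩
  have hcnt := F.2.2.1.2 w hw (by rw [hwe]; exact hord) C.m hm
  have hsub : (↑(C.J ⊓ Cen (g⁻¹ * z * g)) : Set G) ⊆ {a | a ∈ C.J ∧ C.π (e * a * e⁻¹) = C.π a} := by
    intro c hc'
    obtain ⟨hcJ, hcx⟩ := Subgroup.mem_inf.1 hc'
    refine ⟨hcJ, ?_⟩
    have hk : g * c * g⁻¹ ∈ C.H0 := hH ▸ mem_cen.2 (by
      calc g * c * g⁻¹ * z = g * (c * (g⁻¹ * z * g)) * g⁻¹ := by group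
        _ = _ := by rw [mem_cen.1 hcx]; group)
    have hcomm : c * e * c⁻¹ * e⁻¹ ∈ C.J := by
      rw [show c * e * c⁻¹ * e⁻¹ = c * (e * c⁻¹ * e⁻¹) by group]
      exact mul_mem hcJ (C.J_conj e (C.H0_le he) _ (inv_mem hcJ))
    have e1 : c * e * c⁻¹ = g⁻¹ * (g * c * g⁻¹ * d * (g * c * g⁻¹)⁻¹) * g := by rw [hedef]; group
    rcases fixd _ hk with e2 | e2 <;> rw [e2] at e1
    · rw [← hedef] at e1
      rw [show e * c * e⁻¹ = c by rw [← mul_inv_eq_iff_eq_mul.1 e1, mul_inv_cancel_right]]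
    · exfalso
      refine hsJ ?_
      rw [e1, show g⁻¹ * (d * z) * g * e⁻¹ = e * (g⁻¹ * z * g) * e⁻¹ by rw [hedef]; group, ← hee,
        show e * (e * e) * e⁻¹ = e * e by group, hee] at hcomm
      exact hcomm
  have h1 := Set.ncard_le_ncard hsub
  rw [← Nat.card_coe_set_eq, SetLike.coe_sort_coe, C.fix_count he hw hwe, hcnt] at h1
  have := C.card_centr_six F hm hs0 hsJ hss
  omega

end Cfsg.Agent.Lib.U62Cent47
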