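import Cfsg.Agent.Lib.U62Cent47.Linear

/-!
A faithful module of order 256 for SU(4, 2): the diagonal subgroup of order 27 splits it into thirteen
isotypic parts and its fixed points; the sizes of these leave two possibilities.

Owner: helper47.
-/

set_option autoImplicit false
set_option maxRecDepth 20000

namespace Cfsg.Agent.Lib.U62Cent47

/-- a faithful module of order 256 with an invariant non-degenerate quadratic form -/
structure Rep (V : Type*) [AddCommGroup V] where
  two : ∀ v : V, v + v = 0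
  card : Nat.card V = 256
  act : SU4 → V → V
  act_one : ∀ v, act 1 v = v
  act_mul : ∀ A B v, act (A * B) v = act A (act B v)
  act_add : ∀ A u v, act A (u + v) = act A u + act A v
  faithful : ∀ A, (∀ v, act A v = v) → A = 1
  q : V → ZMod 2
  q_act : ∀ A v, q (act A v) = q v
  polar : ∀ u v w, q (u + v + w) + q (u + v) + q (u + w) + q (v + w) + q u + q v + q w = 0
  nondeg : ∀ u, (∀ v, q (u + v) + q u + q v = 0) → u = 0

variable {V : Type*} [AddCommGroup V] (R : Rep V)

/-- the action of a word -/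
noncomputable def Rep.wa (w : List Nat) (v : V) : V := R.act (wS w) v

theorem Rep.act_zero (A : SU4) : R.act A 0 = 0 := by
  have h := R.act_add A 0 0
  rw [add_zero] at h
  exact left_eq_add.1 h

theorem Rep.wa_append (x y : List Nat) (v : V) : R.wa (x ++ y) v = R.wa x (R.wa y v) := by
  rw [Rep.wa, wS_append, R.act_mul]; rfl

theorem Rep.wa_nil (v : V) : R.wa [] v = v := R.act_one v

theorem Rep.wa_add (w : List Nat) (u v : V) : R.wa w (u + v) = R.wa w u + R.wa w v := R.act_add _ _ _

theorem Rep.wa_zero (w : List Nat) : R.wa w 0 = 0 := R.act_zero _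

theorem Rep.wa_eqW {x y : List Nat} (h : eqW x y = true) (v : V) : R.wa x v = R.wa y v := by
  rw [Rep.wa, wS_of_eqW h]; rfl

theorem Rep.wa_inv {x y : List Nat} (h : eqW (y ++ x) [] = true) (v : V) : R.wa y (R.wa x v) = v := by
  rw [← R.wa_append, R.wa_eqW h, R.wa_nil]

/-- the word of a diagonal element -/
def aW (t : Nat) : List Nat := aL.getD t []

/-- addition of exponents -/
def addT (s t : Nat) : Nat :=
  9 * ((s / 9 + t / 9) % 3) + 3 * ((s / 3 % 3 + t / 3 % 3) % 3) + (s % 3 + t % 3) % 3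

theorem add_ok : (List.range 27).all (fun s => (List.range 27).all fun t =>
    eqW (aW s ++ aW t) (aW (addT s t)) && decide (addT s t < 27)) = true := by decide +kernel

/-- the sum of the images under listed diagonal elements -/
noncomputable def Rep.sumA (l : List Nat) (v : V) : V := (l.map fun t => R.wa (aW t) v).sum

/-- the parities of the multiplicities, as a number -/
def pMask (l : List Nat) : Nat := l.foldr (fun t m => 2 ^ t ^^^ m) 0

/-- equal parities of multiplicities -/
def parEq (l l' : List Nat) : Bool :=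
  l.all (fun t => Nat.blt t 27) && l'.all (fun t => Nat.blt t 27) && pMask l == pMask l'

theorem pMask_bit (l : List Nat) (t : Nat) : (pMask l).testBit t = decide (l.count t % 2 = 1) := by
  induction l with
  | nil => simp [pMask]
  | cons a l ih =>
    show (2 ^ a ^^^ pMask l).testBit t = _
    rw [Nat.testBit_xor, Nat.testBit_two_pow, ih]
    by_cases h : a = t
    · subst h
      rw [List.count_cons_self]
      rcases Nat.mod_two_eq_zero_or_one (l.count a) with e | e <;> simp [Nat.add_mod, e]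
    · rw [List.count_cons_of_ne h]; simp [h]

theorem parEq_iff {l l' : List Nat} (h : parEq l l' = true) :
    (∀ t ∈ l, t < 27) ∧ (∀ t ∈ l', t < 27) ∧ ∀ t, l.count t % 2 = l'.count t % 2 := by
  simp only [parEq, Bool.and_eq_true, List.all_eq_true, beq_iff_eq, Nat.blt_eq] at h
  refine ⟨h.1.1, h.1.2, fun t => ?_⟩
  have e := congrArg (fun m => Nat.testBit m t) h.2
  simp only [pMask_bit, decide_eq_decide] at e
  omega

include R in
theorem Rep.add_cancel (u v : V) (h : u + v = 0) : u = v := by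
  have := congrArg (· + v) h
  simpa [add_assoc, R.two] using this

include R in
theorem Rep.sum_pair (l : List Nat) (hl : ∀ t ∈ l, t < 27) (f : Nat → V) :
    (l.map f).sum = ∑ t ∈ Finset.range 27, if l.count t % 2 = 1 then f t else 0 := by
  induction l with
  | nil => simp
  | cons a l ih =>
    rw [List.map_cons, List.sum_cons, ih fun t ht => hl t (List.mem_cons_of_mem _ ht),
      ← Finset.add_sum_erase _ _ (Finset.mem_range.2 (hl a List.mem_cons_self)),
      ← Finset.add_sum_erase _ _ (Finset.mem_range.2 (hl a List.mem_cons_self)), ← add_assoc]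
    congr 1
    · rw [List.count_cons_self]
      rcases Nat.mod_two_eq_zero_or_one (l.count a) with h | h
      · rw [if_neg (by omega), if_pos (by omega), add_zero]
      · rw [if_pos h, if_neg (by omega), R.two]
    · refine Finset.sum_congr rfl fun t ht => ?_
      rw [List.count_cons_of_ne (Finset.ne_of_mem_erase ht).symm]

theorem Rep.sumA_congr {l l' : List Nat} (h : parEq l l' = true) (v : V) : R.sumA l v = R.sumA l' v := by
  obtain ⟨h1, h2, h3⟩ := parEq_iff h
  rw [Rep.sumA, Rep.sumA, R.sum_pair l h1, R.sum_pair l' h2]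
  refine Finset.sum_congr rfl fun t _ => ?_
  have := h3 t
  rcases Nat.mod_two_eq_zero_or_one (l.count t) with h1 | h1
  · rw [if_neg (by omega), if_neg (by omega)]
  · rw [if_pos h1, if_pos (by omega)]

theorem Rep.wa_sum (w : List Nat) (l : List V) : R.wa w l.sum = (l.map (R.wa w)).sum := by
  induction l with
  | nil => simp [R.wa_zero]
  | cons a l ih => simp [R.wa_add, ih]

theorem Rep.sumA_zero (l : List Nat) : R.sumA l 0 = 0 := by
  induction l with
  | nil => rfl
  | cons a l ih => show R.wa _ 0 + R.sumA l 0 = 0; rw [R.wa_zero, ih, add_zero]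

theorem Rep.sumA_add (l : List Nat) (u v : V) : R.sumA l (u + v) = R.sumA l u + R.sumA l v := by
  induction l with
  | nil => simp [Rep.sumA]
  | cons a l ih =>
    show R.wa _ (u + v) + R.sumA l (u + v) = R.wa _ u + R.sumA l u + (R.wa _ v + R.sumA l v)
    rw [ih, R.wa_add]; abel

theorem Rep.sumA_append (l l' : List Nat) (v : V) : R.sumA (l ++ l') v = R.sumA l v + R.sumA l' v := by
  simp [Rep.sumA]

theorem Rep.wa_aW {s t : Nat} (hs : s < 27) (ht : t < 27) (v : V) :
    R.wa (aW s) (R.wa (aW t) v) = R.wa (aW (addT s t)) v := by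
  have h := List.all_eq_true.1 (List.all_eq_true.1 add_ok s (List.mem_range.2 hs)) t (List.mem_range.2 ht)
  rw [Bool.and_eq_true] at h
  rw [← R.wa_append, R.wa_eqW h.1]

/-- the product of two lists -/
def mulL (l l' : List Nat) : List Nat := l.flatMap fun s => l'.map (addT s)

theorem Rep.sumA_comp {l l' : List Nat} (hl : ∀ t ∈ l, t < 27) (hl' : ∀ t ∈ l', t < 27) (v : V) :
    R.sumA l (R.sumA l' v) = R.sumA (mulL l l') v := by
  induction l with
  | nil => rfl
  | cons s l ih =>
    show R.wa (aW s) (R.sumA l' v) + R.sumA l (R.sumA l' v) = _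
    rw [ih fun t ht => hl t (List.mem_cons_of_mem _ ht),
      show mulL (s :: l) l' = l'.map (addT s) ++ mulL l l' from rfl, R.sumA_append]
    congr 1
    rw [Rep.sumA, Rep.sumA, R.wa_sum, List.map_map, List.map_map]
    congr 1
    refine List.map_congr_left fun t ht => ?_
    exact R.wa_aW (hl s List.mem_cons_self) (hl' t ht) v

/-- the elements of a maximal subgroup -/
def kl (k : Nat) : List Nat := kerL.getD k []

/-- the coefficients of the projection to a part -/
def prj (k : Nat) : List Nat := kl k ++ List.range 27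

theorem prj_lt : ∀ k < 13, ∀ t ∈ prj k, t < 27 := by decide +kernel

theorem range_lt : ∀ t ∈ List.range 27, t < 27 := fun _ => List.mem_range.1

/-- the projection to the part of a maximal subgroup -/
noncomputable def Rep.P (k : Fin 13) (v : V) : V := R.sumA (prj k) v

/-- the projection to the fixed points -/
noncomputable def Rep.P0 (v : V) : V := R.sumA (List.range 27) v

theorem proj_ok : (List.range 13).all (fun k =>
    parEq (mulL (List.range 27) (prj k)) [] && parEq (mulL (prj k) (List.range 27)) [] &&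
      (List.range 13).all (fun j => parEq (mulL (prj j) (prj k)) (bif j == k then prj k else [])) &&
      (kl k).all (fun t => parEq (mulL [t] (prj k)) (prj k)) &&
      (List.range 27).all (fun b => (kl k).contains b ||
        parEq (mulL [0, b, addT b b] (prj k)) [])) = true := by
  decide +kernel

theorem proj_zero_ok : parEq (mulL (List.range 27) (List.range 27)) (List.range 27) = true ∧
    parEq ((List.range 27) ++ (List.range 13).flatMap prj) [0] = true ∧
    (List.range 27).all (fun t => parEq (mulL [t] (List.range 27)) (List.range 27)) = true := by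
  decide +kernel

theorem aW_zero : aW 0 = [] := by decide +kernel

theorem Rep.sumA_single (t : Nat) (v : V) : R.sumA [t] v = R.wa (aW t) v := by simp [Rep.sumA]

theorem Rep.sumA_nil (v : V) : R.sumA [] v = 0 := rfl

theorem proj_facts {k : Nat} (hk : k < 13) :
    parEq (mulL (List.range 27) (prj k)) [] = true ∧ parEq (mulL (prj k) (List.range 27)) [] = true ∧
      (∀ j < 13, parEq (mulL (prj j) (prj k)) (bif j == k then prj k else []) = true) ∧
      (∀ t ∈ kl k, parEq (mulL [t] (prj k)) (prj k) = true) ∧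
      ∀ b < 27, b ∉ kl k → parEq (mulL [0, b, addT b b] (prj k)) [] = true := by
  have h := List.all_eq_true.1 proj_ok k (List.mem_range.2 hk)
  simp only [Bool.and_eq_true, List.all_eq_true, List.mem_range, Bool.or_eq_true,
    List.contains_iff_mem] at h
  obtain ⟨⟨⟨⟨h1, h2⟩, h3⟩, h4⟩, h5⟩ := h
  exact ⟨h1, h2, h3, h4, fun b hb hn => (h5 b hb).resolve_left hn⟩

theorem Rep.P0_P (k : Fin 13) (v : V) : R.P0 (R.P k v) = 0 := by
  rw [Rep.P0, Rep.P, R.sumA_comp range_lt (prj_lt k k.2), R.sumA_congr (proj_facts k.2).1]; rfl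

theorem Rep.P_P0 (k : Fin 13) (v : V) : R.P k (R.P0 v) = 0 := by
  rw [Rep.P0, Rep.P, R.sumA_comp (prj_lt k k.2) range_lt, R.sumA_congr (proj_facts k.2).2.1]; rfl

theorem Rep.P0_P0 (v : V) : R.P0 (R.P0 v) = R.P0 v := by
  rw [Rep.P0, Rep.P0, R.sumA_comp range_lt range_lt, R.sumA_congr proj_zero_ok.1]

theorem Rep.P_P (j k : Fin 13) (v : V) : R.P j (R.P k v) = if j = k then R.P k v else 0 := by
  rw [Rep.P, Rep.P, R.sumA_comp (prj_lt j j.2) (prj_lt k k.2),
    R.sumA_congr ((proj_facts k.2).2.2.1 j j.2)]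
  by_cases h : j = k
  · subst h; simp
  · rw [if_neg h, show (j.1 == k.1) = false from beq_eq_false_iff_ne.2 fun e => h (Fin.ext e)]; rfl

theorem Rep.wa_P {k : Fin 13} {t : Nat} (ht : t ∈ kl k) (v : V) : R.wa (aW t) (R.P k v) = R.P k v := by
  have ht27 : t < 27 := prj_lt k k.2 t (List.mem_append_left _ ht)
  rw [← R.sumA_single, Rep.P, R.sumA_comp (by simpa using ht27) (prj_lt k k.2),
    R.sumA_congr ((proj_facts k.2).2.2.2.1 t ht)]

theorem Rep.wa_P0 {t : Nat} (ht : t < 27) (v : V) : R.wa (aW t) (R.P0 v) = R.P0 v := by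
  rw [← R.sumA_single, Rep.P0, R.sumA_comp (by simpa using ht) range_lt,
    R.sumA_congr (List.all_eq_true.1 proj_zero_ok.2.2 t (List.mem_range.2 ht))]

theorem Rep.orbit_sum {k : Fin 13} {b : Nat} (hb : b < 27) (hk : b ∉ kl k) (v : V) :
    R.P k v + R.wa (aW b) (R.P k v) + R.wa (aW (addT b b)) (R.P k v) = 0 := by
  have h2 : addT b b < 27 := by
    have h := List.all_eq_true.1 (List.all_eq_true.1 add_ok b (List.mem_range.2 hb)) b (List.mem_range.2 hb)
    simp only [Bool.and_eq_true, decide_eq_true_eq] at h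
    exact h.2
  have e := R.sumA_comp (l := [0, b, addT b b]) (by simp [hb, h2]) (prj_lt k k.2) v
  rw [R.sumA_congr ((proj_facts k.2).2.2.2.2 b hb hk), R.sumA_nil] at e
  simp only [Rep.sumA, List.map_cons, List.map_nil, List.sum_cons, List.sum_nil, add_zero, aW_zero,
    R.wa_nil] at e
  rw [add_assoc]
  exact e

theorem Rep.decomp (v : V) : R.P0 v + ∑ k : Fin 13, R.P k v = v := by
  have h := R.sumA_congr proj_zero_ok.2.1 v
  rw [R.sumA_append, R.sumA_single, aW_zero, R.wa_nil] at h
  refine Eq.trans ?_ h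
  refine congrArg (R.P0 v + ·) ?_
  have key : ∀ l : List Nat, R.sumA (l.flatMap prj) v = (l.map fun k => R.sumA (prj k) v).sum := by
    intro l
    induction l with
    | nil => rfl
    | cons a l ih => rw [List.flatMap_cons, R.sumA_append, ih, List.map_cons, List.sum_cons]
  rw [key]
  exact Fin.sum_univ_eq_sum_range (fun k => R.sumA (prj k) v) 13

/-- a part -/
def Rep.E (k : Fin 13) : Set V := {x | R.P k x = x}

/-- the fixed points -/
def Rep.E0 : Set V := {x | R.P0 x = x}

theorem Rep.P_mem (k : Fin 13) (v : V) : R.P k v ∈ R.E k := by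
  show R.P k (R.P k v) = _; rw [R.P_P, if_pos rfl]

theorem Rep.P_zero (k : Fin 13) : R.P k 0 = 0 := R.sumA_zero _

theorem Rep.P_sum (k : Fin 13) (v₀ : V) (f : Fin 13 → V) :
    R.P k (v₀ + ∑ j, f j) = R.P k v₀ + ∑ j, R.P k (f j) := by
  rw [Rep.P, R.sumA_add]
  congr 1
  have key : ∀ s : Finset (Fin 13), R.sumA (prj k) (∑ j ∈ s, f j) = ∑ j ∈ s, R.sumA (prj k) (f j) := by
    intro s
    induction s using Finset.induction with
    | empty => simp [R.sumA_zero]
    | insert a s ha ih => rw [Finset.sum_insert ha, Finset.sum_insert ha, R.sumA_add, ih]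
  exact key _

/-- the module is the product of its parts -/
noncomputable def Rep.parts : V ≃ ↥R.E0 × ((k : Fin 13) → ↥(R.E k)) where
  toFun v := (⟨R.P0 v, R.P0_P0 v⟩, fun k => ⟨R.P k v, R.P_mem k v⟩)
  invFun x := x.1.1 + ∑ k, (x.2 k).1
  left_inv v := R.decomp v
  right_inv x := by
    obtain ⟨⟨x₀, h₀⟩, f⟩ := x
    have hk : ∀ k, R.P k (x₀ + ∑ j, (f j).1) = (f k).1 := fun k => by
      rw [R.P_sum, show R.P k x₀ = 0 by rw [← show R.P0 x₀ = x₀ from h₀, R.P_P0], zero_add,
        Finset.sum_eq_single k (fun j _ hj => ?_) (by simp), (f k).2]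
      rw [← show R.P j (f j).1 = (f j).1 from (f j).2, R.P_P, if_neg hj.symm]
    refine Prod.ext (Subtype.ext ?_) (funext fun k => Subtype.ext (hk k))
    have h := R.decomp (x₀ + ∑ j, (f j).1)
    simp only [hk] at h
    exact add_right_cancel h

theorem Rep.card_parts : 256 = Nat.card R.E0 * ∏ k : Fin 13, Nat.card (R.E k) := by
  rw [← R.card, Nat.card_congr R.parts, Nat.card_prod, Nat.card_pi]

theorem exists_off : ∀ k : Fin 13, ∃ b < 27, b ∉ kl k := by decide +kernel

theorem add_lt : ∀ b < 27, addT b b < 27 := by decide +kernel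

theorem comm_ok : ∀ k : Fin 13, ∀ t < 27, parEq (mulL (prj k) [t]) (mulL [t] (prj k)) = true := by
  decide +kernel

theorem Rep.card_E [Finite V] (k : Fin 13) : Nat.card (R.E k) = 1 ∨ 4 ≤ Nat.card (R.E k) := by
  classical
  by_cases h : ∀ x ∈ R.E k, x = 0
  · left
    have e : R.E k = {0} := Set.ext fun x => ⟨h x, fun e => by
      rw [Set.mem_singleton_iff.1 e]; exact R.P_zero k⟩
    rw [e]; simp
  · right
    push Not at h
    obtain ⟨x, hx, hx0⟩ := h
    obtain ⟨b, hb, hbk⟩ := exists_off k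
    have hsq : ∀ y, R.wa (aW b) (R.wa (aW b) y) = R.wa (aW (addT b b)) y := fun y => R.wa_aW hb hb y
    have hsum := R.orbit_sum hb hbk x
    rw [show R.P k x = x from hx] at hsum
    have hm : ∀ t < 27, R.wa (aW t) x ∈ R.E k := fun t ht => by
      show R.P k (R.wa (aW t) x) = _
      rw [← R.sumA_single, Rep.P, R.sumA_comp (prj_lt k k.2) (by simpa using ht),
        R.sumA_congr (comm_ok k t ht), ← R.sumA_comp (by simpa using ht) (prj_lt k k.2)]
      rw [show R.sumA (prj k) x = x from hx]
    set y := R.wa (aW b) x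
    have h2 : addT b b < 27 := add_lt b hb
    have hz : R.wa (aW (addT b b)) x = x + y := (R.add_cancel _ _ hsum).symm
    have hy0 : y ≠ 0 := fun e => hx0 (by
      have : R.wa (aW (addT b b)) x = 0 := by rw [← hsq]; show R.wa _ y = 0; rw [e, R.wa_zero]
      rw [hz, e, add_zero] at this; exact this)
    have hxy : x ≠ y := fun e => hx0 (by
      have : R.wa (aW (addT b b)) x = x := by rw [← hsq]; show R.wa _ y = x; rw [← e]; exact e.symm
      rw [hz, ← e, R.two] at this; exact this.symm)
    have h4 : ({0, x, y, x + y} : Finset V).card = 4 := by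
      rw [Finset.card_insert_of_notMem, Finset.card_insert_of_notMem, Finset.card_insert_of_notMem,
        Finset.card_singleton] <;> simp [hx0, hy0, hxy, Ne.symm hx0, Ne.symm hy0]
      intro e; exact hxy (R.add_cancel _ _ e.symm)
    rw [← h4, ← Set.ncard_coe_finset]
    refine Set.ncard_le_ncard ?_ (Set.toFinite _)
    intro w hw
    simp only [Finset.coe_insert, Finset.coe_singleton, Set.mem_insert_iff, Set.mem_singleton_iff] at hw
    rcases hw with rfl | rfl | rfl | rfl
    exacts [R.P_zero k, hx, hm b hb, hz ▸ hm _ h2]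

theorem orb_ok : kOrb.all (fun o => decide (o.1 < 13) && decide (o.2.1 < 13) &&
    eqW (o.2.2.1 ++ o.2.2.2.1) [] && eqW (o.2.2.2.1 ++ o.2.2.1) [] &&
    (List.range 27).all (fun t => decide (o.2.2.2.2.getD t 0 < 27) &&
      eqW (o.2.2.1 ++ aW t) (aW (o.2.2.2.2.getD t 0) ++ o.2.2.1)) &&
    parEq ((prj o.2.1).map fun t => o.2.2.2.2.getD t 0) (prj o.1)) = true := by decide +kernel

theorem Rep.orb {o : Nat × Nat × List Nat × List Nat × List Nat} (ho : o ∈ kOrb) (hk : o.1 < 13)
    (hr : o.2.1 < 13) :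
    Set.BijOn (R.wa o.2.2.1) (R.E ⟨o.2.1, hr⟩) (R.E ⟨o.1, hk⟩) := by
  have h := List.all_eq_true.1 orb_ok o ho
  simp only [Bool.and_eq_true, List.all_eq_true, List.mem_range, decide_eq_true_eq] at h
  obtain ⟨⟨⟨⟨-, h1⟩, h2⟩, h3⟩, h4⟩ := h
  have key : ∀ v, R.wa o.2.2.1 (R.P ⟨o.2.1, hr⟩ v) = R.P ⟨o.1, hk⟩ (R.wa o.2.2.1 v) := fun v => by
    show R.wa _ (R.sumA _ v) = R.sumA _ _
    rw [← R.sumA_congr h4, Rep.sumA, Rep.sumA, R.wa_sum, List.map_map, List.map_map]
    congr 1
    refine List.map_congr_left fun t ht => ?_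
    show R.wa _ (R.wa _ v) = R.wa _ (R.wa _ v)
    rw [← R.wa_append, ← R.wa_append, R.wa_eqW (h3 t (prj_lt _ hr t ht)).2]
  refine ⟨fun x hx => ?_, fun x _ y _ e => ?_, fun y hy => ⟨R.wa o.2.2.2.1 y, ?_, R.wa_inv h1 y⟩⟩
  · show R.P _ _ = _
    rw [← key, show R.P ⟨o.2.1, hr⟩ x = x from hx]
  · rw [← R.wa_inv h2 x, e, R.wa_inv h2]
  · show R.P _ _ = _
    have := congrArg (R.wa o.2.2.2.1) (key (R.wa o.2.2.2.1 y))
    rw [R.wa_inv h2, R.wa_inv h1, show R.P ⟨o.1, hk⟩ y = y from hy] at this
    exact this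

theorem kinds_ok : (List.range 13).all (fun k => k == kNat || k == kSix || k == kDiff ||
    kOrb.any fun o => o.1 == k) = true := by decide +kernel

theorem card_orbit_eq (k r : Fin 13)
    (h : k = r ∨ ∃ o ∈ kOrb, o.1 = k.1 ∧ o.2.1 = r.1) : Nat.card (R.E k) = Nat.card (R.E r) := by
  rcases h with rfl | ⟨o, ho, h1, h2⟩
  · rfl
  · obtain ⟨o1, o2, o3⟩ := o
    simp only at h1 h2
    subst h1 h2
    exact (Nat.card_congr (R.orb ho k.2 r.2).equiv).symm

theorem faithful_gen : wN (aW 9) 1 ≠ 1 := by decide +kernel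

/-- either four lines of order four, or three lines and a plane of fixed points -/
theorem Rep.sizes [Finite V] :
    (Nat.card R.E0 = 1 ∧ Nat.card (R.E ⟨kNat, by decide⟩) = 4) ∨
      (Nat.card R.E0 = 4 ∧ Nat.card (R.E ⟨kSix, by decide⟩) = 4 ∧
        Nat.card (R.E ⟨kNat, by decide⟩) = 1) := by
  set a := Nat.card (R.E ⟨kNat, by decide⟩) with ha
  set b := Nat.card (R.E ⟨kSix, by decide⟩) with hb
  set c := Nat.card (R.E ⟨kDiff, by decide⟩) with hc
  have hkind : ∀ k : Fin 13, Nat.card (R.E k) =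
      if k.1 ∈ [0, 3, 4, 10] then a else if k.1 ∈ [1, 6, 11] then b else c := by
    intro k
    have hk : (k.1 ∈ [0, 3, 4, 10] ∧ (k.1 = kNat ∨ ∃ o ∈ kOrb, o.1 = k.1 ∧ o.2.1 = kNat)) ∨
        (k.1 ∉ [0, 3, 4, 10] ∧ k.1 ∈ [1, 6, 11] ∧ (k.1 = kSix ∨ ∃ o ∈ kOrb, o.1 = k.1 ∧ o.2.1 = kSix)) ∨
        (k.1 ∉ [0, 3, 4, 10] ∧ k.1 ∉ [1, 6, 11] ∧
          (k.1 = kDiff ∨ ∃ o ∈ kOrb, o.1 = k.1 ∧ o.2.1 = kDiff)) := by
      revert k; decide +kernel
    rcases hk with ⟨h1, h2⟩ | ⟨h1, h1', h2⟩ | ⟨h1, h1', h2⟩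
    · rw [if_pos h1]; exact card_orbit_eq R k ⟨kNat, by decide⟩ (h2.imp_left Fin.ext)
    · rw [if_neg h1, if_pos h1']; exact card_orbit_eq R k ⟨kSix, by decide⟩ (h2.imp_left Fin.ext)
    · rw [if_neg h1, if_neg h1']; exact card_orbit_eq R k ⟨kDiff, by decide⟩ (h2.imp_left Fin.ext)
  have hcard := R.card_parts
  have hprod : (∏ k : Fin 13, Nat.card (R.E k)) = a ^ 4 * b ^ 3 * c ^ 6 := by
    simp only [hkind, Fin.prod_univ_succ, Fin.prod_univ_zero, List.mem_cons, List.not_mem_nil]
    norm_num
    ring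
  rw [hprod] at hcard
  have hF : 0 < Nat.card R.E0 := Nat.pos_of_ne_zero fun e => by simp [e] at hcard
  have ha4 := R.card_E ⟨kNat, by decide⟩
  have hb4 := R.card_E ⟨kSix, by decide⟩
  have hc4 := R.card_E ⟨kDiff, by decide⟩
  rw [← ha] at ha4; rw [← hb] at hb4; rw [← hc] at hc4
  have hle : ∀ n : ℕ, 1 ≤ n → ∀ i, 0 < i → n ≤ n ^ i := fun n hn i hi =>
    le_self_pow₀ hn hi.ne'
  have hc1 : c = 1 := by
    rcases hc4 with h | h
    · exact h
    · have h6 : 4096 ≤ c ^ 6 := le_trans (by norm_num) (Nat.pow_le_pow_left h 6)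
      have : c ^ 6 ≤ 256 := by
        rw [hcard, ← mul_assoc (Nat.card R.E0)]
        exact Nat.le_mul_of_pos_left _ (Nat.mul_pos hF (Nat.mul_pos (pow_pos (by omega) 4) (pow_pos (by omega) 3)))
      omega
  rw [hc1, one_pow, mul_one] at hcard
  rcases ha4 with h1 | h1
  · rw [h1, one_pow, one_mul] at hcard
    rcases hb4 with h2 | h2
    · exfalso
      rw [h2, one_pow, mul_one] at hcard
      have hall : ∀ v, R.P0 v = v := by
        have e : R.E0 = Set.univ := Set.eq_of_subset_of_ncard_le (Set.subset_univ _) (by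
          rw [Set.ncard_univ, R.card, ← Nat.card_coe_set_eq, ← hcard]) (Set.toFinite _)
        exact fun v => (e ▸ Set.mem_univ v : v ∈ R.E0)
      have hA := R.faithful (wS (aW 9)) fun v => by
        show R.wa _ v = v; rw [← hall v, R.wa_P0 (by norm_num)]
      apply faithful_gen
      have h2 := wS_vec (w := aW 9) (by decide +kernel) 1
      rw [hA] at h2
      exact (U62Recog47.vec_inj (by norm_num) (wN_lt _ (by norm_num))
        (by rw [← h2]; exact (Matrix.one_mulVec _).symm)).symm
    · have hb64 : b ^ 3 ≤ 256 := by rw [hcard]; exact Nat.le_mul_of_pos_left _ hF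
      have hb6 : b ≤ 6 := by
        by_contra hb7
        push Not at hb7
        have := Nat.pow_le_pow_left (show 7 ≤ b by omega) 3
        omega
      have hb4' : b = 4 := by
        have hd : b ^ 3 ∣ 256 := ⟨_, hcard.trans (mul_comm _ _)⟩
        interval_cases b <;> first | rfl | norm_num at hd
      exact Or.inr ⟨by rw [hb4'] at hcard; omega, hb4', h1⟩
  · have h44 : 256 ≤ a ^ 4 := le_trans (by norm_num) (Nat.pow_le_pow_left h1 4)
    have hb3 : 1 ≤ b ^ 3 := Nat.one_le_pow _ _ (by omega)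
    have hle1 : a ^ 4 * b ^ 3 ≤ 256 := by rw [hcard]; exact Nat.le_mul_of_pos_left _ hF
    have hle2 : a ^ 4 ≤ 256 := le_trans (Nat.le_mul_of_pos_right _ hb3) hle1
    have ha4' : a = 4 := by
      by_contra hne
      have := Nat.pow_le_pow_left (show 5 ≤ a by omega) 4
      omega
    refine Or.inl ⟨?_, ha4'⟩
    rw [ha4'] at hcard
    have : 256 * (b ^ 3 * Nat.card R.E0) = 256 * 1 := by rw [mul_one]; linear_combination -hcard
    exact Nat.eq_one_of_mul_eq_one_left (Nat.eq_of_mul_eq_mul_left (by norm_num) this)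

end Cfsg.Agent.Lib.U62Cent47
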