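import Cfsg.Agent.Lib.U62Cent47.Local
import Cfsg.Agent.Lib.U62Cent47.Fused

/-!
Fusion, first step: the partner of a conjugate of `z` in `J` again lies in `J`.

Owner: helper47.
-/

set_option autoImplicit false
set_option maxRecDepth 20000

open scoped commutatorElement

namespace Cfsg.Agent.Lib.U62Cent47

universe u

variable {G : Type u} [Group G] {z : G} (C : Ctx z)

theorem isotropic_count :
    ((List.range 256).filter fun n => n != 0 && !qB 2 n).length = 135 := by decide +kernel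

theorem g5W_ok : (eqW (g5W ++ g5W ++ g5W ++ g5W ++ g5W) [] && !eqW g5W [] && w6 g5W 0 == 0 &&
    g5W.all (fun a => ptsL.contains a)) = true := by decide +kernel

theorem six_bits : ∀ y < 64, ∀ n < 256, (y ||| (n &&& 192)) &&& 63 = y ∧
    (y ||| (n &&& 192)) &&& 192 = n &&& 192 ∧ y ||| (n &&& 192) < 256 ∧
    (y = n &&& 63 → y ||| (n &&& 192) = n) := by decide +kernel

theorem six_rep_bits : ∀ n < 256, n &&& 63 < 64 ∧ ∀ m < 2,
    qB m ((bif qB 0 (n &&& 63) then 1 else 5) ||| (n &&& 192)) = qB m n := by decide +kernel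

include C in
/-- a conjugate of `z` is an involution -/
theorem Ctx.cls_sq {x : G} (hx : x ∈ cls z) : x * x = 1 ∧ x ≠ 1 := by
  obtain ⟨g, rfl⟩ := hx
  refine ⟨by rw [show g * z * g⁻¹ * (g * z * g⁻¹) = g * (z * z) * g⁻¹ by group, C.z_mul_self]; group, fun e => ?_⟩
  exact C.z_ne_one (by rw [show z = g⁻¹ * (g * z * g⁻¹) * g by group, e]; group)

/-- the code of a conjugate of `z` in `J` -/
theorem Ctx.cls_code {x : G} (hx : x ∈ cls z) (hJ : x ∈ C.J) (hne : x ≠ z) :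
    C.π x ≠ 0 ∧ qB C.m (C.π x) = false := by
  obtain ⟨h2, h1⟩ := C.cls_sq hx
  refine ⟨fun h => ((C.π_eq_zero x hJ).1 h).elim h1 hne, ?_⟩
  have h := C.sq x hJ
  rw [h2] at h
  by_contra hq
  rw [Bool.not_eq_false] at hq
  rw [if_pos hq] at h
  exact C.z_ne_one h.symm

/-- a member of `J` pairing with `x` -/
theorem Ctx.exists_flip {x : G} (hx : x ∈ C.J) (h0 : C.π x ≠ 0) : ∃ j ∈ C.J, j * x * j⁻¹ = z * x := by
  obtain ⟨i, hi, hb⟩ := exists_pair C.hm (C.π_lt x hx) h0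
  obtain ⟨j, hj, hπ⟩ := C.π_surj (2 ^ i) (pow_lt hi)
  refine ⟨j, hj, ?_⟩
  have hb' : bB C.m (C.π j) (C.π x) = true := by
    rw [hπ]; simp only [bB] at hb ⊢; rw [Nat.xor_comm]
    revert hb; cases qB C.m (C.π x ^^^ 2 ^ i) <;> cases qB C.m (C.π x) <;> cases qB C.m (2 ^ i) <;> simp
  rw [C.conj_eq hj hx, hb']; rfl

/-- lifting a word that carries the code of `x` to the code of `y` -/
theorem Ctx.move {x y : G} (hx : x ∈ C.J) (hy : y ∈ C.J) (h0 : C.π y ≠ 0) {w : List Nat} (hw : OkW w)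
    (e : wM C.m w (C.π x) = C.π y) : ∃ h, ∃ hh : h ∈ C.H0, h * x * h⁻¹ = y ∧ C.φ ⟨h, hh⟩ = wS w := by
  obtain ⟨h, hh, hφ⟩ := C.exists_lift (wS w)
  have hc : h * x * h⁻¹ ∈ C.J := C.J_conj h (C.H0_le hh) x hx
  have hπ : C.π y = C.π (h * x * h⁻¹) := by rw [C.π_conj hh hw hφ.symm hx, e]
  rcases (C.π_eq_iff hy hc).1 hπ with e1 | e1
  · exact ⟨h, hh, e1, hφ⟩
  · obtain ⟨j, hj, hjc⟩ := C.exists_flip hc (by rw [← hπ]; exact h0)
    refine ⟨j * h, mul_mem (C.J_le hj) hh, ?_, ?_⟩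
    · rw [show j * h * x * (j * h)⁻¹ = j * (h * x * h⁻¹) * j⁻¹ by group, hjc, e1, ← mul_assoc,
        ← C.comm_z hy, mul_assoc, C.z_mul_self, mul_one]
    · rw [show (⟨j * h, mul_mem (C.J_le hj) hh⟩ : ↥C.H0) = ⟨j, C.J_le hj⟩ * ⟨h, hh⟩ from rfl, map_mul,
        (C.φ_ker _).2 hj, one_mul, hφ]

variable [Finite G]

/-- the orbit of `x` under the centraliser -/
def Orb (z x : G) : Set G := {a | ∃ h ∈ Cen z, h * x * h⁻¹ = a}

omit [Finite G] in
theorem orb_mul (x : G) : (Orb z x).ncard * Nat.card ↥(cenPair z x) = Nat.card ↥(Cen z) :=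
  card_orbit_mul (Cen z) x

theorem orb_star (g : G) : (Orb z (g * z * g⁻¹)).ncard = (Orb z (g⁻¹ * z * g)).ncard := by
  have h1 := orb_mul (z := z) (g * z * g⁻¹)
  rw [card_cenPair_star, ← orb_mul (z := z) (g⁻¹ * z * g)] at h1
  exact Nat.eq_of_mul_eq_mul_right Nat.card_pos h1

/-- the orbit under `J` divides the orbit under the centraliser -/
theorem Ctx.jorb_dvd (x : G) : {a : G | ∃ j ∈ C.J, j * x * j⁻¹ = a}.ncard ∣ (Orb z x).ncard := by
  have h1 := orb_mul (z := z) x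
  have h2 := card_orbit_mul C.J x
  set J' := C.J.subgroupOf (Cen z) with hJ'
  have hn : J'.Normal := ⟨fun a ha h => Subgroup.mem_subgroupOf.2 (C.J_conj h h.2 a (Subgroup.mem_subgroupOf.1 ha))⟩
  let f : ↥(cenPair z x) →* ↥(Cen z) ⧸ J' :=
    (QuotientGroup.mk' J').comp (Subgroup.inclusion (show cenPair z x ≤ Cen z from inf_le_left))
  have hk : Nat.card f.ker = Nat.card ↥(C.J ⊓ Cen x) := by
    refine Nat.card_congr
      { toFun := fun h => ⟨h.1.1, ?_, (Subgroup.mem_inf.1 h.1.2).2⟩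
        invFun := fun h => ⟨⟨h.1, C.J_cen h.2.1, h.2.2⟩, ?_⟩
        left_inv := fun h => rfl
        right_inv := fun h => rfl }
    · exact Subgroup.mem_subgroupOf.1 ((QuotientGroup.eq_one_iff (N := J') _).1 (MonoidHom.mem_ker.1 h.2))
    · exact MonoidHom.mem_ker.2 ((QuotientGroup.eq_one_iff (N := J') _).2 (Subgroup.mem_subgroupOf.2 h.2.1))
  have h3 := Subgroup.card_eq_card_quotient_mul_card_subgroup f.ker
  rw [Nat.card_congr (QuotientGroup.quotientKerEquivRange f).toEquiv, hk] at h3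
  obtain ⟨c, hc⟩ := Subgroup.card_subgroup_dvd_card f.range
  have h4 := Subgroup.card_eq_card_quotient_mul_card_subgroup J'
  rw [Nat.card_congr (Subgroup.subgroupOfEquivOfLe (fun a ha => C.J_cen ha)).toEquiv, hc, ← h2] at h4
  refine ⟨c, Nat.eq_of_mul_eq_mul_right (Nat.card_pos : 0 < Nat.card ↥(cenPair z x)) ?_⟩
  rw [h1, h4, h3]
  ring

/-- an involution of `H0` outside `J` has an orbit of size divisible by four -/
theorem Ctx.four_dvd_jorb (F : FactsProp) {x : G} (hx : x ∈ C.H0) (hJ : x ∉ C.J) (hs : x * x = 1) :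
    4 ∣ {a : G | ∃ j ∈ C.J, j * x * j⁻¹ = a}.ncard := by
  have h2 := card_orbit_mul C.J x
  rw [C.card_J] at h2
  obtain ⟨w, hw, hwe⟩ := C.exists_word ⟨x, hx⟩
  have hsq : wS w * wS w = 1 := by
    rw [hwe, ← map_mul, show (⟨x, hx⟩ : ↥C.H0) * ⟨x, hx⟩ = 1 from Subtype.ext hs, map_one]
  have hne : wS w ≠ 1 := fun e => hJ ((C.φ_ker ⟨x, hx⟩).1 (hwe.symm.trans e))
  have hf := (F.2.2.1.1 w hw hsq hne C.m C.hm).1
  have hle : Nat.card ↥(C.J ⊓ Cen x) ≤ 128 := by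
    calc Nat.card ↥(C.J ⊓ Cen x) = (↑(C.J ⊓ Cen x) : Set G).ncard := Nat.card_coe_set_eq _
      _ ≤ {a : G | a ∈ C.J ∧ (wM C.m w (C.π a) == C.π a) = true}.ncard :=
          Set.ncard_le_ncard fun a ha => ⟨ha.1, beq_iff_eq.2 (by
            rw [← C.π_conj hx hw hwe ha.1, ← mem_cen.1 ha.2, mul_inv_cancel_right])⟩
      _ = 2 * ((List.range 256).filter fun n => wM C.m w n == n).length :=
          C.card_code fun n => wM C.m w n == n
      _ ≤ 128 := by omega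
  have hd : {a : G | ∃ j ∈ C.J, j * x * j⁻¹ = a}.ncard ∣ 2 ^ 9 := by
    rw [show (2 : ℕ) ^ 9 = 512 by norm_num]
    exact Dvd.intro _ h2
  obtain ⟨k, hk, e⟩ := (Nat.dvd_prime_pow Nat.prime_two).1 hd
  rw [e] at h2 ⊢
  have : 2 ≤ k := by
    by_contra hlt
    have : 2 ^ k ≤ 2 := by
      calc 2 ^ k ≤ 2 ^ 1 := Nat.pow_le_pow_right (by norm_num) (by omega)
        _ = 2 := by norm_num
    nlinarith
  exact pow_dvd_pow 2 this

/-- the orbit of a singular member of `J` in the natural case -/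
theorem Ctx.orb_natural (F : FactsProp) (hm : C.m = 2) {x : G} (hx : x ∈ C.J) (h0 : C.π x ≠ 0)
    (hq : qB C.m (C.π x) = false) : (Orb z x).ncard = 270 := by
  obtain ⟨a₀, ha₀, hπ⟩ := C.π_surj 5 (by norm_num)
  have key : ∀ a ∈ C.J, C.π a ≠ 0 → qB C.m (C.π a) = false → ∃ h ∈ C.H0, h * a₀ * h⁻¹ = a := by
    intro a ha h0 hq
    rw [hm] at hq
    obtain ⟨w, hw, e⟩ := F.1.1 _ (C.π_lt a ha) h0 hq
    obtain ⟨h, hh, e', -⟩ := C.move ha₀ ha h0 hw (by rw [hπ, hm, wM_two, e])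
    exact ⟨h, hh, e'⟩
  have e : Orb z x = {a : G | a ∈ C.J ∧ (C.π a != 0 && !qB 2 (C.π a)) = true} := by
    ext a
    simp only [Orb, Set.mem_setOf_eq, Bool.and_eq_true, bne_iff_ne, Bool.not_eq_true']
    constructor
    · rintro ⟨h, hh, rfl⟩
      have hc := C.J_conj h hh x hx
      have hsq := C.sq _ hc
      rw [show h * x * h⁻¹ * (h * x * h⁻¹) = h * (x * x) * h⁻¹ by group, C.sq x hx, hq] at hsq
      simp only [Bool.false_eq_true, if_false, mul_one, mul_inv_cancel] at hsq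
      refine ⟨hc, fun h1 => ?_, ?_⟩
      · rcases (C.π_eq_zero _ hc).1 h1 with e | e
        · exact h0 (by rw [show x = h⁻¹ * (h * x * h⁻¹) * h by group, e, mul_one, inv_mul_cancel, C.π_one])
        · exact h0 (by
            rw [show x = h⁻¹ * (h * x * h⁻¹) * h by group, e, mul_assoc, ← mem_cen.1 hh, ← mul_assoc,
              inv_mul_cancel, one_mul, C.π_z])
      · rw [← hm]
        by_contra hne
        rw [Bool.not_eq_false] at hne
        rw [if_pos hne] at hsq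
        exact C.z_ne_one hsq.symm
    · rintro ⟨ha, h1, h2⟩
      obtain ⟨p, hp, ep⟩ := key x hx h0 hq
      obtain ⟨r, hr, er⟩ := key a ha h1 (by rw [hm]; exact h2)
      exact ⟨r * p⁻¹, C.H0_le (mul_mem hr (inv_mem hp)), by rw [← ep, ← er]; group⟩
  rw [e, C.card_code (fun n => n != 0 && !qB 2 n), isotropic_count]

/-- in the six-dimensional models five divides the centraliser of a singular member of `J` -/
theorem Ctx.five_six (F : FactsProp) (hm : C.m < 2) {x : G} (hx : x ∈ C.J) (h0 : C.π x ≠ 0) :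
    5 ∣ Nat.card ↥(cenPair z x) := by
  have fin : ∀ h (hh : h ∈ C.H0), orderOf (C.φ ⟨h, hh⟩) = 5 → h * x = x * h →
      5 ∣ Nat.card ↥(cenPair z x) := by
    intro h hh h5 hc
    have h1 : 5 ∣ orderOf h := by
      rw [show orderOf h = orderOf (⟨h, hh⟩ : ↥C.H0) from Subgroup.orderOf_coe ⟨h, hh⟩, ← h5]
      exact orderOf_map_dvd C.φ _
    refine h1.trans ?_
    rw [show orderOf h = orderOf (⟨h, C.H0_le hh, mem_cen.2 hc⟩ : ↥(cenPair z x)) from
      Subgroup.orderOf_coe (⟨h, C.H0_le hh, mem_cen.2 hc⟩ : ↥(cenPair z x))]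
    exact orderOf_dvd_natCard _
  have hv := C.π_lt x hx
  set v := C.π x with hve
  obtain ⟨hy, hrep⟩ := six_rep_bits v hv
  by_cases hy0 : v &&& 63 = 0
  · have h := g5W_ok
    simp only [Bool.and_eq_true, Bool.not_eq_true', beq_iff_eq, List.all_eq_true, List.contains_iff_mem] at h
    obtain ⟨⟨⟨h5, h1⟩, h6⟩, hw⟩ := h
    obtain ⟨f, hf, hfx, hfφ⟩ := C.move hx hx h0 hw (by
      rw [← hve, wM_six hm _ _ hv, hy0, h6]
      exact (six_bits 0 (by norm_num) v hv).2.2.2 hy0.symm)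
    exact fin f hf (by rw [hfφ]; exact five_order h5 h1 hw) (mul_inv_eq_iff_eq_mul.1 hfx)
  · obtain ⟨w, hw, ew⟩ := F.1.2 _ hy hy0
    obtain ⟨f5, r, hf5, hr, hr6⟩ : ∃ f5 r, (f5, r) ∈ [(five27, 5), (five36, 1)] ∧
        r = (bif qB 0 (v &&& 63) then 1 else 5) ∧ r < 64 := by
      cases qB 0 (v &&& 63)
      · exact ⟨_, _, List.mem_cons_self, rfl, by norm_num⟩
      · exact ⟨_, _, List.mem_cons_of_mem _ List.mem_cons_self, rfl, by norm_num⟩
    have h := List.all_eq_true.1 five_ok _ hf5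
    simp only [Bool.and_eq_true, Bool.not_eq_true', beq_iff_eq] at h
    obtain ⟨⟨hfix, h5⟩, h1⟩ := h
    have hwf : OkW f5 := by
      simp only [eqW, Bool.and_eq_true, List.all_eq_true, List.contains_iff_mem] at h5
      exact fun a ha => h5.1.1 a (by simp [ha])
    obtain ⟨hb1, hb2, hb3, -⟩ := six_bits r hr6 v hv
    obtain ⟨a, ha, hπa⟩ := C.π_surj _ hb3
    have ha0 : C.π a ≠ 0 := fun e => by
      have : r = 0 := by rw [hπa] at e; rw [← hb1, e, Nat.zero_and]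
      rw [this] at hr
      cases hq : qB 0 (v &&& 63) <;> simp [hq] at hr
    obtain ⟨k, hk, hkx, -⟩ := C.move ha hx h0 hw (by
      rw [hπa, wM_six hm _ _ hb3, hb1, hb2, hr, ew, ← hve]
      exact (six_bits _ hy v hv).2.2.2 rfl)
    obtain ⟨f, hf, hfa, hfφ⟩ := C.move ha ha ha0 hwf (by
      rw [hπa, wM_six hm _ _ hb3, hb1, hb2, hfix])
    refine fin (k * f * k⁻¹) (mul_mem (mul_mem hk hf) (inv_mem hk)) ?_ ?_
    · rw [show (⟨k * f * k⁻¹, mul_mem (mul_mem hk hf) (inv_mem hk)⟩ : ↥C.H0) = MulAut.conj ⟨k, hk⟩ ⟨f, hf⟩ from rfl]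
      rw [MulAut.conj_apply, map_mul, map_mul, hfφ, map_inv, ← MulAut.conj_apply, MulEquiv.orderOf_eq]
      exact five_order h5 h1 hwf
    · rw [← hkx]
      have := mul_inv_eq_iff_eq_mul.1 hfa
      calc k * f * k⁻¹ * (k * a * k⁻¹) = k * (f * a) * k⁻¹ := by group
        _ = _ := by rw [this]; group

/-- no element of order five centralises an involution of `H0` outside `J` -/
theorem Ctx.not_five (F : FactsProp) {x : G} (hx : x ∈ C.H0) (hJ : x ∉ C.J) (hs : x * x = 1) :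
    ¬ 5 ∣ Nat.card ↥(cenPair z x) := by
  have : Fact (Nat.Prime 5) := ⟨by norm_num⟩
  have : Fact (Nat.Prime 2) := ⟨Nat.prime_two⟩
  intro h5
  obtain ⟨⟨f, hfz, hfx⟩, hf⟩ := exists_prime_orderOf_dvd_card' 5 h5
  rw [show orderOf (⟨f, hfz, hfx⟩ : ↥(cenPair z x)) = orderOf f from (Subgroup.orderOf_coe _).symm] at hf
  have hf5 : f ^ 5 = 1 := by rw [← hf]; exact pow_orderOf_eq_one f
  have hf0 : f ∈ C.H0 := by
    rw [show f = f ^ 3 * f ^ 3 by rw [← pow_add, show 3 + 3 = 5 + 1 by norm_num, pow_succ, hf5, one_mul]]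
    exact C.H0_sq _ (pow_mem hfz 3)
  have hoB : orderOf (C.φ ⟨f, hf0⟩) = 5 := by
    refine orderOf_eq_prime ?_ fun e => ?_
    · rw [← map_pow, show (⟨f, hf0⟩ : ↥C.H0) ^ 5 = 1 from Subtype.ext (by simpa using hf5), map_one]
    · have hJf : f ∈ C.J := (C.φ_ker _).1 e
      have h4 : f ^ 4 = 1 := by
        rw [show f ^ 4 = (f * f) * (f * f) by simp [pow_succ, mul_assoc], C.sq f hJf]
        split <;> simp [C.z_mul_self]
      rw [pow_succ, h4, one_mul] at hf5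
      rw [hf5, orderOf_one] at hf
      exact absurd hf (by norm_num)
  have hoA : orderOf (C.φ ⟨x, hx⟩) = 2 := by
    refine orderOf_eq_prime ?_ fun e => hJ ((C.φ_ker _).1 e)
    rw [← map_pow, show (⟨x, hx⟩ : ↥C.H0) ^ 2 = 1 from Subtype.ext (by simpa [pow_two] using hs), map_one]
  refine F.2.2.2.2.2.1 _ _ hoA hoB ?_
  exact (Commute.map (show Commute (⟨x, hx⟩ : ↥C.H0) ⟨f, hf0⟩ from
    Subtype.ext (mem_cen.1 hfx).symm) C.φ)

omit [Finite G] in
/-- commutators of the centraliser lie in `H0` -/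
theorem Ctx.comm_mem_H0 {h k : G} (hh : h ∈ Cen z) (hk : k ∈ Cen z) : h * k * h⁻¹ * k⁻¹ ∈ C.H0 := by
  have e : h * k * h⁻¹ * k⁻¹ = (h * k) * (h * k) * (k⁻¹ * (h⁻¹ * h⁻¹) * k⁻¹⁻¹) * (k⁻¹ * k⁻¹) := by group
  rw [e]
  exact mul_mem (mul_mem (C.H0_sq _ (mul_mem hh hk))
    (C.H0_conj _ (inv_mem hk) _ (C.H0_sq _ (inv_mem hh)))) (C.H0_sq _ (inv_mem hk))

omit [Finite G] in
theorem cen_conj {g a : G} (ha : a * (g * z * g⁻¹) = g * z * g⁻¹ * a) : g⁻¹ * a * g ∈ Cen z := by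
  rw [mem_cen]
  calc g⁻¹ * a * g * z = g⁻¹ * (a * (g * z * g⁻¹)) * g := by group
    _ = _ := by rw [ha]; group

omit [Finite G] in
/-- the partner of a conjugate in `J` lies in `H0` -/
theorem Ctx.star_H0 {g : G} (hJ : g * z * g⁻¹ ∈ C.J) : g⁻¹ * z * g ∈ C.H0 := by
  obtain ⟨j, hj, hjv, k, hk, hkv, hjk⟩ := exists_perp_pair C.hm (C.π_lt _ hJ)
  obtain ⟨a, ha, rfl⟩ := C.π_surj j hj
  obtain ⟨b, hb, rfl⟩ := C.π_surj k hk
  have hab := C.comm a ha b hb
  rw [if_pos hjk] at hab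
  have e : g⁻¹ * z * g =
      g⁻¹ * a * g * (g⁻¹ * b * g) * (g⁻¹ * a * g)⁻¹ * (g⁻¹ * b * g)⁻¹ := by
    rw [← hab, commutatorElement_def]; group
  rw [e]
  exact C.comm_mem_H0 (cen_conj ((C.commute_iff hJ ha).2 hjv).symm.eq)
    (cen_conj ((C.commute_iff hJ hb).2 hkv).symm.eq)

/-- the partner of a conjugate in `J` lies in `J` -/
theorem Ctx.star_J (F : FactsProp) {g : G} (hJ : g * z * g⁻¹ ∈ C.J) (hne : g * z * g⁻¹ ≠ z) :
    g⁻¹ * z * g ∈ C.J := by
  obtain ⟨h0, hq⟩ := C.cls_code ⟨g, rfl⟩ hJ hne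
  obtain ⟨hs, -⟩ := C.cls_sq (x := g⁻¹ * z * g) ⟨g⁻¹, by group⟩
  have h0' := C.star_H0 hJ
  by_contra hn
  by_cases hm : C.m < 2
  · have h5 := C.five_six F hm hJ h0
    rw [card_cenPair_star] at h5
    exact C.not_five F h0' hn hs h5
  · have h4 := (C.four_dvd_jorb F h0' hn hs).trans (C.jorb_dvd _)
    rw [← orb_star, C.orb_natural F (by have := C.hm; omega) hJ h0 hq] at h4
    norm_num at h4

end Cfsg.Agent.Lib.U62Cent47
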